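import Cfsg.Agent.H28.TypeR.BlockSigma
import Cfsg.Agent.H64.Ward.Quintic

/-!
# Arithmetic of the shapes of one lattice

`M = Q² - Q + 1`, `Q = 2h + 1`.
-/

set_option autoImplicit false

namespace Cfsg.Agent.H28.TypeR.Block

/-- `Q² - Q + 1` is not a square. -/
theorem not_square {Q n : ℤ} (hQ : Q ≤ -2 ∨ 2 ≤ Q) : n ^ 2 ≠ Q ^ 2 - Q + 1 := by
  intro e
  obtain ⟨N, hN, e'⟩ : ∃ N : ℤ, 0 ≤ N ∧ N ^ 2 = Q ^ 2 - Q + 1 := ⟨|n|, abs_nonneg n, by rw [sq_abs, e]⟩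
  rcases hQ with h | h
  · rcases (by omega : N ≤ -Q ∨ -Q + 1 ≤ N) with h' | h' <;> nlinarith
  · rcases (by omega : N ≤ Q - 1 ∨ Q ≤ N) with h' | h' <;> nlinarith

/-- In the pair shape with a row of degree one the other one is not of degree one. -/
theorem ne_one {h A B C : ℤ} (hh : 5 ≤ h ∨ h ≤ -7) (hBC : 1 + A = B + C)
    (hE : B * C * (1 + A) - h ^ 2 * A * (1 + A) + 4 * h ^ 2 * (h - 1) * A * C = 0) : A ≠ 1 := by
  rintro rfl
  obtain ⟨N, hN⟩ : ∃ N, N = 1 + h ^ 2 * (h - 1) := ⟨_, rfl⟩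
  obtain rfl : B = 2 - C := by linarith
  have hsq : (C - N) ^ 2 = N ^ 2 - h ^ 2 := by subst hN; linarith
  obtain ⟨M, hM0, hMsq⟩ : ∃ M : ℤ, 0 ≤ M ∧ M ^ 2 = N ^ 2 - h ^ 2 :=
    ⟨|C - N|, abs_nonneg _, by rw [sq_abs, hsq]⟩
  rcases hh with hpos | hneg
  · have hbig : h ^ 2 * 4 ≤ N := by subst hN; nlinarith
    have hM1 : M ≤ N - 1 := by
      by_contra hc
      nlinarith [not_le.1 hc]
    nlinarith
  · have hbig : h ^ 2 * 4 ≤ -N := by subst hN; nlinarith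
    have hM1 : M ≤ -N - 1 := by
      by_contra hc
      nlinarith [not_le.1 hc]
    nlinarith

/-- The eight-row pair shape of a twisted lattice. -/
theorem no_interval {h m a A C : ℤ} (hm : h + 1 = 2 * m) (hmo : Odd m) (hh : 13 ≤ h)
    (ha : a ≠ 1) (hA : A ≠ 1) (ha8 : 8 ∣ a - 1) (ham : m ∣ a - 1) (hA8 : 8 ∣ A - 1)
    (hAm : m ∣ A - 1) (hC8 : 8 ∣ C - h) (hCm : m ∣ C + 1) (hC : C ≠ 0)
    (e : (h : ℚ) ^ 2 / C - 1 / (a : ℚ) - 1 / (A : ℚ) =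
      -((h : ℚ) * (4 * h - 5)) / (4 * (h : ℚ) ^ 2 + 2 * h + 1)) : False := by
  have h8m : IsCoprime (8 : ℤ) m := by
    obtain ⟨r, hr⟩ := hmo
    have h2 : IsCoprime (2 : ℤ) m := ⟨-r, 1, by rw [hr]; ring⟩
    have := h2.pow_left (m := 3)
    norm_num at this
    exact this
  have small : ∀ x : ℤ, x ≠ 1 → 8 ∣ x - 1 → m ∣ x - 1 →
      |1 / (x : ℚ)| * (4 * (h : ℚ) + 3) ≤ 1 := by
    intro x hx h1 h2
    obtain ⟨i, hi⟩ := h8m.mul_dvd h1 h2
    have hi0 : i ≠ 0 := by rintro rfl; exact hx (by linarith)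
    have hbig : 4 * h + 3 ≤ |x| := by
      rcases lt_or_gt_of_ne hi0 with h' | h'
      · have := mul_le_mul_of_nonneg_left (show i ≤ -1 by omega) (show (0 : ℤ) ≤ 8 * m by omega)
        rw [abs_of_neg (by linarith)]; linarith
      · have := mul_le_mul_of_nonneg_left (show 1 ≤ i by omega) (show (0 : ℤ) ≤ 8 * m by omega)
        rw [abs_of_pos (by linarith)]; linarith
    have hq : (4 * (h : ℚ) + 3) ≤ |(x : ℚ)| := by exact_mod_cast hbig
    have hpos : 0 < |(x : ℚ)| := by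
      have : (0 : ℚ) < 4 * h + 3 := by exact_mod_cast (by omega : (0 : ℤ) < 4 * h + 3)
      linarith
    rw [abs_div, abs_one, one_div, inv_mul_le_one₀ hpos]
    exact hq
  have sa := small a ha ha8 ham
  have sA := small A hA hA8 hAm
  have hq13 : (13 : ℚ) ≤ h := by exact_mod_cast hh
  have hM : (0 : ℚ) < 4 * (h : ℚ) ^ 2 + 2 * h + 1 := by positivity
  obtain ⟨d, hd⟩ : ∃ d : ℚ, d = 1 / (a : ℚ) + 1 / (A : ℚ) := ⟨_, rfl⟩
  have hd1 : d * (4 * (h : ℚ) + 3) ≤ 2 := by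
    rw [hd]; nlinarith [le_abs_self (1 / (a : ℚ)), le_abs_self (1 / (A : ℚ))]
  have hd2 : -2 ≤ d * (4 * (h : ℚ) + 3) := by
    rw [hd]; nlinarith [neg_abs_le (1 / (a : ℚ)), neg_abs_le (1 / (A : ℚ))]
  have qC : (C : ℚ) ≠ 0 := by exact_mod_cast hC
  have key : (h : ℚ) ^ 2 * (4 * (h : ℚ) ^ 2 + 2 * h + 1) =
      (C : ℚ) * (d * (4 * (h : ℚ) ^ 2 + 2 * h + 1) - (h : ℚ) * (4 * h - 5)) := by
    have e' : (h : ℚ) ^ 2 / C =
        (d * (4 * (h : ℚ) ^ 2 + 2 * h + 1) - (h : ℚ) * (4 * h - 5)) /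
          (4 * (h : ℚ) ^ 2 + 2 * h + 1) := by
      rw [sub_div, mul_div_cancel_right₀ _ hM.ne', hd]; linear_combination e
    rw [div_eq_div_iff qC hM.ne'] at e'
    linear_combination e'
  obtain ⟨F, hF⟩ : ∃ F : ℚ, F = (h : ℚ) * (4 * h - 5) - d * (4 * (h : ℚ) ^ 2 + 2 * h + 1) :=
    ⟨_, rfl⟩
  have hF1 : ((h : ℚ) * (4 * h - 5)) * (4 * h + 3) - 2 * (4 * (h : ℚ) ^ 2 + 2 * h + 1) ≤
      F * (4 * h + 3) := by
    rw [hF]; nlinarith [mul_le_mul_of_nonneg_right hd1 hM.le]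
  have hF2 : F * (4 * h + 3) ≤
      ((h : ℚ) * (4 * h - 5)) * (4 * h + 3) + 2 * (4 * (h : ℚ) ^ 2 + 2 * h + 1) := by
    rw [hF]; nlinarith [mul_le_mul_of_nonneg_right hd2 hM.le]
  have hFpos : 0 < F := by
    by_contra hc
    nlinarith [mul_nonneg (show (0 : ℚ) ≤ -F by linarith) (show (0 : ℚ) ≤ 4 * h + 3 by linarith)]
  have key' : (h : ℚ) ^ 2 * (4 * (h : ℚ) ^ 2 + 2 * h + 1) = -(C : ℚ) * F := by
    rw [key, hF]; ring
  have up : C + h ^ 2 < h + 1 := by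
    by_contra hc
    have hc' : -(C : ℚ) ≤ (h : ℚ) ^ 2 - h - 1 := by
      exact_mod_cast (by linarith : -C ≤ h ^ 2 - h - 1)
    nlinarith [mul_le_mul_of_nonneg_right hc' hFpos.le,
      mul_le_mul_of_nonneg_left hF2 (show (0 : ℚ) ≤ (h : ℚ) ^ 2 - h - 1 by nlinarith)]
  have low : -(3 * (h + 1)) < C + h ^ 2 := by
    by_contra hc
    have hc' : (h : ℚ) ^ 2 + 3 * h + 3 ≤ -(C : ℚ) := by
      exact_mod_cast (by linarith : h ^ 2 + 3 * h + 3 ≤ -C)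
    nlinarith [mul_le_mul_of_nonneg_right hc' hFpos.le,
      mul_le_mul_of_nonneg_left hF1 (show (0 : ℚ) ≤ (h : ℚ) ^ 2 + 3 * h + 3 by nlinarith)]
  obtain ⟨i, hi⟩ : m ∣ C + h ^ 2 := by
    obtain ⟨c, hc⟩ := hCm
    exact ⟨c + 4 * m - 4, by rw [show h = 2 * m - 1 by linarith]; linear_combination hc⟩
  have h8 : 8 ∣ m * (i - 2) := by
    obtain ⟨c, hc⟩ := hC8
    obtain ⟨r, rfl⟩ := hmo
    refine ⟨c + (2 * r ^ 2 + r) - 0, ?_⟩
    obtain rfl : h = 4 * r + 1 := by linarith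
    linear_combination hc - hi
  obtain ⟨l, hl⟩ := h8m.dvd_of_dvd_mul_left h8
  have : -6 < i := by
    by_contra hc
    nlinarith [mul_le_mul_of_nonneg_left (not_lt.1 hc) (show (0 : ℤ) ≤ m by omega)]
  have : i < 2 := by
    by_contra hc
    nlinarith [mul_le_mul_of_nonneg_left (not_lt.1 hc) (show (0 : ℤ) ≤ m by omega)]
  omega

/-- The seven-row pair shape of a twisted lattice: `A'`, `u'`, `T'`, `Z'` are the integers
`Q² M v / x` of the four degrees. -/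
theorem no_seven {Q h A' u' T' Z' : ℤ} (hQ : Q = 2 * h + 1) (hh : 13 ≤ h) (hA : A' ≠ 0)
    (hu : u' ≠ 0)
    (e0 : A' + (Q + 1) * u' + Q * T' = Q * (Q - 1) ^ 2 * (Q + 1))
    (e1 : A' + (h + 1) * u' - 2 * h * Z' = h * (4 * h - 5) * Q ^ 2)
    (eT : Q * A' * u' + T' * u' + (Q + 1) * T' * A' = 0)
    (eZ : (h * A' * u' + Q ^ 2 * u' + (1 + h) * Q ^ 2 * A') * Z' = 2 * h * Q ^ 2 * A' * u') :
    False := by
  have dq : Q ∣ A' + u' :=
    ⟨-u' - T' + (Q - 1) ^ 2 * (Q + 1), by linear_combination e0⟩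
  have dh : h ∣ A' + u' := ⟨-u' + 2 * Z' + (4 * h - 5) * Q ^ 2, by linear_combination e1⟩
  have hco : IsCoprime Q h := ⟨1, -2, by rw [hQ]; ring⟩
  obtain ⟨s, hs⟩ := hco.mul_dvd dq dh
  have hQ0 : Q ≠ 0 := by omega
  have hT : T' = A' + (Q + 1) * h * (4 * h - s) := by
    refine mul_left_cancel₀ hQ0 ?_
    rw [hQ] at *
    linear_combination e0 - (2 * h + 2) * hs
  have h4 : 4 * A' + s * (4 * h - s) = 0 := by
    have : (Q + 1) * Q * h ^ 2 * (4 * A' + s * (4 * h - s)) = 0 := by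
      obtain rfl : u' = Q * h * s - A' := by linarith
      rw [hT] at eT
      linear_combination eT
    exact (mul_eq_zero.1 this).resolve_left
      (mul_ne_zero (mul_ne_zero (by omega) hQ0) (pow_ne_zero 2 (by omega)))
  obtain ⟨x, rfl⟩ : 2 ∣ s := by
    have h2 : (2 : ℤ) ∣ s * s := ⟨2 * A' + 2 * h * s, by linear_combination -h4⟩
    rcases Int.prime_two.dvd_or_dvd h2 with h | h <;> exact h
  have hA' : A' = x * (x - 2 * h) := by linarith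
  have hu' : u' = x * (2 * h * (Q + 1) - x) := by rw [hA'] at hs; linear_combination hs
  have hx : x ≠ 0 := fun e => hu (by rw [hu', e, zero_mul])
  have hsig : h ^ 2 * x * sigmaPoly h x = 0 := by
    have : (h * A' * u' + Q ^ 2 * u' + (1 + h) * Q ^ 2 * A') *
        (A' + (h + 1) * u' - h * (4 * h - 5) * Q ^ 2) = 4 * h ^ 2 * Q ^ 2 * A' * u' := by
      linear_combination (2 * h) * eZ +
        (h * A' * u' + Q ^ 2 * u' + (1 + h) * Q ^ 2 * A') * e1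
    subst hA' hu' hQ
    simp only [sigmaPoly]
    linear_combination this
  exact sigmaPoly_ne_zero h x hh ((mul_eq_zero.1 hsig).resolve_left
    (mul_ne_zero (pow_ne_zero 2 (by omega)) hx))

end Cfsg.Agent.H28.TypeR.Block
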