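import Cfsg.Agent.H28.TypeR.BlockRows
import Cfsg.Agent.H28.TypeR.BlockArith

/-!
# The combinatorics of one lattice

`Block.principal`: with a row of degree one in the first column only, either the main case, which
gives `k`, or the hypotheses of `H22.Ward.no_pair`.  `Block.twisted`: with `k` given, some row of the
block has degree one in absolute value.
-/

set_option autoImplicit false
set_option linter.unusedSectionVars false

namespace Cfsg.Agent.H28.TypeR.Block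

open Finset
open Cfsg.Agent.H64.Ward (dot classFn quintic qc0 qc1 qc2 qc3 qc4 qc5 quintic_ne_zero)

variable {ι : Type*} [Fintype ι] (D : Block ι)

/-- `k Q (Q² - Q + 1) = Q² - 1`, the order of the group in the main case. -/
def Main : Prop :=
  D.k * ((D.Q : ℚ) * ((D.Q : ℚ) ^ 2 - D.Q + 1)) = (D.Q : ℚ) ^ 2 - 1

/-- The pair case: the hypotheses of `H22.Ward.no_pair` with `θ = h`. -/
def Pair (m : ℤ) : Prop :=
  ∃ A B C : ℤ, A ≠ 0 ∧ B ≠ 0 ∧ C ≠ 0 ∧ 1 + A = B + C ∧ A ≠ 1 ∧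
    B * C * (1 + A) - D.h ^ 2 * A * (1 + A) + 4 * D.h ^ 2 * (D.h - 1) * A * C = 0 ∧
    D.k * ((D.Q : ℚ) * (-2 * (B : ℚ))) = ((D.Q : ℚ) - 1) ^ 2 * ((D.Q : ℚ) + 1) ∧
    8 ∣ A - 1 ∧ m ∣ A - 1 ∧ m ∣ C + 1 ∧ 8 ∣ B - D.h ∧
    ∃ x, D.In x ∧ (A = D.deg x ∨ A = -D.deg x) ∧ (D.tval x = 1 ∨ D.tval x = -1)

theorem Q_facts : (D.Q : ℚ) = 2 * (D.h : ℚ) + 1 ∧ (D.h : ℚ) ≠ 0 ∧ (D.Q : ℚ) ≠ 0 ∧
    (D.Q : ℚ) + 1 ≠ 0 ∧ (D.Q : ℚ) - 1 ≠ 0 ∧ (D.Q : ℚ) ^ 2 - D.Q + 1 ≠ 0 := by
  have := D.hQ; have := D.hh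
  refine ⟨by exact_mod_cast D.hQ, by exact_mod_cast (by omega : D.h ≠ 0),
    by exact_mod_cast (by omega : D.Q ≠ 0), by exact_mod_cast (by omega : D.Q + 1 ≠ 0),
    sub_ne_zero.2 (by exact_mod_cast (by omega : D.Q ≠ 1)), ?_⟩
  nlinarith [sq_nonneg ((D.Q : ℚ) - 1 / 2)]

theorem col_deg (i : Fin 3) : ∑ x, (D.a i x : ℚ) * (D.deg x : ℚ) = 0 := by
  exact_mod_cast D.a_deg i

variable {D}

/-- The pair is a row of all three columns and one of the first. -/
theorem shape_one {P R : ι} (hPR : P ≠ R) (hz : ∀ x, x ≠ P → x ≠ R → D.C x = 0)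
    (cP : D.C P = 1) (cR : D.C R = -1) (hP : P ∈ D.all3) (hR : R ∈ D.only 0) :
    (D.deg P : ℚ) = D.Q * D.deg R ∧
      D.k * ((D.Q : ℚ) * D.deg R) = -(((D.Q : ℚ) - 1) * ((D.Q : ℚ) + 1)) := by
  obtain ⟨hQ, hh0, hQ0, hQ1, hQm, -⟩ := D.Q_facts
  obtain ⟨hC, hX⟩ := classFn_C hPR hz
  obtain ⟨e, hk⟩ := D.exc
  rw [hC, cP, cR, tval_all3 hP, tval_only hR, if_pos rfl] at e
  rw [cP, cR] at hX
  have hX' : (D.X : ℚ) = (D.deg R : ℚ) - D.deg P := by
    exact_mod_cast (by linarith : D.X = D.deg R - D.deg P)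
  have hne : (D.deg R : ℚ) - D.deg P ≠ 0 := hX' ▸ (by exact_mod_cast D.X_ne)
  have dP : (D.deg P : ℚ) ≠ 0 := by exact_mod_cast D.deg_ne P
  have dR : (D.deg R : ℚ) ≠ 0 := by exact_mod_cast D.deg_ne R
  rw [hX', show (2 * (D.h : ℚ)) = (D.Q : ℚ) - 1 by linarith] at e hk
  push_cast at e
  field_simp at e
  have h2 : ((D.deg P : ℚ) - D.Q * D.deg R) ^ 2 = 0 := by linear_combination e
  have hy := sub_eq_zero.1 ((pow_eq_zero_iff two_ne_zero).1 h2)
  refine ⟨hy, ?_⟩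
  rw [hy] at hk
  exact mul_left_cancel₀ hQm (by linear_combination -hk)

/-- The pair is a row of the second column only and one of the third only. -/
theorem shape_three {P R : ι} (hPR : P ≠ R) (hz : ∀ x, x ≠ P → x ≠ R → D.C x = 0)
    (cP : D.C P = 1) (cR : D.C R = 1) (hP : P ∈ D.only 1) (hR : R ∈ D.only 2) :
    (D.deg R : ℚ) = D.deg P ∧
      D.k * ((D.Q : ℚ) * (-2 * (D.deg P : ℚ))) = ((D.Q : ℚ) - 1) ^ 2 * ((D.Q : ℚ) + 1) := by
  obtain ⟨hQ, hh0, -⟩ := D.Q_facts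
  obtain ⟨hC, hX⟩ := classFn_C hPR hz
  obtain ⟨e, hk⟩ := D.exc
  rw [hC, cP, cR, tval_only hP, tval_only hR, if_neg (by decide), if_neg (by decide)] at e
  rw [cP, cR] at hX
  have hX' : (D.X : ℚ) = -((D.deg P : ℚ) + D.deg R) := by
    exact_mod_cast (by linarith : D.X = -(D.deg P + D.deg R))
  have hne : -((D.deg P : ℚ) + D.deg R) ≠ 0 := hX' ▸ (by exact_mod_cast D.X_ne)
  have hne' : (D.deg P : ℚ) + D.deg R ≠ 0 := neg_ne_zero.1 hne
  have dP : (D.deg P : ℚ) ≠ 0 := by exact_mod_cast D.deg_ne P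
  have dR : (D.deg R : ℚ) ≠ 0 := by exact_mod_cast D.deg_ne R
  rw [hX'] at e hk
  push_cast at e
  field_simp at e
  have h2 : (D.h : ℚ) ^ 2 * ((D.deg R : ℚ) - D.deg P) ^ 2 = 0 := by linear_combination e
  have hy := sub_eq_zero.1 ((pow_eq_zero_iff two_ne_zero).1
    ((mul_eq_zero.1 h2).resolve_left (pow_ne_zero 2 hh0)))
  refine ⟨hy, ?_⟩
  rw [hy] at hk
  rw [hQ] at hk ⊢
  linear_combination hk

/-- The equation for the eight-row pair shape. -/
theorem eight_pair (N : Bin D) (h2 : D.all3.card = 2) {P R : ι} (hPR : P ≠ R)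
    (hz : ∀ x, x ≠ P → x ≠ R → D.C x = 0) (cP : D.C P = 1) (cR : D.C R = 1)
    (hP : P ∈ D.only 1) (hR : R ∈ D.only 2) {l : ι} (hl : l ∈ D.only 0) :
    ∃ A B', l ≠ A ∧ A ∈ D.only 0 ∧ B' ∈ D.only 1 ∧ D.C B' = 0 ∧
      (D.deg P : ℚ) + D.deg B' = D.deg l + D.deg A ∧
      (D.h : ℚ) ^ 2 * (1 / (D.deg P : ℚ) + 1 / (D.deg B' : ℚ)) - 1 / (D.deg l : ℚ) -
          1 / (D.deg A : ℚ) = 4 * (D.h : ℚ) ^ 2 * ((D.h : ℚ) - 1) / (D.deg P : ℚ) := by
  obtain ⟨hQ, hh0, hQ0, hQ1, -⟩ := D.Q_facts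
  obtain ⟨hc, hm⟩ := N.counts
  have hmid : ∀ i, D.mid i = ∅ := fun i => card_eq_zero.1 (by have := hm i; omega)
  obtain ⟨A, hlA, hA, sA⟩ := exists_other (hc 0 ▸ h2) hl
  obtain ⟨B', hPB, hB', sB⟩ := exists_other (hc 1 ▸ h2) hP
  obtain ⟨-, hk⟩ := shape_three hPR hz cP cR hP hR
  refine ⟨A, B', hlA, hA, hB', hz B' hPB.symm fun e => ?_, ?_, ?_⟩
  · have h1 := D.mem_only.1 hB' 1
    rw [e, D.mem_only.1 hR 1] at h1
    simp at h1
  · have e0 := D.col_deg 0
    have e1 := D.col_deg 1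
    rw [N.sum_col (j := 1) (l := 2) (by decide) (by decide) (by decide), sA, hmid, hmid] at e0
    rw [N.sum_col (j := 0) (l := 2) (by decide) (by decide) (by decide), sB, hmid, hmid] at e1
    simp only [sum_empty, add_zero] at e0 e1
    linarith
  · have e0 := D.fun_zero
    have e1 := D.fun_a 1 (by decide)
    rw [N.classFn_col (j := 1) (l := 2) (by decide) (by decide) (by decide), sA, hmid, hmid,
      tval_only hl, tval_only hA] at e0
    rw [N.classFn_col (j := 0) (l := 2) (by decide) (by decide) (by decide), sB, hmid, hmid,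
      tval_only hP, tval_only hB'] at e1
    simp at e0 e1
    have dP : (D.deg P : ℚ) ≠ 0 := by exact_mod_cast D.deg_ne P
    have hk2 : D.k = ((D.Q : ℚ) - 1) ^ 2 * ((D.Q : ℚ) + 1) /
        ((D.Q : ℚ) * (-2 * (D.deg P : ℚ))) := by
      rw [eq_div_iff (mul_ne_zero hQ0 (mul_ne_zero (by norm_num) dP))]; exact hk
    have h7 : (3 * (D.Q : ℚ) - 1) / ((D.Q : ℚ) + 1) * D.k - ((D.Q : ℚ) - 1) * D.k =
        4 * (D.h : ℚ) ^ 2 * ((D.h : ℚ) - 1) / D.deg P := by
      rw [hk2, show (D.h : ℚ) = ((D.Q : ℚ) - 1) / 2 by rw [hQ]; ring]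
      field_simp
      ring
    rw [← h7]
    linear_combination e1 - e0

/-- The equations of the seven-row pair shape. -/
theorem seven_pair (N : Bin D) (h1 : D.all3.card = 1) {P R : ι} (hPR : P ≠ R)
    (hz : ∀ x, x ≠ P → x ≠ R → D.C x = 0) (cP : D.C P = 1) (cR : D.C R = 1)
    (hP : P ∈ D.only 1) (hR : R ∈ D.only 2) :
    ∃ l T U Z, (l ∈ D.only 0 ∧ ∀ y ∈ D.only 0, y = l) ∧ T ∈ D.all3 ∧ U ∈ D.mid 2 ∧
      Z ∈ D.mid 0 ∧
      (D.deg l : ℚ) + D.deg T + 2 * D.deg U = 0 ∧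
      (D.deg P : ℚ) + D.deg T + D.deg U + D.deg Z = 0 ∧
      1 / (D.deg l : ℚ) + (D.Q : ℚ) ^ 2 / D.deg T + 2 * (1 + (D.h : ℚ)) ^ 2 / D.deg U =
        ((D.Q : ℚ) - 1) * D.k ∧
      (D.h : ℚ) ^ 2 / D.deg P + (D.Q : ℚ) ^ 2 / D.deg T + (1 + (D.h : ℚ)) ^ 2 / D.deg U +
          4 * (D.h : ℚ) ^ 2 / D.deg Z =
        (3 * (D.Q : ℚ) - 1) / ((D.Q : ℚ) + 1) * D.k := by
  obtain ⟨hc, hm⟩ := N.counts
  obtain ⟨hdeg, -⟩ := shape_three hPR hz cP cR hP hR
  obtain ⟨l, hl, sl, ul⟩ := exists_single (hc 0 ▸ h1)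
  obtain ⟨T, hT, sT, -⟩ := exists_single h1
  obtain ⟨B, -, sB, uB⟩ := exists_single (hc 1 ▸ h1)
  obtain ⟨B', -, sB', uB'⟩ := exists_single (hc 2 ▸ h1)
  obtain ⟨Z, hZ, sZ, -⟩ := exists_single (s := D.mid 0) (by have := hm 0; omega)
  obtain ⟨V, hV, sV, -⟩ := exists_single (s := D.mid 1) (by have := hm 1; omega)
  obtain ⟨U, hU, sU, -⟩ := exists_single (s := D.mid 2) (by have := hm 2; omega)
  rw [← uB P hP] at sB
  rw [← uB' R hR] at sB'
  have d0 := D.col_deg 0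
  have d1 := D.col_deg 1
  have d2 := D.col_deg 2
  rw [N.sum_col (j := 1) (l := 2) (by decide) (by decide) (by decide), sl, sT, sV, sU] at d0
  rw [N.sum_col (j := 0) (l := 2) (by decide) (by decide) (by decide), sB, sT, sZ, sU] at d1
  rw [N.sum_col (j := 0) (l := 1) (by decide) (by decide) (by decide), sB', sT, sZ, sV] at d2
  have hUV : (D.deg V : ℚ) = D.deg U := by linarith
  have e0 := D.fun_zero
  have e1 := D.fun_a 1 (by decide)
  rw [N.classFn_col (j := 1) (l := 2) (by decide) (by decide) (by decide), sl, sT, sV, sU,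
    tval_only hl, tval_all3 hT, tval_mid hV, tval_mid hU, hUV] at e0
  rw [N.classFn_col (j := 0) (l := 2) (by decide) (by decide) (by decide), sB, sT, sZ, sU,
    tval_only hP, tval_all3 hT, tval_mid hZ, tval_mid hU] at e1
  simp at e0 e1
  refine ⟨l, T, U, Z, ⟨hl, ul⟩, hT, hU, hZ, by linarith, by linarith, ?_, ?_⟩
  · linear_combination e0
  · linear_combination e1

/-- The normalised principal block. -/
theorem principal_bin (N : Bin D) (o : ι) (hdeg : D.deg o = 1) (ho : o ∈ D.only 0)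
    (hC : D.C o = 0) (m : ℤ) (h8 : ∀ x, D.In x → 8 ∣ D.deg x - D.tval x)
    (hV : ∀ x, D.In x → D.C x = 0 → m ∣ D.deg x - D.aS x) : D.Main ∨ D.Pair m := by
  obtain ⟨hQ, hh0, hQ0, hQ1, hQm, hM⟩ := D.Q_facts
  obtain ⟨hc, hm⟩ := N.counts
  obtain ⟨P, R, hPR, hz, cP, ⟨cR, hP, hR⟩ | ⟨cR, hP, hR⟩⟩ := N.options
  · -- the main case
    left
    obtain ⟨hy, hk⟩ := shape_one hPR hz cP cR hP hR
    have hRo : R ≠ o := fun e => by rw [e, hC] at cR; omega
    have h2 : D.all3.card = 2 := by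
      have := hm 0
      have : 2 ≤ (D.only 0).card :=
        Nat.succ_le_of_lt (one_lt_card.2 ⟨R, hR, o, ho, hRo⟩)
      have := hc 0; omega
    have hmid : ∀ i, D.mid i = ∅ := fun i => card_eq_zero.1 (by have := hm i; omega)
    obtain ⟨T, hPT, hT, sT⟩ := exists_other h2 hP
    obtain ⟨L, hRL, hL, sA⟩ := exists_other (hc 0 ▸ h2) hR
    have hLo : L = o := by
      classical
      obtain ⟨x, y, -, hxy⟩ := card_eq_two.1 (hc 0 ▸ h2)
      rw [hxy, mem_insert, mem_singleton] at hR hL ho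
      rcases hR with rfl | rfl <;> rcases hL with rfl | rfl <;> rcases ho with rfl | rfl <;>
        first | rfl | exact absurd rfl hRL | exact absurd rfl hRo
    subst hLo
    have e0 := D.fun_zero
    have d0 := D.col_deg 0
    rw [N.classFn_col (j := 1) (l := 2) (by decide) (by decide) (by decide), sA, sT, hmid, hmid,
      tval_only hR, tval_only ho, tval_all3 hP, tval_all3 hT, hdeg] at e0
    rw [N.sum_col (j := 1) (l := 2) (by decide) (by decide) (by decide), sA, sT, hmid, hmid,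
      hdeg] at d0
    simp at e0 d0
    have dR : (D.deg R : ℚ) ≠ 0 := by exact_mod_cast D.deg_ne R
    have dT : (D.deg T : ℚ) ≠ 0 := by exact_mod_cast D.deg_ne T
    rw [hy] at e0 d0
    have hT' : (D.deg T : ℚ) = -1 - ((D.Q : ℚ) + 1) * D.deg R := by linarith
    have hk0 : D.k = -(((D.Q : ℚ) - 1) * ((D.Q : ℚ) + 1)) / ((D.Q : ℚ) * D.deg R) := by
      rw [eq_div_iff (mul_ne_zero hQ0 dR)]; exact hk
    rw [hk0] at e0
    field_simp at e0
    have quad : ((D.Q : ℚ) * D.deg R + 1) * ((D.Q : ℚ) + 1) *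
        ((D.deg R : ℚ) + ((D.Q : ℚ) ^ 2 - D.Q + 1)) = 0 := by
      rw [hT'] at e0
      linear_combination -e0
    have hA : (D.deg R : ℚ) = -((D.Q : ℚ) ^ 2 - D.Q + 1) := by
      rcases mul_eq_zero.1 quad with h | h
      · rcases mul_eq_zero.1 h with h | h
        · exfalso
          have h' : D.Q * D.deg R + 1 = 0 := by exact_mod_cast h
          have := Int.eq_one_or_neg_one_of_mul_eq_one (show D.Q * -D.deg R = 1 by linarith)
          have := D.hQ; have := D.hh; omega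
        · exact absurd h hQ1
      · linarith
    rw [hA] at hk
    show _ = _
    linear_combination -hk
  · -- the pair case
    obtain ⟨hRP, hk⟩ := shape_three hPR hz cP cR hP hR
    rcases (by
      have := hm 0
      have : 1 ≤ (D.only 0).card := card_pos.2 ⟨o, ho⟩
      have := hc 0
      omega : D.all3.card = 1 ∨ D.all3.card = 2) with hcard | hcard
    · exfalso
      obtain ⟨l, T, U, Z, ⟨hl, ul⟩, hT, hU, hZ, d0, d1, E0, E1⟩ :=
        seven_pair N hcard hPR hz cP cR hP hR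
      rw [← ul o ho, hdeg] at d0 E0
      have qb : (D.deg P : ℚ) ≠ 0 := by exact_mod_cast D.deg_ne P
      have qu : (D.deg U : ℚ) ≠ 0 := by exact_mod_cast D.deg_ne U
      have qt : (D.deg T : ℚ) ≠ 0 := by exact_mod_cast D.deg_ne T
      have qz : (D.deg Z : ℚ) ≠ 0 := by exact_mod_cast D.deg_ne Z
      push_cast at d0 E0
      field_simp at E0 E1
      generalize hu : (D.deg U : ℚ) = u, hb : (D.deg P : ℚ) = b, ht : (D.deg T : ℚ) = t,
        hzz : (D.deg Z : ℚ) = z at E0 E1 hk d0 d1 qu qt qz qb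
      generalize hQ' : (D.Q : ℚ) = q at E0 E1 hk hQ hQ1 hQ0
      have htq : t = -1 - 2 * u := by linarith
      have hzq : z = -b + 1 + u := by linarith
      have hN : b * (q * (t * u + q ^ 2 * u + 2 * (1 + (D.h : ℚ)) ^ 2 * t)) =
          -4 * (D.h : ℚ) ^ 3 * (q + 1) * t * u := by
        subst hQ
        linear_combination (2 * (D.h : ℚ) + 1) * b * E0 - (D.h : ℚ) * t * u * hk
      have h2 : q * t * u * z * (D.h : ℚ) ^ 2 + q ^ 3 * b * u * z +
          (1 + (D.h : ℚ)) ^ 2 * q * b * t * z + 4 * (D.h : ℚ) ^ 2 * q * b * t * u +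
          (3 * q - 1) * 2 * (D.h : ℚ) ^ 2 * t * u * z = 0 := by
        refine (mul_eq_zero.1 (?_ : (q + 1) * (q * t * u * z * (D.h : ℚ) ^ 2 + q ^ 3 * b * u * z +
          (1 + (D.h : ℚ)) ^ 2 * q * b * t * z + 4 * (D.h : ℚ) ^ 2 * q * b * t * u +
          (3 * q - 1) * 2 * (D.h : ℚ) ^ 2 * t * u * z) = 0)).resolve_left hQ1
        subst hQ
        linear_combination (2 * (D.h : ℚ) + 1) * E1 -
          (3 * (2 * (D.h : ℚ) + 1) - 1) / 2 * t * u * z * hk
      have hq : ((quintic D.h (D.deg U) : ℤ) : ℚ) * (4 * (D.h : ℚ) ^ 2 * t * u * q) = 0 := by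
        subst htq hzq hQ
        generalize hNg : (-1 - 2 * u) * u + (2 * (D.h : ℚ) + 1) ^ 2 * u +
          2 * (1 + (D.h : ℚ)) ^ 2 * (-1 - 2 * u) = Nv at hN
        have h3 : (((D.h : ℚ) + 1) * ((2 * (D.h : ℚ) + 1) * Nv) ^ 2) *
            ((2 * (D.h : ℚ) + 1) * (-1 - 2 * u) * u * (-b + 1 + u) * (D.h : ℚ) ^ 2 +
              (2 * (D.h : ℚ) + 1) ^ 3 * b * u * (-b + 1 + u) +
              (1 + (D.h : ℚ)) ^ 2 * (2 * (D.h : ℚ) + 1) * b * (-1 - 2 * u) * (-b + 1 + u) +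
              4 * (D.h : ℚ) ^ 2 * (2 * (D.h : ℚ) + 1) * b * (-1 - 2 * u) * u +
              (3 * (2 * (D.h : ℚ) + 1) - 1) * 2 * (D.h : ℚ) ^ 2 * (-1 - 2 * u) * u *
                (-b + 1 + u)) = 0 := by rw [h2, mul_zero]
        obtain ⟨C, hC⟩ : ∃ C, C = b * ((2 * (D.h : ℚ) + 1) * Nv) := ⟨_, rfl⟩
        obtain ⟨M, hMd⟩ : ∃ M, M = (2 * (D.h : ℚ) + 1) * Nv := ⟨_, rfl⟩
        have h4 : ((D.h : ℚ) + 1) *
            ((2 * (D.h : ℚ) + 1) * (-1 - 2 * u) * u * (-C + (1 + u) * M) * (D.h : ℚ) ^ 2 * M +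
              (2 * (D.h : ℚ) + 1) ^ 3 * C * u * (-C + (1 + u) * M) +
              (1 + (D.h : ℚ)) ^ 2 * (2 * (D.h : ℚ) + 1) * C * (-1 - 2 * u) * (-C + (1 + u) * M) +
              4 * (D.h : ℚ) ^ 2 * (2 * (D.h : ℚ) + 1) * C * (-1 - 2 * u) * u * M +
              (3 * (2 * (D.h : ℚ) + 1) - 1) * 2 * (D.h : ℚ) ^ 2 * (-1 - 2 * u) * u *
                (-C + (1 + u) * M) * M) = 0 := by
          rw [← h3, hC, hMd]; ring
        rw [hN] at hC
        subst hC hMd hNg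
        rw [← hu] at h4 ⊢
        simp only [quintic, qc0, qc1, qc2, qc3, qc4, qc5]
        push_cast
        linear_combination -h4
      have hne0 : 4 * (D.h : ℚ) ^ 2 * t * u * q ≠ 0 := by simp [hh0, qt, qu, hQ0]
      exact quintic_ne_zero _ _ D.hh (D.deg_ne U)
        (by exact_mod_cast (mul_eq_zero.1 hq).resolve_right hne0)
    · right
      obtain ⟨A, B', hoA, hA, hB', cB', hsum, hd⟩ := eight_pair N hcard hPR hz cP cR hP hR ho
      rw [hdeg] at hsum hd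
      push_cast at hsum hd
      have dP : (D.deg P : ℚ) ≠ 0 := by exact_mod_cast D.deg_ne P
      have dA : (D.deg A : ℚ) ≠ 0 := by exact_mod_cast D.deg_ne A
      have dB : (D.deg B' : ℚ) ≠ 0 := by exact_mod_cast D.deg_ne B'
      field_simp at hd
      have hE : D.deg P * D.deg B' * (1 + D.deg A) - D.h ^ 2 * D.deg A * (1 + D.deg A) +
          4 * D.h ^ 2 * (D.h - 1) * D.deg A * D.deg B' = 0 := by
        have : ((D.deg P * D.deg B' * (1 + D.deg A) - D.h ^ 2 * D.deg A * (1 + D.deg A) +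
            4 * D.h ^ 2 * (D.h - 1) * D.deg A * D.deg B' : ℤ) : ℚ) = 0 := by
          push_cast
          linear_combination -hd + (D.h : ℚ) ^ 2 * (D.deg A : ℚ) * hsum
        exact_mod_cast this
      have hBC : 1 + D.deg A = D.deg P + D.deg B' := by
        have : (1 : ℚ) + D.deg A = D.deg P + D.deg B' := hsum.symm
        exact_mod_cast this
      have cA : D.C A = 0 := hz A (fun e => by
          have h1 := D.mem_only.1 hA 1
          rw [e, D.mem_only.1 hP 1] at h1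
          simp at h1) fun e => by
        have h1 := D.mem_only.1 hA 2
        rw [e, D.mem_only.1 hR 2] at h1
        simp at h1
      refine ⟨D.deg A, D.deg P, D.deg B', D.deg_ne A, D.deg_ne P, D.deg_ne B', hBC,
        ne_one D.hh hBC hE, hE, hk, ?_, ?_, ?_, ?_, A, in_only hA, Or.inl rfl,
        Or.inl (by rw [tval_only hA, if_pos rfl])⟩
      · have := h8 A (in_only hA); rwa [tval_only hA, if_pos rfl] at this
      · have := hV A (in_only hA) cA; rwa [aS_only hA, if_pos rfl] at this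
      · have := hV B' (in_only hB') cB'
        rwa [aS_only hB', if_neg (by decide), sub_neg_eq_add] at this
      · have := h8 P (in_only hP); rwa [tval_only hP, if_neg (by decide)] at this

/-- The normalised twisted block. -/
theorem twisted_bin (N : Bin D) (hk : D.Main) (m : ℤ) (hm2 : D.h + 1 = 2 * m) (hmo : Odd m)
    (h13 : 13 ≤ D.h) (h8 : ∀ x, D.In x → 8 ∣ D.deg x - D.tval x)
    (hV : ∀ x, D.In x → D.C x = 0 → m ∣ D.deg x - D.aS x)
    (homega : ∀ x, D.In x → D.deg x ∣ D.Q ^ 2 * (D.Q ^ 2 - D.Q + 1) * D.tval x) :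
    ∃ x, D.In x ∧ (D.deg x = 1 ∨ D.deg x = -1) := by
  obtain ⟨hQ, hh0, hQ0, hQ1, hQm, hM⟩ := D.Q_facts
  obtain ⟨hc, hm⟩ := N.counts
  have hM2 : (D.Q : ℚ) * ((D.Q : ℚ) - 1) + 1 ≠ 0 := fun e => hM (by linear_combination e)
  have hM3 : -1 + (D.Q : ℚ) * (1 - (D.Q : ℚ)) ≠ 0 := fun e => hM (by linear_combination -e)
  have hkv : D.k = ((D.Q : ℚ) ^ 2 - 1) / ((D.Q : ℚ) * ((D.Q : ℚ) ^ 2 - D.Q + 1)) := by
    rw [eq_div_iff (mul_ne_zero hQ0 hM)]; exact hk
  obtain ⟨P, R, hPR, hz, cP, ⟨cR, hP, hR⟩ | ⟨cR, hP, hR⟩⟩ := N.options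
  · obtain ⟨hy, hk'⟩ := shape_one hPR hz cP cR hP hR
    have hA : (D.deg R : ℚ) = -((D.Q : ℚ) ^ 2 - D.Q + 1) := by
      rw [hkv] at hk'
      field_simp at hk'
      have h : ((D.Q : ℚ) - 1) * ((D.Q : ℚ) + 1) *
          ((D.deg R : ℚ) + ((D.Q : ℚ) ^ 2 - D.Q + 1)) = 0 := by linear_combination hk'
      have := (mul_eq_zero.1 h).resolve_left (mul_ne_zero hQm hQ1)
      linarith
    rcases (by
      have := hm 0
      have : 1 ≤ D.all3.card := card_pos.2 ⟨P, hP⟩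
      omega : D.all3.card = 1 ∨ D.all3.card = 2) with hcard | hcard
    · exfalso
      obtain ⟨T, -, sT, uT⟩ := exists_single hcard
      obtain ⟨L, -, sL, uL⟩ := exists_single (hc 0 ▸ hcard)
      obtain ⟨V, hV', sV, -⟩ := exists_single (s := D.mid 1) (by have := hm 1; omega)
      obtain ⟨U, hU', sU, -⟩ := exists_single (s := D.mid 2) (by have := hm 2; omega)
      rw [← uT P hP] at sT
      rw [← uL R hR] at sL
      have e0 := D.fun_zero
      have d0 := D.col_deg 0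
      rw [N.classFn_col (j := 1) (l := 2) (by decide) (by decide) (by decide), sL, sT, sV, sU,
        tval_only hR, tval_all3 hP, tval_mid hV', tval_mid hU', hy, hA, hkv] at e0
      rw [N.sum_col (j := 1) (l := 2) (by decide) (by decide) (by decide), sL, sT, sV, sU,
        hy, hA] at d0
      simp only [if_pos, Fin.reduceEq, if_false] at e0
      push_cast at e0
      have dU : (D.deg U : ℚ) ≠ 0 := by exact_mod_cast D.deg_ne U
      have dV : (D.deg V : ℚ) ≠ 0 := by exact_mod_cast D.deg_ne V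
      have hsq : (((D.deg U : ℚ) - D.deg V) / (((D.Q : ℚ) + 1) * ((D.Q : ℚ) - 1))) ^ 2 =
          (D.Q : ℚ) ^ 2 - D.Q + 1 := by
        have hV2 : (D.deg V : ℚ) = ((D.Q : ℚ) + 1) * ((D.Q : ℚ) ^ 2 - D.Q + 1) - D.deg U := by
          linear_combination d0
        rw [div_pow, div_eq_iff (pow_ne_zero 2 (mul_ne_zero hQ1 hQm))]
        rw [show 1 + (D.h : ℚ) = ((D.Q : ℚ) + 1) / 2 by rw [hQ]; ring] at e0
        field_simp at e0
        have e' : ((D.Q : ℚ) ^ 2 - D.Q + 1) * ((D.Q : ℚ) + 1) *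
            (4 * (D.deg U : ℚ) * D.deg V -
              (D.Q : ℚ) * ((D.Q : ℚ) + 1) ^ 2 * ((D.Q : ℚ) ^ 2 - D.Q + 1)) = 0 := by
          rw [hV2] at e0 ⊢
          linear_combination -e0
        have e2 := (mul_eq_zero.1 e').resolve_left (mul_ne_zero hM hQ1)
        rw [hV2] at e2 ⊢
        linear_combination -e2
      obtain ⟨n, hn⟩ : ∃ n : ℚ, n = ((D.deg U : ℚ) - D.deg V) /
          (((D.Q : ℚ) + 1) * ((D.Q : ℚ) - 1)) := ⟨_, rfl⟩
      rw [← hn] at hsq
      have hden : n.den = 1 := by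
        have h := Rat.den_pow n 2
        rw [hsq, show (D.Q : ℚ) ^ 2 - D.Q + 1 = ((D.Q ^ 2 - D.Q + 1 : ℤ) : ℚ) by push_cast; ring,
          Rat.den_intCast] at h
        exact (Nat.pow_eq_one.1 h.symm).resolve_right two_ne_zero
      have hnum : (n.num : ℚ) = n := Rat.den_eq_one_iff n |>.1 hden
      rw [← hnum] at hsq
      exact not_square (Q := D.Q) (n := n.num) (by have := D.hQ; omega) (by exact_mod_cast hsq)
    · have hmid : ∀ i, D.mid i = ∅ := fun i => card_eq_zero.1 (by have := hm i; omega)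
      obtain ⟨T, -, hT, sT⟩ := exists_other hcard hP
      obtain ⟨L, hRL, hL, sA⟩ := exists_other (hc 0 ▸ hcard) hR
      have e0 := D.fun_zero
      have d0 := D.col_deg 0
      rw [N.classFn_col (j := 1) (l := 2) (by decide) (by decide) (by decide), sA, sT, hmid, hmid,
        tval_only hR, tval_only hL, tval_all3 hP, tval_all3 hT, hy, hA, hkv] at e0
      rw [N.sum_col (j := 1) (l := 2) (by decide) (by decide) (by decide), sA, sT, hmid, hmid,
        hy, hA] at d0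
      simp at e0 d0
      have dL : (D.deg L : ℚ) ≠ 0 := by exact_mod_cast D.deg_ne L
      have dT : (D.deg T : ℚ) ≠ 0 := by exact_mod_cast D.deg_ne T
      have hTq : (D.deg T : ℚ) = ((D.Q : ℚ) + 1) * ((D.Q : ℚ) ^ 2 - D.Q + 1) - D.deg L := by
        linarith
      field_simp at e0
      have quad : ((D.Q : ℚ) + 1) * (((D.deg L : ℚ) - 1) *
          ((D.deg L : ℚ) - (D.Q : ℚ) * ((D.Q : ℚ) ^ 2 - D.Q + 1))) = 0 := by
        refine (mul_eq_zero.1 (?_ : ((D.Q : ℚ) ^ 2 - D.Q + 1) ^ 2 * (((D.Q : ℚ) + 1) *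
          (((D.deg L : ℚ) - 1) * ((D.deg L : ℚ) - (D.Q : ℚ) * ((D.Q : ℚ) ^ 2 - D.Q + 1)))) =
          0)).resolve_left (pow_ne_zero 2 hM)
        rw [hTq] at e0
        linear_combination -e0
      rcases mul_eq_zero.1 ((mul_eq_zero.1 quad).resolve_left hQ1) with h | h
      · exact ⟨L, in_only hL, Or.inl (by exact_mod_cast sub_eq_zero.1 h)⟩
      · exfalso
        have hLv : D.deg L = D.Q * (D.Q ^ 2 - D.Q + 1) := by exact_mod_cast sub_eq_zero.1 h
        have cL : D.C L = 0 := hz L (fun e => by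
          have h1 := D.mem_only.1 hL 1
          rw [e, D.mem_all3.1 hP 1] at h1
          simp at h1) hRL.symm
        obtain ⟨c, hc'⟩ := hV L (in_only hL) cL
        rw [aS_only hL, if_pos rfl, hLv, show D.Q = 4 * m - 1 by have := D.hQ; omega] at hc'
        have hd4 : m ∣ 4 := ⟨64 * m ^ 2 - 64 * m + 24 - c, by linear_combination -hc'⟩
        have := Int.le_of_dvd (by norm_num) hd4
        omega
  · obtain ⟨-, hk'⟩ := shape_three hPR hz cP cR hP hR
    have hb : D.deg P = -(D.h * (D.Q ^ 2 - D.Q + 1)) := by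
      rw [hkv] at hk'
      field_simp at hk'
      have h : ((D.Q : ℚ) - 1) * ((D.Q : ℚ) + 1) * (2 * (D.deg P : ℚ) +
          ((D.Q : ℚ) - 1) * ((D.Q : ℚ) ^ 2 - D.Q + 1)) = 0 := by linear_combination -hk'
      have h2 := (mul_eq_zero.1 h).resolve_left (mul_ne_zero hQm hQ1)
      have : (D.deg P : ℚ) = -((D.h : ℚ) * ((D.Q : ℚ) ^ 2 - D.Q + 1)) := by
        rw [show (D.h : ℚ) = ((D.Q : ℚ) - 1) / 2 by rw [hQ]; ring]; linarith
      exact_mod_cast this
    have dM : (D.deg P : ℚ) = -((D.h : ℚ) * ((D.Q : ℚ) ^ 2 - D.Q + 1)) := by exact_mod_cast hb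
    rcases (by
      have := hm 1
      have : 1 ≤ (D.only 1).card := card_pos.2 ⟨P, hP⟩
      have := hc 1
      omega : D.all3.card = 1 ∨ D.all3.card = 2) with hcard | hcard
    · exfalso
      obtain ⟨l, T, U, Z, ⟨hl, -⟩, hT, hU, hZ, d0, d1, E0, E1⟩ :=
        seven_pair N hcard hPR hz cP cR hP hR
      obtain ⟨A', hA'⟩ := homega l (in_only hl)
      obtain ⟨T', hT'⟩ := homega T (in_all3 hT)
      obtain ⟨u', hu'⟩ := homega U (in_mid hU)
      obtain ⟨Z', hZ'⟩ := homega Z (in_mid hZ)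
      rw [tval_only hl, if_pos rfl, mul_one] at hA'
      rw [tval_all3 hT] at hT'
      rw [tval_mid hU, if_neg (by decide)] at hu'
      rw [tval_mid hZ, if_pos rfl] at hZ'
      have hQi : D.Q ≠ 0 := by have := D.hQ; omega
      have hMi : D.Q ^ 2 - D.Q + 1 ≠ 0 := by nlinarith [sq_nonneg (2 * D.Q - 1)]
      have hN0 : D.Q ^ 2 * (D.Q ^ 2 - D.Q + 1) ≠ 0 := mul_ne_zero (pow_ne_zero 2 hQi) hMi
      have n1 : A' ≠ 0 := fun e => hN0 (by rw [hA', e, mul_zero])
      have n2 : u' ≠ 0 := fun e => mul_ne_zero hN0 (show 1 + D.h ≠ 0 by omega)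
        (by rw [hu', e, mul_zero])
      have hN : ((D.Q : ℚ) ^ 2 * ((D.Q : ℚ) ^ 2 - D.Q + 1)) ≠ 0 :=
        mul_ne_zero (pow_ne_zero 2 hQ0) hM
      have inv : ∀ (x x' v : ℤ), x ≠ 0 → D.Q ^ 2 * (D.Q ^ 2 - D.Q + 1) * v = x * x' →
          (v : ℚ) ^ 2 / x = (v : ℚ) * x' / ((D.Q : ℚ) ^ 2 * ((D.Q : ℚ) ^ 2 - D.Q + 1)) := by
        intro x x' v hx e
        have e' : (D.Q : ℚ) ^ 2 * ((D.Q : ℚ) ^ 2 - D.Q + 1) * v = x * x' := by exact_mod_cast e
        rw [div_eq_div_iff (by exact_mod_cast hx) hN]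
        linear_combination (v : ℚ) * e'
      have i1 := inv _ A' 1 (D.deg_ne l) (by linarith)
      have i2 := inv _ T' D.Q (D.deg_ne T) hT'
      have i3 := inv _ u' (1 + D.h) (D.deg_ne U) hu'
      have i4 := inv _ Z' (2 * D.h) (D.deg_ne Z) hZ'
      push_cast at i1 i2 i3 i4
      rw [one_pow] at i1
      rw [i1, i2, mul_div_assoc 2, i3, hkv] at E0
      rw [show 4 * (D.h : ℚ) ^ 2 / D.deg Z = (2 * (D.h : ℚ)) ^ 2 / D.deg Z by ring, i2, i3, i4,
        hkv, dM] at E1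
      field_simp at E0 E1
      have f0 : (A' : ℚ) + ((D.Q : ℚ) + 1) * u' + (D.Q : ℚ) * T' =
          (D.Q : ℚ) * ((D.Q : ℚ) - 1) ^ 2 * ((D.Q : ℚ) + 1) := by
        rw [hQ] at E0 ⊢
        linear_combination E0
      have f1 : ((D.h : ℚ) + 1) * u' + (D.Q : ℚ) * T' + 2 * (D.h : ℚ) * Z' =
          (D.h : ℚ) * (D.Q : ℚ) ^ 2 + (3 * (D.Q : ℚ) - 1) * ((D.Q : ℚ) - 1) * D.Q := by
        refine mul_left_cancel₀ hQ1 ?_
        linear_combination E1
      have e0 : A' + (D.Q + 1) * u' + D.Q * T' = D.Q * (D.Q - 1) ^ 2 * (D.Q + 1) := by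
        exact_mod_cast f0
      have f1' : (D.h + 1) * u' + D.Q * T' + 2 * D.h * Z' =
          D.h * D.Q ^ 2 + (3 * D.Q - 1) * (D.Q - 1) * D.Q := by exact_mod_cast f1
      have e1 : A' + (D.h + 1) * u' - 2 * D.h * Z' = D.h * (4 * D.h - 5) * D.Q ^ 2 := by
        rw [D.hQ] at e0 f1' ⊢
        linear_combination e0 - f1'
      have hTU : D.deg l + D.deg T + 2 * D.deg U = 0 := by exact_mod_cast d0
      have hZd : D.deg P + D.deg T + D.deg U + D.deg Z = 0 := by exact_mod_cast d1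
      have eT : D.Q * A' * u' + T' * u' + (D.Q + 1) * T' * A' = 0 := by
        refine (mul_eq_zero.1 (?_ : D.Q ^ 2 * (D.Q ^ 2 - D.Q + 1) *
          (D.Q * A' * u' + T' * u' + (D.Q + 1) * T' * A') = 0)).resolve_left hN0
        rw [D.hQ] at *
        linear_combination (A' * u') * hT' + (T' * u') * hA' + (2 * T' * A') * hu' +
          (T' * A' * u') * hTU
      have eZ : (D.h * A' * u' + D.Q ^ 2 * u' + (1 + D.h) * D.Q ^ 2 * A') * Z' =
          2 * D.h * D.Q ^ 2 * A' * u' := by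
        refine mul_left_cancel₀ hMi ?_
        linear_combination (u' * Z') * hA' + (A' * Z') * hu' - (A' * u') * hZ' -
          (A' * u' * Z') * hZd + (A' * u' * Z') * hTU + (A' * u' * Z') * hb
      exact no_seven D.hQ h13 n1 n2 e0 e1 eT eZ
    · obtain ⟨l, hl⟩ := card_pos.1 (show 0 < (D.only 0).card by have := hc 0; omega)
      obtain ⟨A, B', hlA, hA, hB', cB', hsum, hd⟩ := eight_pair N hcard hPR hz cP cR hP hR hl
      by_cases h1 : D.deg l = 1
      · exact ⟨l, in_only hl, Or.inl h1⟩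
      by_cases h2 : D.deg A = 1
      · exact ⟨A, in_only hA, Or.inl h2⟩
      exfalso
      have cz : ∀ x, x ∈ D.only 0 → D.C x = 0 := fun x hx => hz x (fun e => by
          have h1 := D.mem_only.1 hx 1
          rw [e, D.mem_only.1 hP 1] at h1
          simp at h1) fun e => by
        have h1 := D.mem_only.1 hx 2
        rw [e, D.mem_only.1 hR 2] at h1
        simp at h1
      have g8 : ∀ x, x ∈ D.only 0 → 8 ∣ D.deg x - 1 ∧ m ∣ D.deg x - 1 := fun x hx => by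
        have a1 := h8 x (in_only hx)
        have a2 := hV x (in_only hx) (cz x hx)
        rw [tval_only hx, if_pos rfl] at a1
        rw [aS_only hx, if_pos rfl] at a2
        exact ⟨a1, a2⟩
      have b8 := h8 B' (in_only hB')
      have bm := hV B' (in_only hB') cB'
      rw [tval_only hB', if_neg (by decide)] at b8
      rw [aS_only hB', if_neg (by decide), sub_neg_eq_add] at bm
      refine no_interval hm2 hmo h13 h1 h2 (g8 l hl).1 (g8 l hl).2 (g8 A hA).1 (g8 A hA).2 b8 bm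
        (D.deg_ne B') ?_
      rw [dM, hQ] at hd
      have hM' : (4 * (D.h : ℚ) ^ 2 + 2 * D.h + 1) ≠ 0 := by
        rw [hQ] at hM; intro e; exact hM (by linear_combination e)
      rw [show (2 * (D.h : ℚ) + 1) ^ 2 - (2 * D.h + 1) + 1 = 4 * (D.h : ℚ) ^ 2 + 2 * D.h + 1 by
        ring] at hd
      have qB : (D.deg B' : ℚ) ≠ 0 := by exact_mod_cast D.deg_ne B'
      have ql : (D.deg l : ℚ) ≠ 0 := by exact_mod_cast D.deg_ne l
      have qA : (D.deg A : ℚ) ≠ 0 := by exact_mod_cast D.deg_ne A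
      field_simp at hd
      field_simp
      linear_combination hd

/-- The congruences and divisibility after a change of signs. -/
theorem flip_hyps (D : Block ι) (s : ι → ℤ) (hs : ∀ x, s x * s x = 1) {x : ι}
    (hx : (D.flip s hs).In x) : D.In x ∧ ((D.flip s hs).C x = 0 → D.H 0 x = 0) ∧
      (D.flip s hs).aS x = s x * D.aS x := by
  refine ⟨?_, fun h => ?_, ?_⟩
  · obtain ⟨i, hi⟩ := hx
    exact ⟨i, right_ne_zero_of_mul hi⟩
  · rw [← (D.flip s hs).H_in hx 0] at h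
    exact (mul_eq_zero.1 h).resolve_left (left_ne_zero_of_mul_eq_one (hs x))
  · simp [aS, flip, mul_sub]

/-- **Principal lattice.** -/
theorem principal (D : Block ι) (o : ι) (hdeg : D.deg o = 1) (h0 : D.a 0 o = 1)
    (ha : ∀ i, i ≠ 0 → D.a i o = 0) (hH : D.H 0 o = 0) (m : ℤ)
    (h8 : ∀ x, D.In x → 8 ∣ D.deg x - D.tval x)
    (hV : ∀ x, D.In x → D.H 0 x = 0 → m ∣ D.deg x - D.aS x) : D.Main ∨ D.Pair m := by
  obtain ⟨s, hs, N, hso⟩ := D.exists_sign
  have h8' : ∀ x, (D.flip s hs).In x → 8 ∣ (D.flip s hs).deg x - (D.flip s hs).tval x := by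
    intro x hx
    show 8 ∣ s x * D.deg x - s x * D.tval x
    rw [← mul_sub]; exact dvd_mul_of_dvd_right (h8 x (D.flip_hyps s hs hx).1) _
  have hV' : ∀ x, (D.flip s hs).In x → (D.flip s hs).C x = 0 →
      m ∣ (D.flip s hs).deg x - (D.flip s hs).aS x := by
    intro x hx hC
    obtain ⟨h1, h2, h3⟩ := D.flip_hyps s hs hx
    rw [h3, show (D.flip s hs).deg x = s x * D.deg x from rfl, ← mul_sub]
    exact dvd_mul_of_dvd_right (hV x h1 (h2 hC)) _
  have ho : o ∈ (D.flip s hs).only 0 := (D.flip s hs).mem_only.2 fun i => by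
    show s o * D.a i o = _
    rcases eq_or_ne i 0 with rfl | hi
    · rw [if_pos rfl, hso o h0, h0, one_mul]
    · rw [if_neg hi, ha i hi, mul_zero]
  have hC : (D.flip s hs).C o = 0 := by
    rw [← (D.flip s hs).H_in (in_only ho) 0]
    show s o * D.H 0 o = 0
    rw [hH, mul_zero]
  rcases principal_bin N o (by show s o * D.deg o = 1; rw [hso o h0, hdeg, one_mul]) ho hC m h8'
    hV' with h | ⟨A, B, C, hA, hB, hC', h1, h2, h3, h4, h5, h6, h7, h9, x, hx, hxA, hxt⟩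
  · exact Or.inl h
  · refine Or.inr ⟨A, B, C, hA, hB, hC', h1, h2, h3, h4, h5, h6, h7, h9, x,
      (D.flip_hyps s hs hx).1, ?_⟩
    rcases mul_self_eq_one_iff.1 (hs x) with e | e <;>
      simp only [show (D.flip s hs).deg x = s x * D.deg x from rfl,
        show (D.flip s hs).tval x = s x * D.tval x from rfl, e, one_mul, neg_mul,
        neg_neg] at hxA hxt
    · exact ⟨hxA, hxt⟩
    · exact ⟨hxA.symm, by rcases hxt with h | h <;> omega⟩

/-- **Twisted lattice.** -/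
theorem twisted (D : Block ι) (hk : D.Main) (m : ℤ) (hm2 : D.h + 1 = 2 * m) (hmo : Odd m)
    (h13 : 13 ≤ D.h) (h8 : ∀ x, D.In x → 8 ∣ D.deg x - D.tval x)
    (hV : ∀ x, D.In x → D.H 0 x = 0 → m ∣ D.deg x - D.aS x)
    (homega : ∀ x, D.In x → D.deg x ∣ D.Q ^ 2 * (D.Q ^ 2 - D.Q + 1) * D.tval x) :
    ∃ x, D.In x ∧ (D.deg x = 1 ∨ D.deg x = -1) := by
  obtain ⟨s, hs, N, -⟩ := D.exists_sign
  obtain ⟨x, hx, h⟩ := twisted_bin N (by exact hk) m hm2 hmo h13
    (fun x hx => by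
      show 8 ∣ s x * D.deg x - s x * D.tval x
      rw [← mul_sub]; exact dvd_mul_of_dvd_right (h8 x (D.flip_hyps s hs hx).1) _)
    (fun x hx hC => by
      obtain ⟨h1, h2, h3⟩ := D.flip_hyps s hs hx
      rw [h3, show (D.flip s hs).deg x = s x * D.deg x from rfl, ← mul_sub]
      exact dvd_mul_of_dvd_right (hV x h1 (h2 hC)) _)
    (fun x hx => by
      obtain ⟨c, hc⟩ := homega x (D.flip_hyps s hs hx).1
      refine ⟨c, ?_⟩
      show D.Q ^ 2 * (D.Q ^ 2 - D.Q + 1) * (s x * D.tval x) = s x * D.deg x * c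
      linear_combination s x * hc)
  refine ⟨x, (D.flip_hyps s hs hx).1, ?_⟩
  rcases mul_self_eq_one_iff.1 (hs x) with e | e <;>
    simp only [show (D.flip s hs).deg x = s x * D.deg x from rfl, e] at h <;> omega

end Cfsg.Agent.H28.TypeR.Block
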