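import Cfsg.Agent.H64.Ward.Columns

/-!
# The block of one lattice: the torus rows and the value of `k`

A `Block` holds the three principal columns `a` of a lattice, the three generalised characters `H`
and the generalised character `U` of a torus element, as integer vectors on the characters.  No
discrete column is needed: `H` has two rows in the block and one outside, `U` has one outside, and
the four functionals give `k Q X = (Q-1)² (Q+1)`.
-/

set_option autoImplicit false
set_option linter.unusedSectionVars false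

namespace Cfsg.Agent.H28.TypeR

open Finset
open Cfsg.Agent.H64.Ward (dot dot_comm classFn abs_le_one card_supp supp mem_supp exists_extra)

variable {ι : Type*} [Fintype ι]

/-- The data of one lattice. -/
structure Block (ι : Type*) [Fintype ι] where
  Q : ℤ
  h : ℤ
  hQ : Q = 2 * h + 1
  hh : 5 ≤ h ∨ h ≤ -7
  k : ℚ
  deg : ι → ℤ
  tval : ι → ℤ
  a : Fin 3 → ι → ℤ
  H : Fin 3 → ι → ℤ
  U : ι → ℤ
  deg_ne : ∀ x, deg x ≠ 0
  a_sq : ∀ i, dot (a i) (a i) = 4
  a_dot : ∀ i i', i ≠ i' → dot (a i) (a i') = 2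
  H_sq : ∀ j, dot (H j) (H j) = 3
  H_dot : ∀ i j, i ≠ j → dot (H i) (H j) = 2
  H_a : ∀ i j, dot (H j) (a i) = if i = 0 then 0 else 1
  U_sq : dot U U = 7
  U_H : ∀ j, dot U (H j) = 0
  a_deg : ∀ i, dot (a i) deg = 0
  H_deg : ∀ j, dot (H j) deg = 0
  U_deg : dot U deg = 0
  H_tval : ∀ j, dot (H j) tval = 0
  U_tval : dot U tval = 0
  tval_block : ∀ x, (∃ i, a i x ≠ 0) → tval x = a 0 x + h * (a 1 x + a 2 x)
  U_block : ∀ j x, (∃ i, a i x ≠ 0) → U x = H j x + (a 0 x - a 1 x - a 2 x)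
  hpair : ∀ x, (∀ j, H j x ≠ 0) → ∃ i, a i x ≠ 0
  fun_zero : classFn deg tval (a 0) = ((Q : ℚ) - 1) * k
  fun_a : ∀ i, i ≠ 0 → classFn deg tval (a i) = (3 * (Q : ℚ) - 1) / ((Q : ℚ) + 1) * k
  fun_H : ∀ j, classFn deg tval (H j) = 0
  fun_U : classFn deg tval U = ((Q : ℚ) + 1) * k

namespace Block

theorem dot_add_left (u v w : ι → ℤ) : dot (u + v) w = dot u w + dot v w := by
  simp only [dot, Pi.add_apply, add_mul, sum_add_distrib]

theorem dot_sub_left (u v w : ι → ℤ) : dot (u - v) w = dot u w - dot v w := by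
  simp only [dot, Pi.sub_apply, sub_mul, sum_sub_distrib]

theorem dot_eq_zero_of_disjoint {u v : ι → ℤ} (h : ∀ x, u x = 0 ∨ v x = 0) : dot u v = 0 :=
  sum_eq_zero fun x _ => by rcases h x with e | e <;> simp [e]

theorem classFn_add (d t u v : ι → ℤ) : classFn d t (u + v) = classFn d t u + classFn d t v := by
  simp only [classFn, Pi.add_apply, Int.cast_add, add_mul, add_div, sum_add_distrib]

theorem classFn_sub (d t u v : ι → ℤ) : classFn d t (u - v) = classFn d t u - classFn d t v := by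
  simp only [classFn, Pi.sub_apply, Int.cast_sub, sub_mul, sub_div, sum_sub_distrib]

/-- A vector of norm one. -/
theorem unit_vector {v : ι → ℤ} (h : dot v v = 1) (d t : ι → ℤ) (hd : ∀ x, d x ≠ 0) :
    dot v d ≠ 0 ∧ classFn d t v = (dot v t : ℚ) ^ 2 / (dot v d : ℚ) := by
  classical
  obtain ⟨G, -, hG, h0⟩ := exists_extra (v := v) (s := ∅) (by simp [h])
  have hv : ∀ w : ι → ℤ, dot v w = v G * w G := fun w => by
    rw [dot, sum_eq_single G (fun x _ hx => by rw [h0 x (notMem_empty x) hx, zero_mul]) (by simp)]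
  have hc : classFn d t v = (v G : ℚ) * (t G : ℚ) ^ 2 / (d G : ℚ) :=
    sum_eq_single G (fun x _ hx => by simp [h0 x (notMem_empty x) hx]) (by simp)
  rw [hv, hv, hc]
  rcases hG with e | e <;> rw [e] <;> refine ⟨by simp [hd], ?_⟩ <;> push_cast <;>
    field_simp [(by exact_mod_cast hd G : (d G : ℚ) ≠ 0)]

variable (D : Block ι)

/-- A row of the block. -/
def In (x : ι) : Prop := ∃ i, D.a i x ≠ 0

theorem not_in {x : ι} (h : ¬ D.In x) (i : Fin 3) : D.a i x = 0 := by
  by_contra e; exact h ⟨i, e⟩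

/-- `a₀ - a₊ - a₋`. -/
def aS : ι → ℤ := D.a 0 - D.a 1 - D.a 2

open scoped Classical in
/-- The part of the `H` in the block. -/
noncomputable def C : ι → ℤ := fun x => if D.In x then D.H 0 x else 0

open scoped Classical in
/-- The part of `U` outside the block. -/
noncomputable def W : ι → ℤ := fun x => if D.In x then 0 else D.U x

/-- The part of `H j` outside the block. -/
noncomputable def R (j : Fin 3) : ι → ℤ := D.H j - D.C

theorem H_in {x : ι} (hx : D.In x) (j : Fin 3) : D.H j x = D.C x := by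
  simp only [C, if_pos hx]
  linarith [D.U_block j x hx, D.U_block 0 x hx]

theorem C_out {x : ι} (hx : ¬ D.In x) : D.C x = 0 := by simp [C, hx]

theorem W_in {x : ι} (hx : D.In x) : D.W x = 0 := by simp [W, hx]

theorem R_in {x : ι} (hx : D.In x) (j : Fin 3) : D.R j x = 0 := by
  simp [R, D.H_in hx j]

theorem R_out {x : ι} (hx : ¬ D.In x) (j : Fin 3) : D.R j x = D.H j x := by
  simp [R, D.C_out hx]

theorem H_eq (j : Fin 3) : D.H j = D.C + D.R j := by simp [R]

theorem U_eq : D.U = D.C + D.aS + D.W := by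
  funext x
  by_cases hx : D.In x
  · simp only [Pi.add_apply, aS, Pi.sub_apply, D.W_in hx, ← D.H_in hx 0, D.U_block 0 x hx]; ring
  · simp [aS, D.C_out hx, D.not_in hx, W, hx]

theorem R_a (j : Fin 3) (i : Fin 3) : dot (D.R j) (D.a i) = 0 :=
  dot_eq_zero_of_disjoint fun x => by
    by_cases hx : D.In x
    · exact Or.inl (D.R_in hx j)
    · exact Or.inr (D.not_in hx i)

theorem R_C (j : Fin 3) : dot (D.R j) D.C = 0 :=
  dot_eq_zero_of_disjoint fun x => by
    by_cases hx : D.In x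
    · exact Or.inl (D.R_in hx j)
    · exact Or.inr (D.C_out hx)

theorem C_a (i : Fin 3) : dot D.C (D.a i) = if i = 0 then 0 else 1 := by
  rw [← D.H_a i 0, D.H_eq 0, dot_add_left, D.R_a, add_zero]

theorem C_sq : dot D.C D.C = 2 := by
  classical
  have hR : ∀ i j, dot (D.R i) (D.R j) = dot (D.H i) (D.H j) - dot D.C D.C := by
    intro i j
    rw [D.H_eq i, D.H_eq j, dot_add_left, dot_comm D.C (D.C + D.R j), dot_comm (D.R i) (D.C + D.R j),
      dot_add_left, dot_add_left, dot_comm D.C (D.R i), D.R_C, D.R_C, dot_comm (D.R j) (D.R i)]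
    ring
  have hpos : ∀ v : ι → ℤ, 0 ≤ dot v v := fun v => sum_nonneg fun x _ => mul_self_nonneg _
  have h00 := hR 0 0
  rw [D.H_sq] at h00
  have h3 : dot D.C D.C ≤ 3 := by linarith [hpos (D.R 0)]
  have hzero : ∀ v : ι → ℤ, dot v v = 0 → ∀ w : ι → ℤ, dot v w = 0 := fun v hv w =>
    dot_eq_zero_of_disjoint fun x => Or.inl (mul_self_eq_zero.1
      ((sum_eq_zero_iff_of_nonneg fun x _ => mul_self_nonneg (v x)).1 hv x (mem_univ x)))
  rcases (by have := hpos D.C; omega :
      dot D.C D.C = 0 ∨ dot D.C D.C = 1 ∨ dot D.C D.C = 2 ∨ dot D.C D.C = 3) with c | c | c | c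
  · exfalso
    have := D.C_a 1
    rw [hzero _ c, if_neg (by decide)] at this
    exact zero_ne_one this
  · -- one row: a parity
    exfalso
    have hb : ∀ j x, D.R j x = 0 ∨ D.R j x = 1 ∨ D.R j x = -1 := fun j =>
      abs_le_one (by rw [hR, D.H_sq, c]; norm_num)
    have hnot : ∀ x, D.R 0 x = 0 ∨ D.R 1 x = 0 ∨ D.R 2 x = 0 := by
      intro x
      by_cases hx : D.In x
      · exact Or.inl (D.R_in hx 0)
      · by_contra hc
        push Not at hc
        exact hx (D.hpair x fun j => by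
          rw [← D.R_out hx j]; fin_cases j <;> first | exact hc.1 | exact hc.2.1 | exact hc.2.2)
    let f : ι → ℤ := fun x => D.R 0 x * D.R 0 x + D.R 1 x * D.R 1 x + D.R 2 x * D.R 2 x -
      2 * (D.R 0 x * D.R 1 x + D.R 0 x * D.R 2 x + D.R 1 x * D.R 2 x)
    have hf : ∀ x, 0 ≤ f x ∧ (f x = 0 → 2 ∣ D.R 0 x + D.R 1 x + D.R 2 x) := by
      intro x
      simp only [f]
      rcases hb 0 x with e | e | e <;> rcases hb 1 x with e' | e' | e' <;>
        rcases hb 2 x with e'' | e'' | e'' <;> rcases hnot x with n | n | n <;> simp_all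
    have hsum : ∑ x, f x = dot (D.R 0) (D.R 0) + dot (D.R 1) (D.R 1) + dot (D.R 2) (D.R 2) -
        2 * (dot (D.R 0) (D.R 1) + dot (D.R 0) (D.R 2) + dot (D.R 1) (D.R 2)) := by
      simp only [f, dot, sum_add_distrib, sum_sub_distrib, ← mul_sum]
    rw [hR, hR, hR, hR, hR, hR, D.H_sq, D.H_sq, D.H_sq, D.H_dot 0 1 (by decide),
      D.H_dot 0 2 (by decide), D.H_dot 1 2 (by decide), c] at hsum
    have hall := (sum_eq_zero_iff_of_nonneg fun x _ => (hf x).1).1 (by linarith)
    have heven : (2 : ℤ) ∣ dot (D.R 0 + D.R 1 + D.R 2) D.U :=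
      dvd_sum fun x _ => dvd_mul_of_dvd_left
        (by simpa using (hf x).2 (hall x (mem_univ x))) _
    rw [dot_add_left, dot_add_left] at heven
    have hCU : dot D.C D.U = -1 := by
      rw [dot_comm, D.U_eq, dot_add_left, dot_add_left, dot_comm D.aS, c,
        dot_eq_zero_of_disjoint (u := D.W) (v := D.C) fun x => by
          by_cases hx : D.In x
          · exact Or.inl (D.W_in hx)
          · exact Or.inr (D.C_out hx)]
      rw [aS, dot_comm D.C, dot_sub_left, dot_sub_left, dot_comm (D.a 0), dot_comm (D.a 1),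
        dot_comm (D.a 2), D.C_a, D.C_a, D.C_a]
      simp
    have hRU : ∀ j, dot (D.R j) D.U = 1 := fun j => by
      rw [R, dot_sub_left, dot_comm (D.H j), D.U_H, hCU]; ring
    rw [hRU, hRU, hRU] at heven
    omega
  · exact c
  · exfalso
    have h01 := hR 0 1
    rw [D.H_dot 0 1 (by decide), c] at h01
    rw [c] at h00
    rw [hzero _ (by linarith)] at h01
    omega

theorem R_sq (j : Fin 3) : dot (D.R j) (D.R j) = 1 := by
  have h := D.H_sq j
  rw [D.H_eq j, dot_add_left, dot_comm D.C (D.C + D.R j), dot_comm (D.R j) (D.C + D.R j),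
    dot_add_left, dot_add_left, D.C_sq, dot_comm D.C (D.R j), D.R_C] at h
  linarith

theorem aS_dot (i : Fin 3) : dot D.aS (D.a i) = if i = 0 then 0 else -4 := by
  rw [aS, dot_sub_left, dot_sub_left]
  fin_cases i <;> simp [D.a_sq, D.a_dot]

theorem aS_sq : dot D.aS D.aS = 8 := by
  conv_lhs => arg 1; rw [aS]
  rw [dot_sub_left, dot_sub_left, dot_comm (D.a 0), dot_comm (D.a 1), dot_comm (D.a 2),
    D.aS_dot, D.aS_dot, D.aS_dot]
  simp

theorem aS_out {x : ι} (hx : ¬ D.In x) : D.aS x = 0 := by simp [aS, D.not_in hx]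

theorem C_aS : dot D.C D.aS = -2 := by
  rw [dot_comm, aS, dot_sub_left, dot_sub_left, dot_comm (D.a 0), dot_comm (D.a 1),
    dot_comm (D.a 2), D.C_a, D.C_a, D.C_a]
  simp

theorem W_sq : dot D.W D.W = 1 := by
  have hW : ∀ v : ι → ℤ, (∀ x, ¬ D.In x → v x = 0) → dot D.W v = 0 := fun v hv =>
    dot_eq_zero_of_disjoint fun x => by
      by_cases hx : D.In x
      · exact Or.inl (D.W_in hx)
      · exact Or.inr (hv x hx)
  have h := D.U_sq
  rw [D.U_eq, dot_add_left, dot_add_left, dot_comm D.C, dot_comm D.aS, dot_comm D.W (D.C + D.aS + D.W),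
    dot_add_left, dot_add_left, dot_add_left, dot_add_left, dot_add_left, dot_add_left, D.C_sq,
    D.aS_sq, dot_comm D.aS D.C, D.C_aS, hW _ fun x hx => D.C_out hx,
    hW _ fun x hx => D.aS_out hx, dot_comm D.C D.W, dot_comm D.aS D.W,
    hW _ fun x hx => D.C_out hx, hW _ fun x hx => D.aS_out hx] at h
  linarith

/-- The values on the block rows. -/
theorem dot_tval {v : ι → ℤ} (hv : ∀ x, ¬ D.In x → v x = 0) :
    dot v D.tval = dot v (D.a 0) + D.h * (dot v (D.a 1) + dot v (D.a 2)) := by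
  simp only [dot, ← sum_add_distrib, mul_sum]
  refine sum_congr rfl fun x _ => ?_
  by_cases hx : D.In x
  · rw [D.tval_block x hx]; ring
  · simp [hv x hx]

/-- Minus the degree of the block part of the `H`. -/
noncomputable def X : ℤ := -dot D.C D.deg

theorem R_values : dot (D.R 0) D.deg = D.X ∧ dot (D.R 0) D.tval = -(2 * D.h) ∧
    dot D.W D.deg = D.X ∧ dot D.W D.tval = 6 * D.h := by
  have hC : dot D.C D.tval = 2 * D.h := by
    rw [D.dot_tval fun x hx => D.C_out hx, D.C_a, D.C_a, D.C_a]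
    simp only [if_pos, Fin.reduceEq, if_false]
    ring
  have hS : dot D.aS D.tval = -(8 * D.h) := by
    rw [D.dot_tval fun x hx => D.aS_out hx, D.aS_dot, D.aS_dot, D.aS_dot]
    simp only [if_pos, Fin.reduceEq, if_false]
    ring
  have h1 := D.H_deg 0
  have h2 := D.H_tval 0
  have h3 := D.U_deg
  have h4 := D.U_tval
  have h5 : dot D.aS D.deg = 0 := by
    rw [aS, dot_sub_left, dot_sub_left, D.a_deg, D.a_deg, D.a_deg]; rfl
  rw [D.H_eq 0, dot_add_left] at h1 h2
  rw [D.U_eq, dot_add_left, dot_add_left] at h3 h4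
  simp only [X]
  refine ⟨?_, ?_, ?_, ?_⟩ <;> linarith

theorem X_ne : D.X ≠ 0 :=
  D.R_values.1 ▸ (unit_vector (D.R_sq 0) D.deg D.tval D.deg_ne).1

/-- What the functionals say: the pair of the `H` and `k`. -/
theorem exc : classFn D.deg D.tval D.C + (2 * (D.h : ℚ)) ^ 2 / (D.X : ℚ) = 0 ∧
    D.k * ((D.Q : ℚ) * (D.X : ℚ)) = (2 * (D.h : ℚ)) ^ 2 * ((D.Q : ℚ) + 1) := by
  obtain ⟨r1, r2, r3, r4⟩ := D.R_values
  have hC : classFn D.deg D.tval D.C + (2 * (D.h : ℚ)) ^ 2 / (D.X : ℚ) = 0 := by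
    have h := D.fun_H 0
    rw [D.H_eq 0, classFn_add, (unit_vector (D.R_sq 0) D.deg D.tval D.deg_ne).2, r1, r2] at h
    push_cast at h
    linear_combination h
  refine ⟨hC, ?_⟩
  have h := D.fun_U
  rw [D.U_eq, classFn_add, classFn_add, (unit_vector D.W_sq D.deg D.tval D.deg_ne).2, r3, r4,
    aS, classFn_sub, classFn_sub, D.fun_zero, D.fun_a 1 (by decide),
    D.fun_a 2 (by decide)] at h
  push_cast at h
  have hX : (D.X : ℚ) ≠ 0 := by exact_mod_cast D.X_ne
  have hQ1 : (D.Q : ℚ) + 1 ≠ 0 := by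
    exact_mod_cast (by have := D.hQ; have := D.hh; omega : D.Q + 1 ≠ 0)
  rw [eq_neg_of_add_eq_zero_left hC] at h
  field_simp at h
  linear_combination (-1 / 8 : ℚ) * h

end Block

end Cfsg.Agent.H28.TypeR
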