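import Cfsg.Agent.H28.TypeR.Blocks
import Cfsg.Agent.H84.Ward.TRows
import Cfsg.Agent.H64.Ward.Columns
import Cfsg.Agent.H36.DegreeEq

/-!
# The principal columns of every twist

From the four principal characters of `L` and the pair sums at the trivial twist: the products,
degree sums, values at `t` and structure functional of the columns of every twist.
-/

set_option autoImplicit false
set_option linter.style.haveILetI false
set_option linter.unusedSectionVars false

namespace Cfsg.Agent.H28.TypeR.Blocks

open Subgroup Cfsg Cfsg.Agent Cfsg.Agent.BlockBasic Cfsg.Agent.CharBasic Cfsg.Agent.CharInduce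
open Cfsg.Agent.H84.Ward (TData VanEven tu)
open Cfsg.Agent.H64.Ward (dot classFn)
open scoped ComplexConjugate Classical

universe u v

variable {G : Type u} [Group G] [Fintype G] {L : Type v} [Group L] [Fintype L]

/-- The value at `t`. -/
noncomputable def tv (D : TData G L) (χ : IrrCharacter G) : ℤ :=
  (H36.SelfCentral.exists_int_involution χ D.t_sq D.t_ne_one (H83.charDegree_eq χ.2).1).choose

theorem tv_spec (D : TData G L) (χ : IrrCharacter G) : (χ : G → ℂ) D.t = (tv D χ : ℂ) :=
  (H36.SelfCentral.exists_int_involution χ D.t_sq D.t_ne_one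
    (H83.charDegree_eq χ.2).1).choose_spec.1

/-- The degree. -/
noncomputable def dg (χ : IrrCharacter G) : ℤ := (charDegree (χ : G → ℂ) : ℤ)

variable {D : TData G L} {M : Ideal AlgInt} {c : Fin 4 → IrrCharacter L} {S : Subgroup G}

theorem theta_eq (c : Fin 4 → IrrCharacter L) (l : L →* ℂˣ) (i : Fin 3) :
    theta c l i = (fun a => (l a : ℂ)) * theta c 1 i := by
  funext a
  simp [theta]

/-- Twisting keeps the vanishing at even order. -/
theorem vanEven_theta (hv : ∀ i, VanEven (theta c 1 i)) (l : L →* ℂˣ) (i : Fin 3) :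
    VanEven (theta c l i) where
  gen := by
    rw [theta_eq]
    exact IsGen.mul (IsGen.of_char (isCharacter_hom l)) (hv i).gen
  even a ha := by rw [theta_eq, Pi.mul_apply, (hv i).even a ha, mul_zero]

/-- The column of `θ_i` twisted by `l`. -/
noncomputable def row (D : TData G L) (hv : ∀ i, VanEven (theta c 1 i)) (l : L →* ℂˣ) (i : Fin 3)
    (χ : IrrCharacter G) : ℤ := D.coef (vanEven_theta hv l i) χ

theorem theta_conj (c : Fin 4 → IrrCharacter L) (l l' : L →* ℂˣ) (i m : Fin 3) :
    classInner (theta c l i) (theta c l' m) = classInner (theta c 1 i) (theta c (l' / l) m) := by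
  rw [classInner_def, classInner_def]
  congr 1
  refine Finset.sum_congr rfl fun a _ => ?_
  have hn : (l a : ℂ) * conj (l a : ℂ) = 1 := by rw [Complex.mul_conj', norm_hom]; norm_num
  have hd : ((l' / l) a : ℂ) = (l' a : ℂ) * conj (l a : ℂ) := by
    rw [MonoidHom.div_apply, Units.val_div_eq_div_val, div_eq_mul_inv,
      eq_inv_of_mul_eq_one_right hn]
  simp only [theta, hd, MonoidHom.one_apply, Units.val_one, one_mul, map_mul, Complex.conj_conj]
  ring

theorem Data.classInner_theta_one (X : Data D M c S) (i m : Fin 3) :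
    classInner (theta c 1 i) (theta c 1 m) = if i = m then 2 else 1 := by
  have h : ∀ i : Fin 3, theta c 1 i = (c i.castSucc : L → ℂ) + (c 3 : L → ℂ) := fun i => by
    funext a; simp [theta]
  have h3 : ∀ i : Fin 3, c 3 ≠ c i.castSucc := fun i e => by
    have := X.inj e
    clear e h
    revert this; revert i; decide
  rw [h, h]
  simp only [classInner_add_left, classInner_add_right, classInner_irrCharacter,
    if_neg (h3 _), if_neg (Ne.symm (h3 _))]
  by_cases him : i = m
  · subst him; simp; norm_num
  · simp [him, X.inj.eq_iff]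

/-- A non-trivial linear character moves the principal block. -/
theorem Data.mul_notMem (X : Data D M c S) {l : L →* ℂˣ} (hl : l ≠ 1) (j : Fin 4) :
    mulIrr l (c j) ∉ principalBlock M L := by
  intro h
  have h0 : c j ∈ principalBlock M L := X.range ▸ Set.mem_range_self j
  have h1 := sameBlock_hom_mul X.hM l (show SameBlock M (fun _ => (1 : ℂ)) (c j : L → ℂ) from h0)
  simp only [mul_one] at h1
  have h2 : linIrr l ∈ principalBlock M L :=
    sameBlock_trans X.hM h (sameBlock_symm h1)
  rw [← X.range] at h2
  obtain ⟨m, hm⟩ := h2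
  have hm0 : m = 0 := by
    by_contra hne
    refine X.deg m hne ?_
    rw [hm]; simp
  refine hl (MonoidHom.ext fun a => Units.ext ?_)
  have h3 := congrFun (congrArg Subtype.val hm) a
  rw [hm0, X.zero] at h3
  simpa using h3.symm

theorem Data.classInner_theta_cross (X : Data D M c S) {l : L →* ℂˣ} (hl : l ≠ 1) (i m : Fin 3) :
    classInner (theta c 1 i) (theta c l m) = 0 := by
  have h1 : theta c 1 i = (c i.castSucc : L → ℂ) + (c 3 : L → ℂ) := by funext a; simp [theta]
  have h2 : theta c l m = (mulIrr l (c m.castSucc) : L → ℂ) + (mulIrr l (c 3) : L → ℂ) := by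
    funext a; simp [theta, mul_add]
  have hne : ∀ j k, c j ≠ mulIrr l (c k) := fun j k e =>
    X.mul_notMem hl k (e ▸ X.range ▸ Set.mem_range_self j)
  rw [h1, h2]
  simp [classInner_add_left, classInner_add_right, classInner_irrCharacter, hne]

theorem Data.classInner_theta_triv (X : Data D M c S) (l : L →* ℂˣ) (i : Fin 3) :
    classInner (theta c l i) (fun _ => (1 : ℂ)) = if l = 1 ∧ i = 0 then 1 else 0 := by
  have h0 : (c 0 : L → ℂ) = fun _ => (1 : ℂ) := funext X.zero
  have h2 : theta c l i = (mulIrr l (c i.castSucc) : L → ℂ) + (mulIrr l (c 3) : L → ℂ) := by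
    funext a; simp [theta, mul_add]
  rw [h2, ← h0]
  by_cases hl : l = 1
  · subst hl
    have e : ∀ j, mulIrr (1 : L →* ℂˣ) (c j) = c j := fun j => Subtype.ext (funext fun a => by simp)
    simp [e, classInner_add_left, classInner_irrCharacter, X.inj.eq_iff]
  · have hne : ∀ j k, mulIrr l (c k) ≠ c j := fun j k e =>
      X.mul_notMem hl k (e ▸ X.range ▸ Set.mem_range_self j)
    simp [hl, classInner_add_left, classInner_irrCharacter, hne]

/-- Products of the twisted columns. -/
theorem Data.row_dot (X : Data D M c S) (hv : ∀ i, VanEven (theta c 1 i)) (l l' : L →* ℂˣ)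
    (i m : Fin 3) :
    dot (row D hv l i) (row D hv l' m) = if l = l' then (if i = m then 4 else 2) else 0 := by
  have hk : classInner (theta c l i) (theta c l' m) =
      ((if l = l' then (if i = m then 2 else 1) else 0 : ℤ) : ℂ) := by
    rw [theta_conj]
    by_cases h : l = l'
    · subst h
      rw [show l / l = 1 from MonoidHom.ext fun a => by simp, X.classInner_theta_one]
      simp only [if_true]
      push_cast
      rfl
    · rw [if_neg h, X.classInner_theta_cross (fun e => h (div_eq_one.1 e).symm), Int.cast_zero]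
  refine (D.gram (vanEven_theta hv l i) (vanEven_theta hv l' m) hk).trans ?_
  split_ifs <;> rfl

theorem row_deg (hv : ∀ i, VanEven (theta c 1 i)) (l : L →* ℂˣ) (i : Fin 3) :
    dot (row D hv l i) dg = 0 :=
  D.deg_sum (vanEven_theta hv l i)

theorem Data.row_triv (X : Data D M c S) (hv : ∀ i, VanEven (theta c 1 i)) (l : L →* ℂˣ)
    (i : Fin 3) : row D hv l i (H36.SelfCentral.triv G) = if l = 1 ∧ i = 0 then 1 else 0 :=
  D.coef_triv _ (by rw [X.classInner_theta_triv]; push_cast; rfl)

/-- The value at `t` of a row of the twist `l`. -/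
theorem Data.tv_eq (X : Data D M c S) {l : L →* ℂˣ} (hl : Fused D S l)
    (hv : ∀ i, VanEven (theta c 1 i)) {χ : IrrCharacter G} (hne : ∃ i, row D hv l i χ ≠ 0)
    {h : ℤ} (h1 : (c 1 : L → ℂ) 1 = (h : ℂ)) (h2 : (c 2 : L → ℂ) 1 = (h : ℂ)) :
    tv D χ = row D hv l 0 χ + h * (row D hv l 1 χ + row D hv l 2 χ) := by
  have e := (tv_spec D χ).symm.trans (X.apply_t hl (fun i => vanEven_theta hv l i) hne h1 h2)
  exact_mod_cast e

/-- An element of odd order with an involution inverting it is killed by every linear character. -/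
theorem hom_eq_one_of_inverted {a r : L} (l : L →* ℂˣ) (ha : Odd (orderOf a)) (hr : r * r = 1)
    (h : r * a * (r * a) = 1) : l a = 1 := by
  have e := congrArg l h
  have er := congrArg l hr
  simp only [map_mul, map_one] at e er
  rw [show l r * l a * (l r * l a) = l r * l r * (l a * l a) by ac_rfl, er, one_mul] at e
  obtain ⟨n, hn⟩ := ha
  have h2 := congrArg l (pow_orderOf_eq_one a)
  rw [map_pow, map_one, hn, pow_succ, pow_mul, pow_two, e, one_pow, one_mul] at h2
  exact h2

/-- The pair sums do not see the twist. -/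
theorem pairs_theta (hv : ∀ i, VanEven (theta c 1 i)) (l : L →* ℂˣ) (i : Fin 3) :
    ∑ a : L, theta c l i a * (Nat.card (TData.Pairs (tu, a)) : ℂ) =
      ∑ a : L, theta c 1 i a * (Nat.card (TData.Pairs (tu, a)) : ℂ) := by
  refine Finset.sum_congr rfl fun a _ => ?_
  rw [theta_eq, Pi.mul_apply]
  by_cases ha : Odd (orderOf a)
  · by_cases ha1 : a = 1
    · simp [ha1]
    rw [TData.card_pairs_eq ha ha1]
    rcases isEmpty_or_nonempty (TData.Inv2 a) with he | ⟨⟨r, hr, hra⟩⟩
    · simp
    · simp [hom_eq_one_of_inverted l ha hr hra]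
  · simp [(hv i).even a ha]

/-- The structure functional on a twisted column. -/
theorem row_functional (hv : ∀ i, VanEven (theta c 1 i))
    (hconj : ∀ u : G, u * u = 1 → u ≠ 1 → IsConj D.t u) (l : L →* ℂˣ) (i : Fin 3) {s : ℤ}
    (hs : ∑ a : L, theta c 1 i a * (Nat.card (TData.Pairs (tu, a)) : ℂ) = (s : ℂ)) :
    (Nat.card G : ℚ) * classFn dg (tv D) (row D hv l i) = 4 * (Nat.card L : ℚ) * s := by
  have h := D.structure_eq (vanEven_theta hv l i) hconj (tv D) (tv_spec D) s
    (by rw [pairs_theta hv, hs])
  simpa [H64.Ward.classFn, row, dg] using h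

end Cfsg.Agent.H28.TypeR.Blocks
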