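import Cfsg.Agent.H15.WardE.Values
import Cfsg.Agent.H28.TypeR.BlockTwistRows

/-!
# The `E` side of the lattices: the inputs of `Blocks`
-/

set_option autoImplicit false
set_option linter.unusedSectionVars false
set_option linter.style.haveILetI false

namespace Cfsg.Agent.H28.TypeR

open Subgroup Cfsg Cfsg.Agent
open Cfsg.Agent.H84.Ward (TData VanEven tu)
open Cfsg.Agent.H15.WardE (EData ESide theta)
open scoped ComplexConjugate

universe u v

variable {E : Type v} [Group E] [Fintype E] {F : Type} [Field F] [Fintype F] {D : EData E F}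
  [Fintype (Matrix.ProjectiveSpecialLinearGroup (Fin 2) F)] {c : Fin 4 → IrrCharacter E}

/-- The four characters exist. -/
theorem exists_eSide (D : EData E F) : ∃ c : Fin 4 → IrrCharacter E, ESide D c :=
  H15.WardE.exists_lift D

/-- `(q - 1) / 2`. -/
def half (F : Type) [Fintype F] : ℤ := ((Fintype.card F : ℤ) - 1) / 2

theorem two_half (D : EData E F) : 2 * half F = (Fintype.card F : ℤ) - 1 := by
  have := D.h3
  rw [half]
  omega

theorem theta_triv (c : Fin 4 → IrrCharacter E) (i : Fin 3) :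
    Blocks.theta c (1 : E →* ℂˣ) i = theta c i := by
  funext a
  simp [Blocks.theta, theta]

/-- `hv`. -/
theorem eSide_vanEven (S : ESide D c) (i : Fin 3) : VanEven (Blocks.theta c (1 : E →* ℂˣ) i) := by
  rw [theta_triv]; exact S.vanEven i

/-- `h1`, `h2`. -/
theorem eSide_deg (S : ESide D c) {j : Fin 4} (h0 : j ≠ 0) (h3 : j ≠ 3) :
    (c j : E → ℂ) 1 = (half F : ℂ) := by
  have e := S.deg j h0 h3
  have h : (2 : ℂ) * (half F : ℂ) = (Fintype.card F : ℂ) - 1 := by
    exact_mod_cast congrArg (Int.cast : ℤ → ℂ) (two_half D)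
  linear_combination e / 2 - h / 2

/-- `hs`. -/
theorem eSide_pairs (S : ESide D c) (i : Fin 3) :
    ∑ a : E, Blocks.theta c (1 : E →* ℂˣ) i a * (Nat.card (TData.Pairs (tu, a)) : ℂ) =
      ((if i = 0 then (Nat.card (Matrix.ProjectiveSpecialLinearGroup (Fin 2) F) : ℤ) *
          ((Fintype.card F : ℤ) - 1)
        else (Fintype.card F : ℤ) * half F * (3 * (Fintype.card F : ℤ) - 1) : ℤ) : ℂ) := by
  rw [theta_triv, S.sum_pairs]
  congr 1
  show D.tori.sumVec (.inl i) = _
  simp only [H15.Ward.Tori.sumVec, H15.Ward.Tori.hQ, H15.Ward.Tori.Q, H15.Ward.Tori.sn, half,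
    if_pos D.h3, one_mul]

/-- `c₁ = c₂ = -1` outside the kernel of a linear character of `K` trivial on `Φ`. -/
theorem eSide_value (S : ESide D c) {j : Fin 4} (h0 : j ≠ 0) (h3 : j ≠ 3) (mu : D.K →* ℂˣ)
    (hmu : ∀ y : D.K, (y : E) ∈ D.Phi → mu y = 1) {k : D.K} (hne : mu k ≠ 1) :
    (c j : E → ℂ) (k : E) = -1 :=
  S.apply_K h0 h3 k.2 (S.not_conj_of_hom mu hmu hne)

/-- The block data. -/
theorem eSide_data (S : ESide D c) {G : Type u} [Group G] {T : TData G E} {M : Ideal AlgInt}
    (hM : IsPModular 2 M) {P : Subgroup G} (h2 : IsPGroup 2 P)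
    (hcard : 2 ^ (Nat.card G).factorization 2 ≤ Nat.card P)
    (hab : ∀ a ∈ P, ∀ b ∈ P, a * b = b * a) (ht : T.t ∈ P) : Blocks.Data T M c P where
  hM := hM
  inj := S.inj
  range := (S.block M hM).symm
  zero a := by rw [S.one]
  deg j hj h1 := by
    have hq : 11 ≤ Fintype.card F := by have := D.h3; have := D.tori.h5; omega
    by_cases h3 : j = 3
    · rw [h3, S.deg3, Nat.cast_eq_one] at h1; omega
    · have e := S.deg j hj h3
      rw [h1] at e
      have : ((3 : ℕ) : ℂ) = (Fintype.card F : ℂ) := by push_cast; linear_combination e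
      have := Nat.cast_injective this
      omega
  three a ha := by rw [S.rel a ha, S.one]
  S2 := h2
  Scard := hcard
  Sab := hab
  tS := ht

end Cfsg.Agent.H28.TypeR
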