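import Cfsg.Agent.H28.TypeR.BlockInst
import Cfsg.Agent.H40.WardE.ColsSection
import Cfsg.Agent.H28.TypeR.ESide
import Cfsg.Agent.H56.CTwoAb.Small

/-!
# `BlockInput` from the `E` side and an extended torus
-/

set_option autoImplicit false
set_option linter.unusedSectionVars false
set_option linter.style.haveILetI false

namespace Cfsg.Agent.H28.TypeR

open Subgroup Cfsg Cfsg.Agent Cfsg.Agent.BlockBasic
open Cfsg.Agent.H84.Ward (TData VanEven tu)
open Cfsg.Agent.H15.WardE (EData ESide)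
open Cfsg.Agent.H40.WardE (ExtPair Twists)

universe u v w

variable {G : Type u} [Group G] [Fintype G] {E : Type v} [Group E] [Fintype E]
  {F : Type} [Field F] [Fintype F] [Fintype (Matrix.ProjectiveSpecialLinearGroup (Fin 2) F)]

/-- The input of the lattices from `ESide`, a Sylow subgroup at `t` and the torus data. -/
noncomputable def BlockInput.ofESide {T : TData G E} {ED : EData E F}
    {c : Fin 4 → IrrCharacter E} (X : ESide ED c) {M : Ideal AlgInt} (hM : IsPModular 2 M)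
    {Sy : Subgroup G} (h2 : IsPGroup 2 Sy)
    (hcard : 2 ^ (Nat.card G).factorization 2 ≤ Nat.card Sy)
    (hab : ∀ a ∈ Sy, ∀ b ∈ Sy, a * b = b * a) (ht : T.t ∈ Sy)
    {P : ExtPair G} {Λ : Type w} [Fintype Λ] (S : Twists P Λ) (el : Λ → (E →* ℂˣ))
    (fused : ∀ l, Blocks.Fused T Sy (el l)) (ι : ↥P.K →* E)
    (hι : ∀ k : ↥P.K, T.emb (1, ι k) = (k : G)) (hodd : ∀ k : ↥P.K, Odd (orderOf (ι k)))
    (el_ι : ∀ l k, el l (ι k) = S.tw l k) (hιK : ∀ k, ι k ∈ ED.K)
    (hιsurj : ∀ x ∈ ED.K, ∃ k, ι k = x) (hιFo : ∀ k, ι k ∈ ED.Phi → k ∈ S.Fo)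
    (hfix : ∀ j, ∀ z ∈ S.Fo, P.actK j z = z) (hinv : ∀ k, P.Inv k ↔ k ∈ S.T0) (x0 : ↥P.W)
    (hx0 : (x0 : G) = T.t) (hconj : ∀ r : G, r * r = 1 → r ≠ 1 → IsConj T.t r)
    (hΛ : Fintype.card Λ = Nat.card ↥ED.Phi) (hT0 : Nat.card ↥S.T0 = Nat.card ↥ED.T0) :
    BlockInput T S where
  M := M
  c := c
  Sy := Sy
  data := eSide_data X hM h2 hcard hab ht
  hv := eSide_vanEven X
  el := el
  ι := ι
  hι := hι
  hodd := hodd
  el_ι := el_ι
  fused := fused
  off k hk := by
    have hΦ : ∀ x ∈ ED.K, x⁻¹ * ι k * x ∉ ED.Phi := fun x hx h => by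
      obtain ⟨g, rfl⟩ := hιsurj x hx
      rw [← map_inv, ← map_mul, ← map_mul] at h
      exact (S.off_iff hfix k).1 hk g⁻¹ (by simpa using hιFo _ h)
    exact ⟨X.apply_K (by decide) (by decide) (hιK k) hΦ,
      X.apply_K (by decide) (by decide) (hιK k) hΦ⟩
  hfix := hfix
  hinv := hinv
  x0 := x0
  hx0 := hx0
  hconj := hconj
  Q := (Fintype.card F : ℤ)
  h := half F
  hQ := by have := two_half ED; omega
  hh := by
    have := two_half ED
    have := ED.h3
    have := ED.tori.h5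
    left; omega
  deg1 := eSide_deg X (by decide) (by decide)
  deg2 := eSide_deg X (by decide) (by decide)
  card_T0 := by
    have := ED.tori.card_K3 ED.h3
    rw [hT0, ED.card_T0]
    omega
  s i := if i = 0 then
      (Nat.card (Matrix.ProjectiveSpecialLinearGroup (Fin 2) F) : ℤ) * ((Fintype.card F : ℤ) - 1)
    else (Fintype.card F : ℤ) * half F * (3 * (Fintype.card F : ℤ) - 1)
  pairs := eSide_pairs X
  s_zero := by
    rw [if_pos rfl, hΛ, ED.card_eq, Nat.card_congr ED.e.toEquiv]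
    push_cast
    ring
  s_pm i hi := by
    have h := congrArg (fun n : ℕ => (n : ℤ)) (H56.CTwoAb.card_psl_two_odd (F := F)
      (by have := ED.h3; omega))
    have hq : 1 ≤ Fintype.card F ^ 2 := Nat.one_le_pow _ _ Fintype.card_pos
    push_cast [hq] at h
    have h2 := two_half ED
    rw [if_neg hi, hΛ, ED.card_eq, Nat.card_congr ED.e.toEquiv]
    push_cast
    apply mul_left_cancel₀ (two_ne_zero (α := ℤ))
    linear_combination (Nat.card ↥ED.Phi : ℤ) * (Fintype.card F : ℤ) *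
      (3 * (Fintype.card F : ℤ) - 1) * ((Fintype.card F : ℤ) + 1) * h2 -
      (Nat.card ↥ED.Phi : ℤ) * (3 * (Fintype.card F : ℤ) - 1) * h

end Cfsg.Agent.H28.TypeR
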