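import Cfsg.Agent.H28.TypeR.BlockCore
import Cfsg.Agent.H40.WardE.Slack

/-!
# A row outside the block with all three `H`

If the three `H` of a lattice share a row `b` outside the block, the lattice is a star: one row `A`
of the block, the row `b` and three exclusive rows.  The star is the same for every second lattice
with the same columns, and the three equations of one `H` give
`tval A · deg b = tval b · deg A`, which the congruences at `A` and `b` contradict.
-/

set_option autoImplicit false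
set_option linter.unusedSectionVars false

namespace Cfsg.Agent.H28.TypeR

open Finset
open Cfsg.Agent.H64.Ward (dot dot_comm classFn abs_le_one exists_extra)
open Cfsg.Agent.H40.WardE (dot_sub_left dot_sub_right)

variable {ι : Type*} [Fintype ι]

/-- The products of the columns of one lattice. -/
structure Lattice (ι : Type*) [Fintype ι] where
  a : Fin 3 → ι → ℤ
  H : Fin 3 → ι → ℤ
  U : ι → ℤ
  a_sq : ∀ i, dot (a i) (a i) = 4
  a_dot : ∀ i i', i ≠ i' → dot (a i) (a i') = 2
  H_sq : ∀ j, dot (H j) (H j) = 3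
  H_dot : ∀ i j, i ≠ j → dot (H i) (H j) = 2
  H_a : ∀ i j, dot (H j) (a i) = if i = 0 then 0 else 1
  U_a : ∀ i, dot U (a i) = if i = 0 then 0 else -3
  U_sq : dot U U = 7
  U_H : ∀ j, dot U (H j) = 0
  U_block : ∀ j x, (∃ i, a i x ≠ 0) → U x = H j x + (a 0 x - a 1 x - a 2 x)

namespace Lattice

variable (D : Lattice ι)

/-- A row of the block. -/
def In (x : ι) : Prop := ∃ i, D.a i x ≠ 0

theorem not_in {x : ι} (h : ¬ D.In x) (i : Fin 3) : D.a i x = 0 := by
  by_contra e; exact h ⟨i, e⟩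

/-- `a₀ - a₊ - a₋`. -/
def aS : ι → ℤ := D.a 0 - D.a 1 - D.a 2

open scoped Classical in
/-- The part of the `H` in the block. -/
noncomputable def C : ι → ℤ := fun x => if D.In x then D.H 0 x else 0

/-- The part of `H j` outside the block. -/
noncomputable def R (j : Fin 3) : ι → ℤ := D.H j - D.C

theorem C_out {x : ι} (hx : ¬ D.In x) : D.C x = 0 := by simp [C, hx]

theorem H_in {x : ι} (hx : D.In x) (j : Fin 3) : D.H j x = D.C x := by
  simp only [C, if_pos hx]
  linarith [D.U_block j x hx, D.U_block 0 x hx]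

theorem R_in {x : ι} (hx : D.In x) (j : Fin 3) : D.R j x = 0 := by
  simp [R, D.H_in hx j]

theorem R_out {x : ι} (hx : ¬ D.In x) (j : Fin 3) : D.R j x = D.H j x := by
  simp [R, D.C_out hx]

theorem R_C (j : Fin 3) : dot (D.R j) D.C = 0 :=
  Block.dot_eq_zero_of_disjoint fun x => by
    by_cases hx : D.In x
    · exact Or.inl (D.R_in hx j)
    · exact Or.inr (D.C_out hx)

theorem R_a (i j : Fin 3) : dot (D.R j) (D.a i) = 0 :=
  Block.dot_eq_zero_of_disjoint fun x => by
    by_cases hx : D.In x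
    · exact Or.inl (D.R_in hx j)
    · exact Or.inr (D.not_in hx i)

theorem C_a (i : Fin 3) : dot D.C (D.a i) = if i = 0 then 0 else 1 := by
  have h := D.R_a i 0
  rw [R, dot_sub_left, D.H_a] at h
  omega

theorem H_C (j : Fin 3) : dot (D.H j) D.C = dot D.C D.C := by
  have h := D.R_C j
  rw [R, dot_sub_left] at h
  omega

theorem R_R (i j : Fin 3) : dot (D.R i) (D.R j) = dot (D.H i) (D.H j) - dot D.C D.C := by
  simp only [R, dot_sub_left, dot_sub_right, dot_comm D.C (D.H j), D.H_C]
  ring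

theorem C_sq_cases : dot D.C D.C = 1 ∨ dot D.C D.C = 2 := by
  have hpos : ∀ v : ι → ℤ, 0 ≤ dot v v := fun v => sum_nonneg fun x _ => mul_self_nonneg _
  have hzero : ∀ v : ι → ℤ, dot v v = 0 → ∀ w : ι → ℤ, dot v w = 0 := fun v hv w =>
    Block.dot_eq_zero_of_disjoint fun x => Or.inl (mul_self_eq_zero.1
      ((sum_eq_zero_iff_of_nonneg fun x _ => mul_self_nonneg (v x)).1 hv x (mem_univ x)))
  have h00 := D.R_R 0 0
  have h01 := D.R_R 0 1
  rw [D.H_sq] at h00
  rw [D.H_dot 0 1 (by decide)] at h01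
  have := hpos D.C
  have := hpos (D.R 0)
  have h1 : dot D.C D.C ≠ 0 := fun h => by
    have := D.C_a 1
    rw [hzero _ h, if_neg (by decide)] at this
    exact zero_ne_one this
  have h3 : dot D.C D.C ≠ 3 := fun h => by
    rw [hzero _ (by omega)] at h01
    omega
  omega

/-- The star at a row `b` outside the block. -/
structure Star (b : ι) where
  A : ι
  e : Fin 3 → ι
  ε : ℤ
  β : ℤ
  γ : Fin 3 → ℤ
  hε : ε = 1 ∨ ε = -1
  hβ : β = 1 ∨ β = -1
  hγ : ∀ j, γ j = 1 ∨ γ j = -1
  inA : D.In A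
  outb : ¬ D.In b
  oute : ∀ j, ¬ D.In (e j)
  e_ne : ∀ j, e j ≠ b
  e_inj : Function.Injective e
  C_eq : ∀ x, x ≠ A → D.C x = 0
  C_A : D.C A = ε
  H_ne : ∀ j x, x ≠ A → x ≠ b → x ≠ e j → D.H j x = 0
  H_A : ∀ j, D.H j A = ε
  H_b : ∀ j, D.H j b = β
  H_e : ∀ j, D.H j (e j) = γ j
  U_A : D.U A = -ε
  U_b : D.U b = β

theorem H_dot_three {b A : ι} {j : Fin 3} {e : ι} (hAb : A ≠ b) (hAe : A ≠ e) (hbe : b ≠ e)
    (h : ∀ x, x ≠ A → x ≠ b → x ≠ e → D.H j x = 0) (v : ι → ℤ) :
    dot (D.H j) v = D.H j A * v A + D.H j b * v b + D.H j e * v e := by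
  classical
  rw [H64.Ward.dot_eq_sum (s := {A, b, e}) fun x hx => by
    simp only [mem_insert, mem_singleton, not_or] at hx
    exact h x hx.1 hx.2.1 hx.2.2]
  rw [sum_insert (by simp [hAb, hAe]), sum_insert (by simp [hbe]), sum_singleton]
  ring

/-- A row outside the block with all three `H` is the centre of a star. -/
theorem exists_star {b : ι} (hb : ¬ D.In b) (hne : ∀ j, D.H j b ≠ 0) : Nonempty (D.Star b) := by
  classical
  have hRb : ∀ j, D.R j b ≠ 0 := fun j => D.R_out hb j ▸ hne j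
  have hb1 : ∀ j x, D.R j x = 0 ∨ D.R j x = 1 ∨ D.R j x = -1 := fun j => abs_le_one (by
    rw [D.R_R, D.H_sq]
    rcases D.C_sq_cases with c | c <;> rw [c] <;> norm_num)
  have hbb : ∀ j, D.R j b * D.R j b = 1 := fun j => by
    rcases hb1 j b with e | e | e
    · exact absurd e (hRb j)
    all_goals rw [e]; norm_num
  have hc : dot D.C D.C = 1 := by
    rcases D.C_sq_cases with c | c
    · exact c
    exfalso
    have hz : ∀ x, x ∉ ({b} : Finset ι) → D.R 0 x = 0 :=
      H64.Ward.eq_zero_of_le (by rw [D.R_R, D.H_sq, c, sum_singleton, hbb]; norm_num)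
    have h := D.R_R 0 1
    rw [D.H_dot 0 1 (by decide), c, H64.Ward.dot_eq_sum hz, sum_singleton, sub_self] at h
    exact mul_ne_zero (hRb 0) (hRb 1) h
  have hex : ∀ j, ∃ e ∉ ({b} : Finset ι), (D.R j e = 1 ∨ D.R j e = -1) ∧
      ∀ x ∉ ({b} : Finset ι), x ≠ e → D.R j x = 0 := fun j =>
    exists_extra (by rw [D.R_R, D.H_sq, hc, sum_singleton, hbb]; norm_num)
  choose e hemem hγ he0 using hex
  have heb : ∀ j, e j ≠ b := fun j h => hemem j (by simp [h])
  obtain ⟨A, -, hε, hA0⟩ := exists_extra (v := D.C) (s := ∅) (by simpa using hc)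
  have hA : D.In A := by
    by_contra h
    rcases hε with h' | h' <;> simp [D.C_out h] at h'
  have heout : ∀ j, ¬ D.In (e j) := fun j h => by
    rcases hγ j with h' | h' <;> simp [D.R_in h] at h'
  have hAb : A ≠ b := fun h => hb (h ▸ hA)
  have hAe : ∀ j, A ≠ e j := fun j h => heout j (h ▸ hA)
  have hC : ∀ x, x ≠ A → D.C x = 0 := fun x hx => hA0 x (notMem_empty x) hx
  have hHne : ∀ j x, x ≠ A → x ≠ b → x ≠ e j → D.H j x = 0 := fun j x h1 h2 h3 => by
    have h := he0 j x (by simp [h2]) h3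
    simp only [R, Pi.sub_apply, hC x h1, sub_zero] at h
    exact h
  have hHA : ∀ j, D.H j A = D.C A := D.H_in hA
  -- two of the `H` agree at `b` and differ outside
  have hpair : ∀ i j, i ≠ j → D.H i b = D.H j b ∧ e i ≠ e j := by
    intro i j hij
    have hp := D.R_R i j
    rw [D.H_dot i j hij, hc, H64.Ward.dot_eq_sum (s := {b, e i}) fun x hx => by
      simp only [mem_insert, mem_singleton, not_or] at hx
      exact he0 i x (by simp [hx.1]) hx.2] at hp
    rw [sum_insert (by simp [(heb i).symm]), sum_singleton] at hp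
    rw [← D.R_out hb i, ← D.R_out hb j]
    by_cases hee : e i = e j
    · exfalso
      rw [hee] at hp
      have h1 : D.R i b * D.R j b = 1 ∨ D.R i b * D.R j b = -1 := mul_self_eq_one_iff.1 (by
        linear_combination D.R j b * D.R j b * hbb i + hbb j)
      have hsq : ∀ k, D.R k (e k) * D.R k (e k) = 1 := fun k => by
        rcases hγ k with h | h <;> simp [h]
      have hi := hsq i
      rw [hee] at hi
      have h2 : D.R i (e j) * D.R j (e j) = 1 ∨ D.R i (e j) * D.R j (e j) = -1 :=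
        mul_self_eq_one_iff.1 (by
          linear_combination D.R j (e j) * D.R j (e j) * hi + hsq j)
      omega
    · rw [he0 j (e i) (by simp [heb i]) hee, mul_zero, add_zero] at hp
      exact ⟨by linear_combination D.R j b * hp - D.R i b * hbb j, hee⟩
  have hβ : ∀ j, D.H j b = D.H 0 b := fun j => by
    by_cases hj : j = 0
    · rw [hj]
    · exact (hpair j 0 hj).1
  have hε' : ∀ j, D.H j A * D.H j A = 1 := fun j => by
    rw [hHA]; rcases hε with h | h <;> simp [h]
  -- the values of `U`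
  have hUA : D.U A = -D.C A := by
    have h1 : ∀ i, D.a i A * D.C A = if i = 0 then 0 else 1 := fun i => by
      rw [← D.C_a i, H64.Ward.dot_eq_sum (s := {A}) fun x hx => hC x (by simpa using hx),
        sum_singleton, mul_comm]
    have h2 : ∀ i, D.a i A = if i = 0 then 0 else D.C A := fun i => by
      have h := h1 i
      rcases hε with e' | e' <;> rw [e'] at h ⊢ <;> split_ifs at h ⊢ <;> omega
    rw [D.U_block 0 A hA, hHA, h2, h2, h2]
    simp
  have hUb : D.U b = D.H 0 b := by
    set Z : ι → ℤ := D.U - D.H 0 - D.aS with hZ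
    have hZ2 : dot Z Z = 2 := by
      refine H40.WardE.witness_one D.U_sq (D.H_sq 0) (D.U_H 0) ?_ ?_ ?_
      · simp [D.U_a]
      · simp [D.H_a]
      · simp [D.a_sq, D.a_dot]
    have hZA : Z A = 0 := by
      simp only [hZ, Pi.sub_apply, aS, D.U_block 0 A hA]
      ring
    have hZH : ∀ j, j ≠ 0 → D.H j b * Z b + D.H j (e j) * Z (e j) = 0 := fun j hj => by
      have h : dot (D.H j) Z = 0 := by
        simp only [hZ, aS, dot_sub_right, D.H_a, dot_comm (D.H j) D.U, D.U_H,
          D.H_dot j 0 hj]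
        simp
      rw [D.H_dot_three hAb (hAe j) (heb j).symm (hHne j), hZA] at h
      linarith
    have hZb : Z b = 0 := by
      by_contra hz
      have hz' : ∀ j, j ≠ 0 → Z (e j) ≠ 0 := fun j hj h => by
        have h' := hZH j hj
        rw [h, mul_zero, add_zero] at h'
        exact mul_ne_zero (hne j) hz h'
      have h := H64.Ward.sum_sq_le Z {b, e 1, e 2}
      rw [sum_insert (by simp [(heb 1).symm, (heb 2).symm]),
        sum_insert (by simp [(hpair 1 2 (by decide)).2]), sum_singleton, hZ2] at h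
      have := mul_self_pos.2 hz
      have := mul_self_pos.2 (hz' 1 (by decide))
      have := mul_self_pos.2 (hz' 2 (by decide))
      omega
    simp only [hZ, Pi.sub_apply, aS, D.not_in hb, sub_zero] at hZb
    omega
  have hH0 : D.H 0 b = 1 ∨ D.H 0 b = -1 := by
    rw [← D.R_out hb 0]
    rcases hb1 0 b with h | h | h
    exacts [absurd h (hRb 0), Or.inl h, Or.inr h]
  have hHe : ∀ j, D.H j (e j) = 1 ∨ D.H j (e j) = -1 := fun j => by
    rw [← D.R_out (heout j) j]; exact hγ j
  exact ⟨⟨A, e, D.C A, D.H 0 b, fun j => D.H j (e j), hε, hH0, hHe, hA, hb, heout, heb,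
    fun i j h => by_contra fun hij => (hpair i j hij).2 h, hC, rfl, hHne, hHA, hβ,
    fun _ => rfl, hUA, hUb⟩⟩

namespace Star

variable {D} {b : ι} (S : D.Star b)

theorem A_ne_b : S.A ≠ b := fun h => S.outb (h ▸ S.inA)

theorem A_ne_e (j : Fin 3) : S.A ≠ S.e j := fun h => S.oute j (h ▸ S.inA)

theorem dot_H (j : Fin 3) (v : ι → ℤ) :
    dot (D.H j) v = S.ε * v S.A + S.β * v b + S.γ j * v (S.e j) := by
  rw [D.H_dot_three S.A_ne_b (S.A_ne_e j) (S.e_ne j).symm (S.H_ne j), S.H_A, S.H_b, S.H_e]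

/-- A second lattice with the same block rows has the same star. -/
theorem exists_same (D' : Lattice ι) (ha : D'.a = D.a)
    (hP : ∀ i j, 2 ≤ dot (D.H i) (D'.H j)) :
    ∃ S' : D'.Star b, S'.A = S.A ∧ S'.ε = S.ε ∧ S'.β = S.β := by
  classical
  have hIn : ∀ x, D'.In x ↔ D.In x := fun x => by simp [Lattice.In, ha]
  have hb' : ¬ D'.In b := fun h => S.outb ((hIn b).1 h)
  have hb1 : ∀ k x, D'.H k x = 0 ∨ D'.H k x = 1 ∨ D'.H k x = -1 := fun k =>
    abs_le_one (D'.H_sq k).le
  have hC' : ∀ k, D'.H k S.A = D'.C S.A := D'.H_in ((hIn _).2 S.inA)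
  have key : ∀ k, D'.H k b = S.β := by
    intro k
    by_contra hk
    have h : ∀ j, D'.R k (S.e j) ≠ 0 := fun j he => by
      rw [D'.R_out (fun h => S.oute j ((hIn _).1 h))] at he
      have h2 := hP j k
      rw [S.dot_H, he, mul_zero, add_zero] at h2
      have t1 : S.ε * D'.H k S.A ≤ 1 := by
        rcases S.hε with e1 | e1 <;> rcases hb1 k S.A with e4 | e4 | e4 <;> simp [e1, e4]
      have t2 : S.β * D'.H k b ≤ 0 := by
        rcases S.hβ with e2 | e2 <;> rcases hb1 k b with e3 | e3 | e3 <;>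
          rw [e2, e3] at hk <;> rw [e2, e3] <;> first | exact absurd rfl hk | norm_num
      omega
    have hs := H64.Ward.sum_sq_le (D'.R k) (univ.image S.e)
    rw [sum_image fun x _ y _ h => S.e_inj h, Fin.sum_univ_three, D'.R_R, D'.H_sq] at hs
    have := mul_self_pos.2 (h 0)
    have := mul_self_pos.2 (h 1)
    have := mul_self_pos.2 (h 2)
    rcases D'.C_sq_cases with c | c <;> omega
  obtain ⟨S'⟩ := D'.exists_star hb' fun k => by
    rw [key]; rcases S.hβ with e | e <;> simp [e]
  have hβ : S'.β = S.β := by rw [← S'.H_b 0, key]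
  -- some exclusive row of `S'` differs from `e 0`
  obtain ⟨k, hk⟩ : ∃ k, S'.e k ≠ S.e 0 := by
    by_contra hc
    push Not at hc
    exact absurd (S'.e_inj ((hc 0).trans (hc 1).symm)) (by decide)
  have h2 := hP 0 k
  rw [S.dot_H, hC' k, key, S'.H_ne k (S.e 0) (fun h => S.oute 0 ((hIn _).1 (h ▸ S'.inA)))
    (S.e_ne 0) hk.symm, mul_zero, add_zero] at h2
  have hA : S.A = S'.A := by
    by_contra h
    rw [S'.C_eq _ h, mul_zero] at h2
    rcases S.hβ with e | e <;> rw [e] at h2 <;> norm_num at h2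
  refine ⟨S', hA.symm, ?_, hβ⟩
  rw [hA, S'.C_A] at h2
  rcases S.hε with e1 | e1 <;> rcases S'.hε with e2 | e2 <;> rcases S.hβ with e3 | e3 <;>
    rw [e1, e2, e3] at h2 <;> rw [e1, e2] <;> norm_num at h2

/-- The three equations of one `H`. -/
theorem mul_eq (deg tval : ι → ℤ) (hd : ∀ x, deg x ≠ 0) (hdeg : dot (D.H 0) deg = 0)
    (htval : dot (D.H 0) tval = 0) (hfun : classFn deg tval (D.H 0) = 0) :
    tval S.A * deg b = tval b * deg S.A := by
  classical
  rw [S.dot_H] at hdeg htval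
  set x := S.e 0
  have hc : classFn deg tval (D.H 0) = (S.ε : ℚ) * (tval S.A : ℚ) ^ 2 / deg S.A +
      (S.β : ℚ) * (tval b : ℚ) ^ 2 / deg b + (S.γ 0 : ℚ) * (tval x : ℚ) ^ 2 / deg x := by
    rw [classFn, ← sum_subset (subset_univ {S.A, b, x}) fun y _ hy => by
      simp only [mem_insert, mem_singleton, not_or] at hy
      simp [S.H_ne 0 y hy.1 hy.2.1 hy.2.2]]
    rw [sum_insert (by simp [S.A_ne_b, S.A_ne_e 0, x]), sum_insert (by simp [(S.e_ne 0).symm, x]),
      sum_singleton, S.H_A, S.H_b, S.H_e, add_assoc]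
  rw [hc] at hfun
  have h1 : (deg S.A : ℚ) ≠ 0 := by exact_mod_cast hd _
  have h2 : (deg b : ℚ) ≠ 0 := by exact_mod_cast hd _
  have h3 : (deg x : ℚ) ≠ 0 := by exact_mod_cast hd _
  field_simp at hfun
  have key : S.ε * tval S.A ^ 2 * deg b * deg x + S.β * tval b ^ 2 * deg S.A * deg x +
      S.γ 0 * tval x ^ 2 * deg S.A * deg b = 0 := by
    have : ((S.ε * tval S.A ^ 2 * deg b * deg x + S.β * tval b ^ 2 * deg S.A * deg x +
        S.γ 0 * tval x ^ 2 * deg S.A * deg b : ℤ) : ℚ) = 0 := by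
      push_cast; linear_combination hfun
    exact_mod_cast this
  have hγ : S.γ 0 * S.γ 0 = 1 := by rcases S.hγ 0 with e | e <;> simp [e]
  have hx : deg x = -(S.γ 0) * (S.ε * deg S.A + S.β * deg b) := by
    linear_combination S.γ 0 * hdeg - deg x * hγ
  have hy : tval x = -(S.γ 0) * (S.ε * tval S.A + S.β * tval b) := by
    linear_combination S.γ 0 * htval - tval x * hγ
  rw [hx, hy] at key
  have h : (tval S.A * deg b - tval b * deg S.A) ^ 2 = 0 := by
    rcases S.hε with e1 | e1 <;> rcases S.hβ with e2 | e2 <;> rcases S.hγ 0 with e3 | e3 <;>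
      rw [e1, e2, e3] at key <;> first | linear_combination key | linear_combination -key
  exact sub_eq_zero.1 ((pow_eq_zero_iff two_ne_zero).1 h)

/-- The congruences at `A` and `b` are contradictory. -/
theorem false_of_congr {tA dA tb db : ℤ} (h : tA * db = tb * dA) {m : ℕ} (hm : Odd m) (hm1 : 1 < m)
    (h1 : (m : ℤ) ∣ tA + 2 * S.ε) (h2 : (m : ℤ) ∣ db - 4 * S.β) (h3 : (m : ℤ) ∣ tb) : False := by
  have h8 : (m : ℤ) ∣ 8 * (S.ε * S.β) := by
    have e : 8 * (S.ε * S.β) = (tA + 2 * S.ε) * db - 2 * S.ε * (db - 4 * S.β) - tb * dA := by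
      linear_combination -h
    rw [e]
    exact dvd_sub (dvd_sub (dvd_mul_of_dvd_left h1 _) (dvd_mul_of_dvd_right h2 _))
      (dvd_mul_of_dvd_left h3 _)
  have h8' : m ∣ 8 := by
    rcases S.hε with e1 | e1 <;> rcases S.hβ with e2 | e2 <;> rw [e1, e2] at h8 <;>
      exact Int.natCast_dvd_natCast.1 (by simpa using h8)
  have hcop : Nat.Coprime m 2 := Nat.coprime_two_right.2 hm
  have := Nat.eq_one_of_dvd_coprimes (hcop.pow_right 3) dvd_rfl h8'
  omega

end Star

end Lattice

namespace Block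

variable (D D' : Block ι)

/-- Two lattices with the same columns have the same part in the block. -/
theorem C_eq (ha : D'.a = D.a) (hP : ∀ i j, 2 ≤ dot (D.H i) (D'.H j)) : D'.C = D.C := by
  classical
  have hIn : ∀ x, D'.In x ↔ D.In x := fun x => by simp [Block.In, ha]
  have hRC : ∀ j, dot (D.R j) D'.C = 0 := fun j => dot_eq_zero_of_disjoint fun x => by
    by_cases hx : D.In x
    · exact Or.inl (D.R_in hx j)
    · exact Or.inr (D'.C_out fun h => hx ((hIn x).1 h))
  have hCR : ∀ k, dot D.C (D'.R k) = 0 := fun k => dot_eq_zero_of_disjoint fun x => by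
    by_cases hx : D.In x
    · exact Or.inr (D'.R_in ((hIn x).2 hx) k)
    · exact Or.inl (D.C_out hx)
  have hsum : ∀ j k, dot (D.H j) (D'.H k) = dot D.C D'.C + dot (D.R j) (D'.R k) := fun j k => by
    have e1 := hRC j
    have e2 := hCR k
    simp only [R, dot_sub_left, dot_sub_right] at e1 e2 ⊢
    omega
  have hle : dot D.C D'.C ≤ 2 := by
    have h : 0 ≤ dot (D.C - D'.C) (D.C - D'.C) := sum_nonneg fun x _ => mul_self_nonneg _
    rw [H64.Ward.dot_sub_self, D.C_sq, D'.C_sq] at h
    omega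
  have heq : dot D.C D'.C = 2 := by
    by_contra hne
    obtain ⟨g, -, -, hg⟩ := exists_extra (v := D.R 0) (s := ∅) (by simp [D.R_sq])
    have hne' : ∀ k, D'.R k g ≠ 0 := fun k h => by
      have h2 := hP 0 k
      rw [hsum, H64.Ward.dot_eq_sum (s := {g}) fun x hx => hg x (notMem_empty x) (by simpa using hx),
        sum_singleton, h, mul_zero] at h2
      omega
    have h0 : ∀ x ∉ ({g} : Finset ι), D'.R 0 x = 0 := H64.Ward.eq_zero_of_le (by
      rw [D'.R_sq, sum_singleton]
      have := mul_self_pos.2 (hne' 0)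
      omega)
    have h01 : dot (D'.R 0) (D'.R 1) = 0 := by
      have hH := D'.H_dot 0 1 (by decide)
      have e1 := D'.R_C 0
      have e2 := D'.R_C 1
      simp only [R, dot_sub_left, dot_sub_right, D'.C_sq, dot_comm D'.C (D'.H 1)] at e1 e2 ⊢
      omega
    rw [H64.Ward.dot_eq_sum h0, sum_singleton] at h01
    exact mul_ne_zero (hne' 0) (hne' 1) h01
  funext x
  have h0 : dot (D.C - D'.C) (D.C - D'.C) = 0 := by
    rw [H64.Ward.dot_sub_self, D.C_sq, D'.C_sq, heq]; norm_num
  have h := (sum_eq_zero_iff_of_nonneg fun x _ => mul_self_nonneg _).1 h0 x (mem_univ x)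
  simp only [Pi.sub_apply, mul_self_eq_zero, sub_eq_zero] at h
  exact h.symm

/-- A block row without `H` has none in any other lattice with the same columns. -/
theorem H_eq_zero_of_same (ha : D'.a = D.a) (hP : ∀ i j, 2 ≤ dot (D.H i) (D'.H j)) {x : ι}
    (hx : D.In x) (h0 : D.H 0 x = 0) (j : Fin 3) : D'.H j x = 0 := by
  rw [D'.H_in (x := x) (by rwa [Block.In, ha]) j, D.C_eq D' ha hP, ← D.H_in hx 0, h0]

end Block

end Cfsg.Agent.H28.TypeR
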