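import Cfsg.Agent.H28.TypeR.BlockTwistRows
import Cfsg.Agent.H28.TypeR.BlockStar
import Cfsg.Agent.H28.TypeR.Block
import Cfsg.Agent.H40.WardE.ColsSection

/-!
# The lattice and the `Block` of one twist

From the four principal characters of `L`, their pair sums and the extended torus of `G`: the
columns of all twists, the lattice of one twist and, when no row outside the block has all three
`H`, its `Block`.
-/

set_option autoImplicit false
set_option linter.unusedSectionVars false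
set_option linter.style.haveILetI false

namespace Cfsg.Agent.H28.TypeR

open Subgroup Cfsg Cfsg.Agent Cfsg.Agent.BlockBasic Cfsg.Agent.CharBasic Cfsg.Agent.CharInduce
open Cfsg.Agent.H84.Ward (TData VanEven tu)
open Cfsg.Agent.H64.Ward (dot dot_comm classFn)
open Cfsg.Agent.H40.WardE (ExtPair Twists Cols)
open scoped ComplexConjugate Classical

universe u v w

/-- What the lattices need: the principal characters of `L`, a Sylow subgroup at `t`, the extensions
of the twists to `L` and the pair sums. -/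
structure BlockInput {G : Type u} [Group G] [Fintype G] {L : Type v} [Group L] [Fintype L]
    (D : TData G L) {P : ExtPair G} {Λ : Type w} [Fintype Λ] (S : Twists P Λ) where
  M : Ideal AlgInt
  c : Fin 4 → IrrCharacter L
  Sy : Subgroup G
  data : Blocks.Data D M c Sy
  hv : ∀ i, VanEven (Blocks.theta c 1 i)
  /-- the extensions of the twists -/
  el : Λ → (L →* ℂˣ)
  ι : ↥P.K →* L
  hι : ∀ k : ↥P.K, D.emb (1, ι k) = (k : G)
  hodd : ∀ k : ↥P.K, Odd (orderOf (ι k))
  el_ι : ∀ l k, el l (ι k) = S.tw l k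
  fused : ∀ l, Blocks.Fused D Sy (el l)
  off : ∀ k, S.Off k → (c 1 : L → ℂ) (ι k) = -1 ∧ (c 2 : L → ℂ) (ι k) = -1
  hfix : ∀ j, ∀ z ∈ S.Fo, P.actK j z = z
  hinv : ∀ k, P.Inv k ↔ k ∈ S.T0
  x0 : ↥P.W
  hx0 : (x0 : G) = D.t
  hconj : ∀ r : G, r * r = 1 → r ≠ 1 → IsConj D.t r
  Q : ℤ
  h : ℤ
  hQ : Q = 2 * h + 1
  hh : 5 ≤ h ∨ h ≤ -7
  deg1 : (c 1 : L → ℂ) 1 = (h : ℂ)
  deg2 : (c 2 : L → ℂ) 1 = (h : ℂ)
  card_T0 : 4 * (Nat.card ↥S.T0 : ℤ) = Q + 1
  /-- the pair sums -/
  s : Fin 3 → ℤ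
  pairs : ∀ i, ∑ a : L, Blocks.theta c 1 i a * (Nat.card (TData.Pairs (tu, a)) : ℂ) = (s i : ℂ)
  s_zero : (Fintype.card Λ : ℤ) * s 0 = (Q - 1) * Nat.card L
  s_pm : ∀ i, i ≠ 0 → (Fintype.card Λ : ℤ) * s i * (Q + 1) = (3 * Q - 1) * Nat.card L

namespace BlockInput

variable {G : Type u} [Group G] [Fintype G] {L : Type v} [Group L] [Fintype L] {D : TData G L}
  {P : ExtPair G} {Λ : Type w} [Fintype Λ] {S : Twists P Λ} (I : BlockInput D S)

/-- The column of `θ_i` at the twist `l`. -/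
noncomputable def a (l : Λ) (i : Fin 3) : IrrCharacter G → ℤ := Blocks.row D I.hv (I.el l) i

theorem x0_ne : I.x0 ≠ 1 := fun e => D.t_ne_one (by rw [← I.hx0, e]; rfl)

/-- The three involutions of `W`. -/
def x (j : Fin 3) : ↥P.W := P.actW (j, 0) I.x0

theorem x_ne (j : Fin 3) : I.x j ≠ 1 := fun e =>
  I.x0_ne (P.actW_injective (j, 0) (e.trans (map_one _).symm))

theorem el_injective : Function.Injective I.el := fun l l' e =>
  S.tw_injective (MonoidHom.ext fun k => by rw [← I.el_ι, ← I.el_ι, e])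

theorem section_value (l : Λ) (i : Fin 3) {k : ↥P.K} (hk : S.Off k) :
    Blocks.theta I.c (I.el l) i (I.ι k) = (Cols.cst i : ℂ) * (S.tw l k : ℂ) := by
  obtain ⟨e1, e2⟩ := I.off k hk
  have e3 := I.data.three (I.ι k) (I.hodd k)
  rw [I.data.zero, e1, e2] at e3
  rw [Blocks.theta, I.el_ι, e3]
  fin_cases i <;> simp [Cols.cst, I.data.zero, e1, e2] <;> ring

theorem section_row (l : Λ) {χ : IrrCharacter G} (hne : ∃ i, I.a l i χ ≠ 0) {k : ↥P.K}
    (hk : S.Off k) : (χ : G → ℂ) ((I.x0 : G) * k) =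
      ((I.a l 0 χ - I.a l 1 χ - I.a l 2 χ : ℤ) : ℂ) * (S.tw l k : ℂ) := by
  obtain ⟨e1, e2⟩ := I.off k hk
  rw [← P.emb_section I.hx0 I.hι, I.data.apply_section (I.fused l)
    (fun i => Blocks.vanEven_theta I.hv (I.el l) i) hne (I.hodd k), I.el_ι, Fin.sum_univ_three]
  simp [BlockInput.a, Blocks.row, I.data.zero, e1, e2]
  ring

variable [Fintype ↥P.K] {lam : ↥P.K →* ℂˣ} (hlamFo : ∀ z ∈ S.Fo, lam z = 1) (hlam : P.Adapted lam)

/-- The columns of all twists. -/
noncomputable def cols : Cols S lam I.x0 :=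
  Cols.ofSection hlamFo hlam (fun l i => Blocks.theta I.c (I.el l) i)
    (fun l i => Blocks.vanEven_theta I.hv (I.el l) i) I.hx0 I.hι I.hodd
    (fun l i _ hk => I.section_value l i hk)
    (fun l i l' j => by
      rw [D.inner_F_F (Blocks.vanEven_theta I.hv _ i) (Blocks.vanEven_theta I.hv _ j),
        Blocks.theta_conj]
      by_cases h : l = l'
      · subst h
        rw [show I.el l / I.el l = 1 from MonoidHom.ext fun a => by simp,
          I.data.classInner_theta_one, if_pos rfl]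
        split_ifs <;> norm_num
      · rw [I.data.classInner_theta_cross (fun e => h (I.el_injective (div_eq_one.1 e)).symm),
          if_neg h, mul_zero])
    (fun l _ _ _ _ hi hi' => I.el_injective (I.data.disjoint (I.fused l)
      (fun i => Blocks.vanEven_theta I.hv (I.el l) i) (fun i => Blocks.vanEven_theta I.hv _ i)
      hi hi'))
    (fun l _ hne _ hk => I.section_row l hne hk)

theorem cols_a : (I.cols hlamFo hlam).a = I.a := rfl

/-- The lattice of the twist `l` for `lam`. -/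
noncomputable def lattice (l : Λ) : Lattice (IrrCharacter G) where
  a := I.a l
  H j := P.lcoef (I.x j) (S.tw l) lam
  U := P.lcoef 1 (S.tw l) lam
  a_sq i := by
    have h := (I.cols hlamFo hlam).gram l i l i
    rwa [if_pos rfl, if_pos rfl, I.cols_a] at h
  a_dot i i' hii := by
    have h := (I.cols hlamFo hlam).gram l i l i'
    rwa [if_pos rfl, if_neg hii, I.cols_a] at h
  H_sq j := by rw [Cols.lcoef_gram hlamFo hlam (I.x_ne j) (I.x_ne j), if_pos rfl]
  H_dot i j hij := by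
    rw [Cols.lcoef_gram hlamFo hlam (I.x_ne i) (I.x_ne j),
      if_neg (fun e : I.x i = I.x j => hij (P.orbit_injective hlam I.x0_ne e))]
  H_a i j := by
    have h := (I.cols hlamFo hlam).lat (I.x j) l l i
    rw [I.cols_a, if_neg (I.x_ne j)] at h
    rw [h]
    by_cases hi : i = 0 <;> simp [hi]
  U_a i := by
    have h := (I.cols hlamFo hlam).lat 1 l l i
    rw [I.cols_a, if_pos rfl] at h
    rw [h]
    by_cases hi : i = 0 <;> simp [hi]
  U_sq := by
    rw [P.lcoef_eq_ucoef]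
    exact P.ucoef_gram hlam (S.tw_isFixed l)
  U_H j := by
    rw [P.lcoef_eq_ucoef, P.lcoef_eq_hcoef (I.x_ne j)]
    exact P.ucoef_orth hlam (S.tw_isFixed l) (I.x_ne j)
  U_block j χ hχ := by
    have h := (I.cols hlamFo hlam).lcoef_sub hlamFo hlam 1 (I.x j) l l (χ := χ) hχ
    rw [if_pos rfl, if_pos rfl, if_neg (I.x_ne j), I.cols_a] at h
    omega

/-- `|C(t)|² / (|Fo| |G|)`. -/
noncomputable def kval (_ : BlockInput D S) : ℚ :=
  (2 * (Nat.card L : ℚ)) ^ 2 / ((Fintype.card Λ : ℚ) * Nat.card G)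

theorem fun_row (l : Λ) (i : Fin 3) :
    classFn Blocks.dg (Blocks.tv D) (I.a l i) = 4 * (Nat.card L : ℚ) * I.s i / Nat.card G := by
  rw [eq_div_iff (Nat.cast_ne_zero.2 Nat.card_pos.ne'), mul_comm]
  exact Blocks.row_functional I.hv I.hconj (I.el l) i (I.pairs i)

theorem lcoef_tval (v : ↥P.W) (l : Λ) : dot (P.lcoef v (S.tw l) lam) (Blocks.tv D) = 0 := by
  by_cases hv : v = 1
  · rw [hv, P.lcoef_eq_ucoef]
    exact P.ucoef_val _ _ D.t_sq _ (Blocks.tv_spec D)
  · rw [P.lcoef_eq_hcoef hv]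
    exact P.hcoef_val hv _ _ D.t_sq _ (Blocks.tv_spec D)

include I hlam in
theorem fun_H_zero (v : ↥P.W) (hv : v ≠ 1) (l : Λ) :
    classFn Blocks.dg (Blocks.tv D) (P.lcoef v (S.tw l) lam) = 0 := by
  have h := P.hcoef_functional hlam hv (μ := S.tw l) D.t_sq D.t_ne_one I.hconj (Blocks.tv D)
    (Blocks.tv_spec D)
  rw [P.lcoef_eq_hcoef hv]
  simpa [H64.Ward.classFn, Blocks.dg] using h

include hlamFo hlam in
theorem fun_U (l : Λ) :
    classFn Blocks.dg (Blocks.tv D) (P.lcoef 1 (S.tw l) lam) = ((I.Q : ℚ) + 1) * I.kval := by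
  obtain ⟨t, ht, hne⟩ : ∃ t ∈ S.T0, lam t ≠ 1 := by
    by_contra hc
    push Not at hc
    exact S.res0_ne_one lam hlamFo (P.lam_one_ne hlam) (MonoidHom.ext fun t => hc t t.2)
  have h := P.ucoef_functional hlam (μ := S.tw l) D.t_sq D.t_ne_one I.hconj S.T0 I.hinv
    (fun k hk => S.tw_T0 l k hk) ⟨t, ht, hne⟩ (Blocks.tv D) (Blocks.tv_spec D)
  rw [D.card_centralizer, ← S.card_tw] at h
  rw [P.lcoef_eq_ucoef]
  simp only [H64.Ward.classFn, Blocks.dg, Int.cast_natCast]
  rw [h, kval, show ((I.Q : ℚ) + 1) = 4 * (Nat.card ↥S.T0 : ℚ) by exact_mod_cast I.card_T0.symm]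
  push_cast
  have h1 : (Nat.card ↥S.T0 : ℚ) ≠ 0 := Nat.cast_ne_zero.2 Nat.card_pos.ne'
  have h2 : (Fintype.card Λ : ℚ) ≠ 0 := Nat.cast_ne_zero.2 S.card_twist_pos.ne'
  have h3 : (Nat.card G : ℚ) ≠ 0 := Nat.cast_ne_zero.2 Nat.card_pos.ne'
  field_simp

/-- The `Block` of the twist `l`, given that every row with all three `H` lies in the block. -/
noncomputable def block (l : Λ)
    (hpair : ∀ χ, (∀ j, P.lcoef (I.x j) (S.tw l) lam χ ≠ 0) → ∃ i, I.a l i χ ≠ 0) :
    Block (IrrCharacter G) where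
  Q := I.Q
  h := I.h
  hQ := I.hQ
  hh := I.hh
  k := I.kval
  deg := Blocks.dg
  tval := Blocks.tv D
  a := (I.lattice hlamFo hlam l).a
  H := (I.lattice hlamFo hlam l).H
  U := (I.lattice hlamFo hlam l).U
  deg_ne χ := Int.natCast_ne_zero.2 (H83.charDegree_eq χ.2).2.ne'
  a_sq := (I.lattice hlamFo hlam l).a_sq
  a_dot := (I.lattice hlamFo hlam l).a_dot
  H_sq := (I.lattice hlamFo hlam l).H_sq
  H_dot := (I.lattice hlamFo hlam l).H_dot
  H_a := (I.lattice hlamFo hlam l).H_a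
  U_sq := (I.lattice hlamFo hlam l).U_sq
  U_H := (I.lattice hlamFo hlam l).U_H
  a_deg i := Blocks.row_deg I.hv (I.el l) i
  H_deg j := P.lcoef_deg (I.x j) (S.tw l) lam
  U_deg := P.lcoef_deg 1 (S.tw l) lam
  H_tval j := lcoef_tval (I.x j) l
  U_tval := lcoef_tval 1 l
  tval_block χ hχ := I.data.tv_eq (I.fused l) I.hv hχ I.deg1 I.deg2
  U_block := (I.lattice hlamFo hlam l).U_block
  hpair := hpair
  fun_zero := by
    show classFn Blocks.dg (Blocks.tv D) (I.a l 0) = _
    rw [I.fun_row l 0, kval]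
    have h := congrArg (fun z : ℤ => (z : ℚ)) I.s_zero
    push_cast at h
    have h2 : (Fintype.card Λ : ℚ) ≠ 0 := Nat.cast_ne_zero.2 S.card_twist_pos.ne'
    field_simp
    linear_combination 4 * h
  fun_a i hi := by
    show classFn Blocks.dg (Blocks.tv D) (I.a l i) = _
    rw [I.fun_row l i, kval]
    have h := congrArg (fun z : ℤ => (z : ℚ)) (I.s_pm i hi)
    push_cast at h
    have h2 : (Fintype.card Λ : ℚ) ≠ 0 := Nat.cast_ne_zero.2 S.card_twist_pos.ne'
    have hQ1 : (I.Q : ℚ) + 1 ≠ 0 := by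
      exact_mod_cast (by have := I.hQ; have := I.hh; omega : I.Q + 1 ≠ 0)
    field_simp
    linear_combination 4 * h
  fun_H j := I.fun_H_zero hlam (I.x j) (I.x_ne j) l
  fun_U := I.fun_U hlamFo hlam l

end BlockInput

end Cfsg.Agent.H28.TypeR
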