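import Cfsg.Agent.H28.TypeR.BlockInst

/-!
# Every row with all three `H` lies in the block, and the congruence on block rows

A star at a row `b` outside the block is the same for every adapted character, no column and no
other twist meets `b`, and the differences vanish there; so `deg b ≡ 4 β` and `tval b ≡ 0` modulo
`|T₀|`, against `tval A ≡ -2 ε`.
-/

set_option autoImplicit false
set_option linter.unusedSectionVars false
set_option linter.style.haveILetI false

namespace Cfsg.Agent.H28.TypeR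

open Subgroup Cfsg Cfsg.Agent Cfsg.Agent.BlockBasic Cfsg.Agent.CharBasic Cfsg.Agent.CharInduce
open Cfsg.Agent.H84.Ward (TData VanEven tu)
open Cfsg.Agent.H64.Ward (dot dot_comm classFn)
open Cfsg.Agent.H40.WardE (ExtPair Twists Cols dot_sub_left dot_sub_right disjoint_of_norm_two)
open scoped ComplexConjugate Classical

universe u v w

section Gram

variable {G : Type u} [Group G] [Fintype G] (P : ExtPair G)

/-- Lattices of two adapted characters have products at least two. -/
theorem two_le_lcoef_dot [Fintype ↥P.K] {μ lam lam' : ↥P.K →* ℂˣ} (hμ : P.Fixed μ)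
    (hlam : P.Adapted lam) (hlam' : P.Adapted lam') {v v' : ↥P.W} (hv : v ≠ 1) (hv' : v' ≠ 1) :
    2 ≤ dot (P.lcoef v μ lam) (P.lcoef v' μ lam') := by
  haveI : Fintype ↥P.W := Fintype.ofFinite _
  haveI := P.klein
  let p : Fin 3 × Fin 2 → Prop := fun c => (P.sg v).comp (P.actW c) = P.sg v'
  let q : Fin 3 × Fin 2 → Prop := fun c => lam.comp (P.actK c) = lam'
  let m : ℤ := ∑ c : Fin 3 × Fin 2, (if p c then 1 else 0) * (if q c then 2 else 1)
  have hfirst : ∀ c, (4 : ℂ)⁻¹ * ∑ x : ↥P.W, (P.sg v (P.actW c x) : ℂ) * conj (P.sg v' x : ℂ) =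
      if p c then 1 else 0 := by
    intro c
    have h := H40.WardE.classInner_hom ((P.sg v).comp (P.actW c)) (P.sg v')
    rw [classInner_def, IsKleinFour.card_four] at h
    exact_mod_cast h
  have hsecond : ∀ c, classInner (fun k => (μ (P.actK c k) : ℂ) * (1 - (lam (P.actK c k) : ℂ)))
      (fun k => (μ k : ℂ) * (1 - (lam' k : ℂ))) = if q c then 2 else 1 := by
    intro c
    have e : (fun k => (μ (P.actK c k) : ℂ) * (1 - (lam (P.actK c k) : ℂ))) =
        (fun k => (μ k : ℂ)) - fun k => ((μ * lam.comp (P.actK c) : ↥P.K →* ℂˣ) k : ℂ) := by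
      funext k
      have e1 := DFunLike.congr_fun (hμ c) k
      simp only [MonoidHom.comp_apply] at e1
      simp only [Pi.sub_apply, MonoidHom.mul_apply, MonoidHom.comp_apply, Units.val_mul, e1]
      ring
    have e' : (fun k => (μ k : ℂ) * (1 - (lam' k : ℂ))) =
        (fun k => (μ k : ℂ)) - fun k => ((μ * lam' : ↥P.K →* ℂˣ) k : ℂ) := by
      funext k
      simp only [Pi.sub_apply, MonoidHom.mul_apply, Units.val_mul]
      ring
    have hρ : lam.comp (P.actK c) ≠ 1 := fun h => P.lam_one_ne hlam (MonoidHom.ext fun k => by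
      obtain ⟨k', rfl⟩ := Finite.surjective_of_injective (P.actK_injective c) k
      exact DFunLike.congr_fun h k')
    have n1 : μ ≠ μ * lam' := fun h => P.lam_one_ne hlam' (MonoidHom.ext fun k => by
      simpa using (DFunLike.congr_fun h k).symm)
    have n2 : μ * lam.comp (P.actK c) ≠ μ := fun h => hρ (MonoidHom.ext fun k => by
      simpa using DFunLike.congr_fun h k)
    rw [e, e', classInner_sub_left, classInner_sub_right, classInner_sub_right,
      H40.WardE.classInner_hom, H40.WardE.classInner_hom, H40.WardE.classInner_hom,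
      H40.WardE.classInner_hom, if_pos rfl, if_neg n1, if_neg n2]
    simp only [mul_right_inj, q]
    split_ifs <;> norm_num
  have hm : dot (P.lcoef v μ lam) (P.lcoef v' μ lam') = m := by
    refine H40.WardE.sum_row_mul (P.ind_isClass _ μ lam) (P.lcoef_spec v μ lam)
      (P.lcoef_spec v' μ lam') ?_
    rw [P.ind_eq_indC, P.ind_eq_indC, P.classInner_indC_indC hlam _ _ _
      (fun k l => by simp only [map_mul, map_inv, mul_comm (μ l), mul_comm (lam' l),
        mul_inv_cancel_right])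
      (fun k hk => hlam'.cent k fun e => hk (by simp [e]))]
    simp only [hfirst, hsecond, m]
    push_cast
    rfl
  have hp : ∑ c : Fin 3 × Fin 2, (if p c then (1 : ℤ) else 0) = 2 := by
    have h := P.sum_sgn_act hlam hv hv'
    simp only [← P.sg_val hv, ← P.sg_val hv'] at h
    have h2 : ∑ c : Fin 3 × Fin 2, (if p c then (1 : ℂ) else 0) = 2 := by
      rw [← Finset.sum_congr rfl fun c _ => hfirst c, ← Finset.mul_sum, h]
      norm_num
    exact_mod_cast h2
  rw [hm, ← hp]
  exact Finset.sum_le_sum fun c _ => by split_ifs <;> norm_num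

end Gram

namespace Lattice.Star

variable {ι : Type*} [Fintype ι] {D : Lattice ι} {b : ι} (S : D.Star b)

/-- A norm two vector orthogonal to the star and zero at `A` vanishes on the star. -/
theorem zero_of_orth {d : ι → ℤ} (hd : ∀ x, 0 < d x) (hHd : ∀ j, dot (D.H j) d = 0) {Z : ι → ℤ}
    (hZ : dot Z Z = 2) (hZd : dot Z d = 0) (hZA : Z S.A = 0) (hZH : ∀ j, dot (D.H j) Z = 0) :
    Z b = 0 ∧ ∀ j, Z (S.e j) = 0 := by
  have he : ∀ i, Z (S.e i) = 0 := fun i => by
    have hne : i ≠ i + 1 := by revert i; decide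
    refine disjoint_of_norm_two (z := D.H i - D.H (i + 1)) hd ?_ hZ ?_ hZd ?_ _ ?_
    · rw [H64.Ward.dot_sub_self, D.H_sq, D.H_sq, D.H_dot i _ hne]; norm_num
    · rw [dot_sub_left, hHd, hHd, sub_self]
    · rw [dot_sub_left, hZH, hZH, sub_self]
    · rw [Pi.sub_apply, S.H_e, S.H_ne (i + 1) _ (S.A_ne_e i).symm (S.e_ne i)
        fun h => hne (S.e_inj h), sub_zero]
      rcases S.hγ i with e | e <;> rw [e] <;> norm_num
  refine ⟨?_, he⟩
  have h := hZH 0
  rw [S.dot_H, hZA, he, mul_zero, mul_zero, zero_add, add_zero] at h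
  rcases S.hβ with e | e <;> rw [e] at h <;> omega

/-- Slack at the centre. -/
theorem eq_zero_of_count {κ : Type*} (T : Finset κ) {R : ι → ℤ} {Z : κ → ι → ℤ}
    (hR : dot R R ≤ (T.card : ℤ) + 2) (hRZ : ∀ l ∈ T, dot R (Z l) ≠ 0)
    (hdisj : ∀ l ∈ T, ∀ l' ∈ T, ∀ x, Z l x ≠ 0 → Z l' x ≠ 0 → l = l')
    (hZ : ∀ l ∈ T, Z l b = 0 ∧ ∀ j, Z l (S.e j) = 0) (hA : R S.A = 0) {p : Fin 3 → Prop}
    (hp : ∀ i j, p i → p j → i = j) (hH : ∀ j, dot (D.H j) R = if p j then 1 else 0) :
    R b = 0 := by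
  by_contra hb
  have hy : ∀ l : ↥T, ∃ y, R y ≠ 0 ∧ Z l y ≠ 0 := by
    intro l
    by_contra hc
    push Not at hc
    refine hRZ l l.2 (Finset.sum_eq_zero fun r _ => ?_)
    by_cases hr : R r = 0
    · rw [hr, zero_mul]
    · rw [hc r hr, mul_zero]
  choose y hyR hyZ using hy
  have hinj : Function.Injective y := fun l l' h =>
    Subtype.ext (hdisj l l.2 l' l'.2 (y l) (hyZ l) (h ▸ hyZ l'))
  set Y : Finset ι := Finset.univ.image y with hY
  set B : Finset ι := insert b (Finset.univ.image S.e) with hB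
  have hdisjY : Disjoint Y B := by
    refine Finset.disjoint_left.2 fun r hr hrB => ?_
    obtain ⟨l, -, rfl⟩ := Finset.mem_image.1 hr
    rcases Finset.mem_insert.1 hrB with h | h
    · exact hyZ l (h ▸ (hZ l l.2).1)
    · obtain ⟨j, -, hj⟩ := Finset.mem_image.1 h
      exact hyZ l (hj ▸ (hZ l l.2).2 j)
  have hYsum : (T.card : ℤ) ≤ ∑ r ∈ Y, R r * R r := by
    have h1 : ∀ r ∈ Y, (1 : ℤ) ≤ R r * R r := fun r hr => by
      obtain ⟨l, -, rfl⟩ := Finset.mem_image.1 hr
      have := mul_self_pos.2 (hyR l)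
      omega
    have h2 := Finset.sum_le_sum h1
    rw [Finset.sum_const, hY, Finset.card_image_of_injective _ hinj, Finset.card_univ,
      Fintype.card_coe, nsmul_eq_mul, mul_one] at h2
    exact h2
  have hle := H64.Ward.sum_sq_le R (Y ∪ B)
  rw [Finset.sum_union hdisjY, hB, Finset.sum_insert fun h => by
    obtain ⟨j, -, hj⟩ := Finset.mem_image.1 h; exact S.e_ne j hj,
    Finset.sum_image fun x _ y _ h => S.e_inj h, Fin.sum_univ_three] at hle
  have hne : ∀ j, ¬ p j → 1 ≤ R (S.e j) * R (S.e j) := fun j hj => by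
    have h := hH j
    rw [S.dot_H, hA, if_neg hj, mul_zero, zero_add] at h
    have : R (S.e j) ≠ 0 := fun h0 => by
      rw [h0, mul_zero, add_zero] at h
      rcases S.hβ with e | e <;> rw [e] at h <;> exact hb (by omega)
    have := mul_self_pos.2 this
    omega
  have := mul_self_pos.2 hb
  have := mul_self_nonneg (R (S.e 0))
  have := mul_self_nonneg (R (S.e 1))
  have := mul_self_nonneg (R (S.e 2))
  by_cases h0 : p 0
  · have := hne 1 fun h => absurd (hp 0 1 h0 h) (by decide)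
    have := hne 2 fun h => absurd (hp 0 2 h0 h) (by decide)
    omega
  · have := hne 0 h0
    by_cases h1 : p 1
    · have := hne 2 fun h => absurd (hp 1 2 h1 h) (by decide)
      omega
    · have := hne 1 h1
      omega

end Lattice.Star

namespace BlockInput

variable {G : Type u} [Group G] [Fintype G] {L : Type v} [Group L] [Fintype L] {D : TData G L}
  {P : ExtPair G} {Λ : Type w} [Fintype Λ] {S : Twists P Λ} (I : BlockInput D S) [Fintype ↥P.K]
  {lam : ↥P.K →* ℂˣ} (hlamFo : ∀ z ∈ S.Fo, lam z = 1) (hlam : P.Adapted lam)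

theorem dg_pos (χ : IrrCharacter G) : 0 < Blocks.dg χ := by
  unfold Blocks.dg
  exact_mod_cast (H83.charDegree_eq χ.2).2

/-- `lcoef v - lcoef w`, less the columns for the trivial `v`. -/
noncomputable def witness (lam : ↥P.K →* ℂˣ) (v w : ↥P.W) (l : Λ) : IrrCharacter G → ℤ :=
  P.lcoef v (S.tw l) lam - P.lcoef w (S.tw l) lam -
    if v = 1 then I.a l 0 - I.a l 1 - I.a l 2 else 0

include hlam in
theorem exists_x {v : ↥P.W} (hv : v ≠ 1) : ∃ j, I.x j = v := by
  haveI : Fintype ↥P.W := Fintype.ofFinite _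
  by_contra hc
  push Not at hc
  have h := P.sum_W hlam I.x0_ne (fun y => if y = v then (1 : ℂ) else 0)
  simp [show ∀ i, P.actW (i, 0) I.x0 ≠ v from hc, hv.symm] at h

include hlamFo hlam in
theorem witness_sq {v w : ↥P.W} (hw : w ≠ 1) (hne : v ≠ w) (l : Λ) :
    dot (I.witness lam v w l) (I.witness lam v w l) = 2 := by
  have C := I.cols hlamFo hlam
  by_cases hv : v = 1
  · subst hv
    have hL := I.lattice hlamFo hlam l
    obtain ⟨j, rfl⟩ := I.exists_x hlam hw
    rw [witness, if_pos rfl]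
    refine H40.WardE.witness_one (I.lattice hlamFo hlam l).U_sq ((I.lattice hlamFo hlam l).H_sq j)
      ((I.lattice hlamFo hlam l).U_H j) ?_ ?_ ?_
    · exact ⟨(I.lattice hlamFo hlam l).U_a 0, (I.lattice hlamFo hlam l).U_a 1,
        (I.lattice hlamFo hlam l).U_a 2⟩
    · exact ⟨(I.lattice hlamFo hlam l).H_a 0 j, (I.lattice hlamFo hlam l).H_a 1 j,
        (I.lattice hlamFo hlam l).H_a 2 j⟩
    · have h := (I.lattice hlamFo hlam l).a_dot
      exact ⟨(I.lattice hlamFo hlam l).a_sq 0, (I.lattice hlamFo hlam l).a_sq 1,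
        (I.lattice hlamFo hlam l).a_sq 2, h 0 1 (by decide), h 0 2 (by decide), h 1 2 (by decide)⟩
  · rw [witness, if_neg hv, sub_zero]
    refine H40.WardE.witness_sgn ?_ ?_ ?_
    · rw [Cols.lcoef_gram hlamFo hlam hv hv, if_pos rfl]
    · rw [Cols.lcoef_gram hlamFo hlam hw hw, if_pos rfl]
    · rw [Cols.lcoef_gram hlamFo hlam hv hw, if_neg hne]

theorem witness_deg (v w : ↥P.W) (l : Λ) : dot (I.witness lam v w l) Blocks.dg = 0 := by
  have h : ∀ u, dot (P.lcoef u (S.tw l) lam) Blocks.dg = 0 := fun u => P.lcoef_deg u _ _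
  have h' : ∀ i, dot (I.a l i) Blocks.dg = 0 := fun i => Blocks.row_deg I.hv (I.el l) i
  rw [witness]
  split_ifs <;> simp [dot_sub_left, h, h']

include hlamFo hlam in
theorem lcoef_witness_cross (u v w : ↥P.W) {l l' : Λ} (h : l ≠ l') :
    dot (P.lcoef u (S.tw l) lam) (I.witness lam v w l') = 0 := by
  have h1 := S.lcoef_cross hlamFo hlam u v h
  have h2 := S.lcoef_cross hlamFo hlam u w h
  have h3 : ∀ i, dot (P.lcoef u (S.tw l) lam) (I.a l' i) = 0 := fun i => by
    have e := (I.cols hlamFo hlam).lat u l l' i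
    rwa [I.cols_a, if_neg fun e => h e.1] at e
  rw [witness]
  split_ifs <;> simp [dot_sub_right, h1, h2, h3]

include hlamFo hlam in
theorem witness_cross (v w : ↥P.W) {l l' : Λ} (h : l ≠ l') :
    dot (I.witness lam v w l) (I.witness lam v w l') = 0 := by
  have h1 := fun u => I.lcoef_witness_cross hlamFo hlam u v w h
  have h3 : ∀ i, dot (I.a l i) (I.witness lam v w l') = 0 := fun i => by
    have e1 : ∀ u, dot (I.a l i) (P.lcoef u (S.tw l') lam) = 0 := fun u => by
      have e := (I.cols hlamFo hlam).lat u l' l i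
      rw [dot_comm]
      rwa [I.cols_a, if_neg fun e => h e.1.symm] at e
    have e2 : ∀ i', dot (I.a l i) (I.a l' i') = 0 := fun i' => by
      have e := (I.cols hlamFo hlam).gram l i l' i'
      rwa [I.cols_a, if_neg h] at e
    rw [witness]
    split_ifs <;> simp [dot_sub_right, e1, e2]
  conv_lhs => arg 1; rw [witness]
  split_ifs <;> simp [dot_sub_left, h1, h3]

include hlamFo hlam in
/-- The witnesses vanish on the rows of the columns. -/
theorem witness_col {v w : ↥P.W} (hw : w ≠ 1) (l : Λ) {χ : IrrCharacter G} {l' : Λ}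
    (hχ : ∃ i, I.a l' i χ ≠ 0) : I.witness lam v w l χ = 0 := by
  have h := (I.cols hlamFo hlam).lcoef_sub hlamFo hlam v w l l' (χ := χ) hχ
  rw [I.cols_a, if_neg hw] at h
  have h0 : l ≠ l' → ∀ i, I.a l i χ = 0 := fun hl i => by
    by_contra hi
    obtain ⟨i', hi'⟩ := hχ
    exact hl ((I.cols hlamFo hlam).disj l l' i i' χ hi hi')
  simp only [witness, Pi.sub_apply]
  rw [h]
  by_cases hl : l = l'
  · subst hl
    by_cases hv : v = 1 <;> simp [hv]
  · by_cases hv : v = 1 <;> simp [hl, hv, h0 hl]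

variable {l : Λ} {b : IrrCharacter G}

include hlamFo hlam in
theorem no_column (X : (I.lattice hlamFo hlam l).Star b) (l' : Λ) (i : Fin 3) :
    I.a l' i b = 0 := by
  by_contra hi
  by_cases hl : l = l'
  · subst hl; exact X.outb ⟨i, hi⟩
  · have h := (I.cols hlamFo hlam).lcoef_eq_zero_cross hlamFo hlam (I.x 0) hl (χ := b) ⟨i, hi⟩
    have h2 : P.lcoef (I.x 0) (S.tw l) lam b = X.β := X.H_b 0
    rcases X.hβ with e | e <;> omega

include hlamFo hlam in
theorem witness_star (X : (I.lattice hlamFo hlam l).Star b) {v w : ↥P.W} (hw : w ≠ 1)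
    (hne : v ≠ w) {l' : Λ} (hl : l ≠ l') :
    I.witness lam v w l' b = 0 ∧ ∀ j, I.witness lam v w l' (X.e j) = 0 :=
  X.zero_of_orth (d := Blocks.dg) dg_pos (fun j => P.lcoef_deg (I.x j) (S.tw l) lam)
    (I.witness_sq hlamFo hlam hw hne l') (I.witness_deg v w l')
    (I.witness_col hlamFo hlam hw l' X.inA)
    (fun j => I.lcoef_witness_cross hlamFo hlam (I.x j) v w hl)

include hlamFo hlam in
/-- No other twist meets the centre of a star. -/
theorem lcoef_other (X : (I.lattice hlamFo hlam l).Star b) {l' : Λ} (hl : l ≠ l') (v : ↥P.W) :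
    P.lcoef v (S.tw l') lam b = 0 := by
  have heq : ∀ (v : ↥P.W) (j : Fin 3),
      P.lcoef v (S.tw l') lam b = P.lcoef (I.x j) (S.tw l') lam b := by
    intro v j
    by_cases hvj : v = I.x j
    · rw [hvj]
    · have h := (I.witness_star hlamFo hlam X (I.x_ne j) hvj hl).1
      simp only [witness, Pi.sub_apply] at h
      split_ifs at h <;> simp only [Pi.sub_apply, Pi.zero_apply, I.no_column hlamFo hlam X] at h <;>
        omega
  by_contra hc
  obtain ⟨Y⟩ := (I.lattice hlamFo hlam l').exists_star (b := b)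
    (fun ⟨i, hi⟩ => hi (I.no_column hlamFo hlam X l' i)) fun j => by
      show P.lcoef (I.x j) (S.tw l') lam b ≠ 0
      rwa [← heq v j]
  obtain ⟨k, hk⟩ : ∃ k, Y.e k ≠ X.e 0 := by
    by_contra hc
    push Not at hc
    exact absurd (Y.e_inj ((hc 0).trans (hc 1).symm)) (by decide)
  have hA : P.lcoef (I.x k) (S.tw l') lam X.A = 0 :=
    (I.cols hlamFo hlam).lcoef_eq_zero_cross hlamFo hlam (I.x k) hl.symm X.inA
  have hne : X.e 0 ≠ Y.A := fun e => by
    have h := (I.cols hlamFo hlam).lcoef_eq_zero_cross hlamFo hlam (I.x 0) hl Y.inA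
    rw [← e] at h
    have h2 : P.lcoef (I.x 0) (S.tw l) lam (X.e 0) = X.γ 0 := X.H_e 0
    rcases X.hγ 0 with e | e <;> omega
  have h := X.dot_H 0 (P.lcoef (I.x k) (S.tw l') lam)
  rw [show dot ((I.lattice hlamFo hlam l).H 0) (P.lcoef (I.x k) (S.tw l') lam) = 0 from
      S.lcoef_cross hlamFo hlam _ _ hl, hA,
    show P.lcoef (I.x k) (S.tw l') lam (X.e 0) = 0 from Y.H_ne k _ hne (X.e_ne 0) hk.symm,
    show P.lcoef (I.x k) (S.tw l') lam b = Y.β from Y.H_b k] at h
  rcases X.hβ with e | e <;> rcases Y.hβ with e' | e' <;> rw [e, e'] at h <;> omega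

include hlamFo hlam in
/-- The lattice at the centre of a star. -/
theorem sum_lcoef_star (X : (I.lattice hlamFo hlam l).Star b) (v : ↥P.W) :
    ∑ l', P.lcoef v (S.tw l') lam b = X.β := by
  rw [Finset.sum_eq_single l (fun l' _ h => I.lcoef_other hlamFo hlam X (Ne.symm h) v) (by simp)]
  by_cases hv : v = 1
  · subst hv; exact X.U_b
  · obtain ⟨j, rfl⟩ := I.exists_x hlam hv
    exact X.H_b j

include hlamFo hlam in
/-- The differences vanish at the centre of a star. -/
theorem ncoef_star (X : (I.lattice hlamFo hlam l).Star b) (η : ↥S.T0 →* ℂˣ) (hη : S.M η ≠ ⊤)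
    (v : ↥P.W) (l'' : Λ) : S.ncoef v η lam l'' b = 0 := by
  obtain ⟨w, hw, hne⟩ : ∃ w : ↥P.W, w ≠ 1 ∧ v ≠ w := by
    by_cases h : v = I.x 0
    · exact ⟨I.x 1, I.x_ne 1, fun e =>
        absurd (P.orbit_injective hlam I.x0_ne (h.symm.trans e)) (by decide)⟩
    · exact ⟨I.x 0, I.x_ne 0, h⟩
  obtain ⟨i, hi⟩ := X.inA
  refine X.eq_zero_of_count (Finset.univ.filter fun l' => S.Rel η l'' l' ∧ l' ≠ l)
    (Z := fun l' => I.witness lam v w l') ?_ (fun l' hl' => ?_) (fun l₁ _ l₂ _ x h1 h2 => ?_)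
    (fun l' hl' => ?_) ((I.cols hlamFo hlam).ncoef_zero hlamFo hlam η hη v l'' hi)
    (p := fun j => v = I.x j ∧ S.Rel η l'' l)
    (fun j j' h h' => P.orbit_injective hlam I.x0_ne (h.1.symm.trans h'.1)) fun j => ?_
  · rw [S.ncoef_gram hlamFo hlam η hη]
    have hc := S.rel_card _ (S.T0_le_M η) l''
    rw [Fintype.card_subtype] at hc
    have hsub : (Finset.univ.filter fun l' => (S.tw l').comp (S.M η).subtype =
        (S.tw l'').comp (S.M η).subtype) ⊆
        insert l (Finset.univ.filter fun l' => S.Rel η l'' l' ∧ l' ≠ l) := by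
      intro l' h
      rw [Finset.mem_filter] at h
      by_cases e : l' = l
      · simp [e]
      · simp [e, Twists.Rel, h.2.symm]
    have := (Finset.card_le_card hsub).trans (Finset.card_insert_le _ _)
    rw [hc] at this
    omega
  · rw [Finset.mem_filter] at hl'
    have h1 := S.ncoef_lcoef hlamFo hlam η hη v v l'' l'
    have h2 := S.ncoef_lcoef hlamFo hlam η hη v w l'' l'
    have h3 : ∀ i, dot (S.ncoef v η lam l'') (I.a l' i) = 0 := fun i =>
      (I.cols hlamFo hlam).orth v η hη l'' l' i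
    rw [if_pos ⟨rfl, hl'.2.1⟩] at h1
    rw [if_neg fun e => hne e.1] at h2
    simp only [witness]
    split_ifs <;> simp [dot_sub_right, h1, h2, h3] at h1 h2 ⊢
  · by_contra h
    exact h2 (disjoint_of_norm_two dg_pos (I.witness_sq hlamFo hlam hw hne l₁)
      (I.witness_sq hlamFo hlam hw hne l₂) (I.witness_deg v w l₁) (I.witness_deg v w l₂)
      (I.witness_cross hlamFo hlam v w h) x h1)
  · exact I.witness_star hlamFo hlam X hw hne (Ne.symm (Finset.mem_filter.1 hl').2.2)
  · show dot (P.lcoef (I.x j) (S.tw l) lam) _ = _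
    rw [dot_comm, S.ncoef_lcoef hlamFo hlam η hη]
    split_ifs <;> rfl

include hlamFo hlam in
/-- **There is no star.** -/
theorem not_star (X : (I.lattice hlamFo hlam l).Star b) : False := by
  haveI : Fintype ↥P.W := Fintype.ofFinite _
  haveI : Fintype ↥S.T0 := Fintype.ofFinite _
  have hsame : ∀ lam' (h' : P.Adapted lam') (hFo : ∀ z ∈ S.Fo, lam' z = 1),
      ∃ Y : (I.lattice hFo h' l).Star b, Y.A = X.A ∧ Y.ε = X.ε ∧ Y.β = X.β :=
    fun lam' h' hFo => X.exists_same _ rfl fun i j =>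
      two_le_lcoef_dot P (S.tw_isFixed l) hlam h' (I.x_ne i) (I.x_ne j)
  have hb : ∀ v η, η ≠ 1 → S.dsum v η (b : G → ℂ) = ((X.β : ℤ) : ℂ) := by
    intro v η hη1
    have hl := S.sum_lcoef v lam b
    rw [I.sum_lcoef_star hlamFo hlam X v] at hl
    by_cases hη : S.M η = ⊤
    · obtain ⟨Y, -, -, hY⟩ :=
        hsame _ (S.extTop_adapted hη1 hη I.hfix) (S.extTop_Fo η hη)
      have h := S.sum_lcoef v (S.extTop η hη) b
      rw [I.sum_lcoef_star (S.extTop_Fo η hη) (S.extTop_adapted hη1 hη I.hfix) Y v, hY,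
        S.res0_extTop] at h
      exact h.symm
    · have h := S.sum_ncoef v η lam b
      simp only [I.ncoef_star hlamFo hlam X η hη v, Finset.sum_const_zero, Int.cast_zero] at h
      rw [hl, ← sub_eq_zero.1 ((mul_eq_zero.1 h.symm).resolve_left
        (Nat.cast_ne_zero.2 Subgroup.index_ne_zero_of_finite))]
  obtain ⟨i, hi⟩ := X.inA
  have hA : ∀ lam', P.Adapted lam' → (∀ z ∈ S.Fo, lam' z = 1) →
      ∀ v, ∑ l', P.lcoef v (S.tw l') lam' X.A = X.ε - if v = 1 then 2 * X.ε else 0 := by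
    intro lam' h' hFo v
    obtain ⟨Y, hYA, hYε, -⟩ := hsame lam' h' hFo
    rw [Finset.sum_eq_single l (fun l' _ hl' =>
      (I.cols hFo h').lcoef_eq_zero_cross hFo h' v hl' ⟨i, hi⟩) (by simp), ← hYA, ← hYε]
    by_cases hv : v = 1
    · subst hv
      rw [show P.lcoef 1 (S.tw l) lam' Y.A = -Y.ε from Y.U_A, if_pos rfl]
      ring
    · obtain ⟨j, rfl⟩ := I.exists_x h' hv
      rw [show P.lcoef (I.x j) (S.tw l) lam' Y.A = Y.ε from Y.H_A j, if_neg hv, sub_zero]
  have hdvd : ∀ {z w : ℤ} {n : ℤ}, (z : ℂ) = (w : ℂ) + (Nat.card ↥S.T0 : ℂ) * (n : ℂ) →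
      (Nat.card ↥S.T0 : ℤ) ∣ z - w := fun {z w n} e => ⟨n, by
    have : ((z - w : ℤ) : ℂ) = (((Nat.card ↥S.T0 : ℤ) * n : ℤ) : ℂ) := by
      push_cast; linear_combination e
    exact_mod_cast this⟩
  -- the three congruences
  have h1 : (Nat.card ↥S.T0 : ℤ) ∣ Blocks.tv D X.A + 2 * X.ε := by
    obtain ⟨n, hn⟩ :=
      (I.cols hlamFo hlam).congr_row hlamFo hlam I.hfix (χ := X.A) hi _ hA I.x0
    rw [I.hx0, Blocks.tv_spec] at hn
    have hs : ∑ v : ↥P.W, (P.sg v I.x0 : ℂ) * ((X.ε - if v = 1 then 2 * X.ε else 0 : ℤ) : ℂ) =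
        ((-(2 * X.ε) : ℤ) : ℂ) := by
      push_cast
      simp only [mul_sub, Finset.sum_sub_distrib, ← Finset.sum_mul, P.sum_sg, if_neg I.x0_ne,
        zero_mul, mul_ite, mul_zero, Finset.sum_ite_eq', Finset.mem_univ, if_true, P.sg_one,
        MonoidHom.one_apply, Units.val_one, one_mul]
      ring
    rw [hs] at hn
    simpa using hdvd hn
  have h2 : (Nat.card ↥S.T0 : ℤ) ∣ Blocks.dg b - 4 * X.β := by
    obtain ⟨n, hn⟩ := S.congr_of_dsum b (fun _ => X.β) hb 1
    rw [OneMemClass.coe_one, (H83.charDegree_eq b.2).1, ← Finset.sum_mul, P.sum_sg, if_pos rfl]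
      at hn
    refine hdvd (n := n) ?_
    rw [Blocks.dg]
    push_cast
    exact hn
  have h3 : (Nat.card ↥S.T0 : ℤ) ∣ Blocks.tv D b := by
    obtain ⟨n, hn⟩ := S.congr_of_dsum b (fun _ => X.β) hb I.x0
    rw [I.hx0, Blocks.tv_spec, ← Finset.sum_mul, P.sum_sg, if_neg I.x0_ne, zero_mul] at hn
    simpa using hdvd (w := 0) (by simpa using hn)
  have hodd : Odd (Nat.card ↥S.T0) := P.odd.of_dvd_nat (Subgroup.card_subgroup_dvd_card _)
  have hgt : 1 < Nat.card ↥S.T0 := by
    by_contra hc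
    haveI : Subsingleton ↥S.T0 := Finite.card_le_one_iff_subsingleton.1 (by omega)
    exact S.res0_ne_one lam hlamFo (P.lam_one_ne hlam)
      (MonoidHom.ext fun t => by rw [Subsingleton.elim t 1, map_one, MonoidHom.one_apply])
  exact X.false_of_congr (X.mul_eq Blocks.dg (Blocks.tv D) (fun χ => (dg_pos χ).ne')
    (P.lcoef_deg _ _ _) (lcoef_tval _ l) (I.fun_H_zero hlam (I.x 0) (I.x_ne 0) l))
    hodd hgt h1 h2 h3

include hlamFo hlam in
/-- A row with all three `H` lies in the block. -/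
theorem hpair (l : Λ) (χ : IrrCharacter G) (h : ∀ j, P.lcoef (I.x j) (S.tw l) lam χ ≠ 0) :
    ∃ i, I.a l i χ ≠ 0 := by
  by_contra hc
  obtain ⟨X⟩ := (I.lattice hlamFo hlam l).exists_star (b := χ) hc h
  exact I.not_star hlamFo hlam X

/-- The `Block` of the twist `l`. -/
noncomputable def toBlock (l : Λ) : Block (IrrCharacter G) :=
  I.block hlamFo hlam l (I.hpair hlamFo hlam l)

/-- On a block row without `H` the degree and the value at `t` are the column sum modulo `|T₀|`. -/
theorem toBlock_hV (l : Λ) (χ : IrrCharacter G) (hχ : (I.toBlock hlamFo hlam l).In χ)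
    (h0 : (I.toBlock hlamFo hlam l).H 0 χ = 0) :
    (Nat.card ↥S.T0 : ℤ) ∣
      (I.toBlock hlamFo hlam l).deg χ - (I.toBlock hlamFo hlam l).aS χ := by
  haveI : Fintype ↥P.W := Fintype.ofFinite _
  haveI : Fintype ↥S.T0 := Fintype.ofFinite _
  obtain ⟨i, hi⟩ := hχ
  exact ((I.cols hlamFo hlam).congr_block hlamFo hlam I.hfix
    (fun lam' h' hFo => ⟨I.cols hFo h', rfl⟩) (χ := χ) (l₀ := l) hi fun lam' h' hFo v hv => by
      obtain ⟨j, rfl⟩ := I.exists_x h' hv
      exact Block.H_eq_zero_of_same (I.toBlock hlamFo hlam l) (I.toBlock hFo h' l) rfl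
        (fun a c => two_le_lcoef_dot P (S.tw_isFixed l) hlam h' (I.x_ne a) (I.x_ne c))
        ⟨i, hi⟩ h0 j).1

end BlockInput

end Cfsg.Agent.H28.TypeR
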