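import Cfsg.Agent.H28.TypeR.BlockKill
import Cfsg.Agent.H84.Ward.Congr

/-!
# The principal lattice and a twisted one

The trivial character distinguishes the trivial twist: its `Block` is in the main case or in the
pair case.  In the main case a twisted `Block` has a row of degree one, which is impossible when
the trivial character is the only linear one; so there is only the trivial twist.
-/

set_option autoImplicit false
set_option linter.unusedSectionVars false
set_option linter.style.haveILetI false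

namespace Cfsg.Agent.H28.TypeR

open Subgroup Cfsg Cfsg.Agent Cfsg.Agent.BlockBasic Cfsg.Agent.CharBasic Cfsg.Agent.CharInduce
open Cfsg.Agent.H84.Ward (TData VanEven tu)
open Cfsg.Agent.H64.Ward (dot dot_comm classFn)
open Cfsg.Agent.H40.WardE (ExtPair Twists Cols)
open scoped ComplexConjugate Classical

universe u v w

/-- The trivial character is in no `H`. -/
theorem lcoef_triv {G : Type u} [Group G] [Fintype G] (P : ExtPair G) {v : ↥P.W} (hv : v ≠ 1)
    (μ lam : ↥P.K →* ℂˣ) : P.lcoef v μ lam (H36.SelfCentral.triv G) = 0 := by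
  haveI : Fintype ↥P.W := Fintype.ofFinite _
  haveI : Fintype ↥P.K := Fintype.ofFinite _
  have h := P.lcoef_spec v μ lam (H36.SelfCentral.triv G)
  rw [P.classInner_ind _ μ lam (IsIrr.isClassFunction (H36.SelfCentral.triv G).2)] at h
  have h1 : ∀ g : G, ((H36.SelfCentral.triv G : IrrCharacter G) : G → ℂ) g = 1 := fun _ => rfl
  simp only [h1, map_one, mul_one, ← Finset.mul_sum, ← Finset.sum_mul,
    Finset.sum_congr rfl fun x _ => P.sg_val hv x, P.sum_sgn hv, zero_mul, mul_zero] at h
  exact_mod_cast h.symm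

namespace BlockInput

variable {G : Type u} [Group G] [Fintype G] {L : Type v} [Group L] [Fintype L] {D : TData G L}
  {P : ExtPair G} {Λ : Type w} [Fintype Λ] {S : Twists P Λ} (I : BlockInput D S) [Fintype ↥P.K]
  {lam : ↥P.K →* ℂˣ} (hlamFo : ∀ z ∈ S.Fo, lam z = 1) (hlam : P.Adapted lam)

theorem h_add_one : I.h + 1 = 2 * (Nat.card ↥S.T0 : ℤ) := by
  have := I.hQ; have := I.card_T0; omega

/-- The trivial twist sees the trivial character. -/
theorem a_triv (l : Λ) (i : Fin 3) :
    I.a l i (H36.SelfCentral.triv G) = if I.el l = 1 ∧ i = 0 then 1 else 0 :=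
  I.data.row_triv I.hv (I.el l) i

/-- The degree and the value at `t` are congruent modulo the order of a `2`-group of involutions. -/
theorem toBlock_h8 (l : Λ) {U : Subgroup G} (hU : Nat.card U = 8) (hsq : ∀ y ∈ U, y * y = 1)
    (χ : IrrCharacter G) :
    (8 : ℤ) ∣ (I.toBlock hlamFo hlam l).deg χ - (I.toBlock hlamFo hlam l).tval χ := by
  have h := H84.Ward.deg_congr U (t := D.t) (fun y hy h1 => I.hconj y (hsq y hy) h1) χ
    (Blocks.tv_spec D χ)
  rwa [hU] at h

/-- The trivial twist is in the main case or in the pair case. -/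
theorem principal {U : Subgroup G} (hU : Nat.card U = 8) (hsq : ∀ y ∈ U, y * y = 1) {l : Λ}
    (hl : I.el l = 1) :
    (I.toBlock hlamFo hlam l).Main ∨ (I.toBlock hlamFo hlam l).Pair (Nat.card ↥S.T0) := by
  refine Block.principal _ (H36.SelfCentral.triv G) ?_ ?_ (fun i hi => ?_) ?_ _
    (fun χ _ => I.toBlock_h8 hlamFo hlam l hU hsq χ) (I.toBlock_hV hlamFo hlam l)
  · have h := (H83.charDegree_eq (H36.SelfCentral.triv G).2).1
    have h1 : ((H36.SelfCentral.triv G : IrrCharacter G) : G → ℂ) 1 = ((1 : ℕ) : ℂ) := by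
      rw [Nat.cast_one]; rfl
    rw [h1, Nat.cast_inj] at h
    show ((charDegree ((H36.SelfCentral.triv G : IrrCharacter G) : G → ℂ) : ℕ) : ℤ) = 1
    rw [← h]; rfl
  · show I.a l 0 _ = 1
    rw [I.a_triv, if_pos ⟨hl, rfl⟩]
  · show I.a l i _ = 0
    rw [I.a_triv, if_neg fun e => hi e.2]
  · exact lcoef_triv P (I.x_ne 0) _ _

/-- `Main` does not depend on the twist. -/
theorem main_iff (l l' : Λ) :
    (I.toBlock hlamFo hlam l).Main ↔ (I.toBlock hlamFo hlam l').Main := Iff.rfl

include hlamFo hlam in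
/-- **In the main case every twist is trivial.** -/
theorem el_eq_one {U : Subgroup G} (hU : Nat.card U = 8) (hsq : ∀ y ∈ U, y * y = 1)
    (h13 : 13 ≤ I.h) {l : Λ} (hk : (I.toBlock hlamFo hlam l).Main)
    (homega : ∀ χ : IrrCharacter G,
      (charDegree (χ : G → ℂ) : ℤ) ∣ I.Q ^ 2 * (I.Q ^ 2 - I.Q + 1) * Blocks.tv D χ)
    (hlin : ∀ χ : IrrCharacter G, (χ : G → ℂ) 1 = 1 → ∀ g, (χ : G → ℂ) g = 1) :
    I.el l = 1 := by
  obtain ⟨χ, ⟨i, hi⟩, h1⟩ := Block.twisted (I.toBlock hlamFo hlam l) hk (Nat.card ↥S.T0)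
    I.h_add_one ((P.odd.of_dvd_nat (Subgroup.card_subgroup_dvd_card _)).natCast) h13
    (fun χ _ => I.toBlock_h8 hlamFo hlam l hU hsq χ) (I.toBlock_hV hlamFo hlam l)
    (fun χ _ => homega χ)
  replace h1 : (charDegree (χ : G → ℂ) : ℤ) = 1 ∨ (charDegree (χ : G → ℂ) : ℤ) = -1 := h1
  have hd : charDegree (χ : G → ℂ) = 1 := by omega
  have he : χ = H36.SelfCentral.triv G := Subtype.ext (funext fun g =>
    hlin χ (by rw [(H83.charDegree_eq χ.2).1, hd, Nat.cast_one]) g)
  by_contra hne
  exact hi (show I.a l i χ = 0 by rw [he, I.a_triv, if_neg fun e => hne e.1])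

end BlockInput

end Cfsg.Agent.H28.TypeR
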