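import Cfsg.Agent.H28.TypeR.Blocks
import Cfsg.Agent.H40.WardE.ExtRows

/-!
# The rows of `U` and `H` on a row of the twisted block

If `χ = c μ` on `t K` off the common kernel, the multiplicities of `χ` in `U` and in every `H v`
differ by the conjugate of `c`.
-/

set_option autoImplicit false
set_option linter.style.haveILetI false
set_option linter.unusedSectionVars false

namespace Cfsg.Agent.H28.TypeR.Blocks

open Subgroup Cfsg Cfsg.Agent Cfsg.Agent.CharBasic Cfsg.Agent.CharInduce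
open Cfsg.Agent.H84.Ward (TData VanEven tu)
open Cfsg.Agent.H40.WardE (ExtPair)
open scoped ComplexConjugate

universe u v

variable {G : Type u} [Group G] [Fintype G]

/-- `U - H v` against a class function equal to `c μ` on one coset, whatever it is on `K`. -/
theorem classInner_U_sub_H (P : ExtPair G) {lam : ↥P.K →* ℂˣ} (hlam : P.Adapted lam)
    {μ : ↥P.K →* ℂˣ} (hμ : P.Fixed μ) {v : ↥P.W} (hv : v ≠ 1) {f : G → ℂ}
    (hf : IsClassFunction G f) {x0 : ↥P.W} (hx0 : x0 ≠ 1) {c : ℂ}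
    (hg : ∀ k : ↥P.K, (∃ i : Fin 3, lam (P.actK (i, 0) k) ≠ 1) →
      f ((x0 : G) * k) = c * (μ k : ℂ)) :
    classInner (P.U μ lam) f - classInner (P.H v μ lam) f = conj c := by
  classical
  haveI : Fintype ↥P.W := Fintype.ofFinite _
  haveI : Fintype ↥P.K := Fintype.ofFinite _
  have hk : (Nat.card ↥P.K : ℂ) ≠ 0 := by simp
  rw [ExtPair.U, ExtPair.H, P.classInner_ind _ μ lam hf, P.classInner_ind _ μ lam hf, ← mul_sub,
    ← Finset.sum_sub_distrib]
  have h1 : ∀ x : ↥P.W, (∑ k : ↥P.K, (1 : ℂ) * ((μ k : ℂ) * (1 - (lam k : ℂ))) *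
        conj (f ((x : G) * k))) -
      ∑ k : ↥P.K, P.sgn v x * ((μ k : ℂ) * (1 - (lam k : ℂ))) * conj (f ((x : G) * k)) =
      (1 - P.sgn v x) * ∑ k : ↥P.K, (μ k : ℂ) * (1 - (lam k : ℂ)) * conj (f ((x : G) * k)) := by
    intro x
    rw [Finset.mul_sum, ← Finset.sum_sub_distrib]
    exact Finset.sum_congr rfl fun k _ => by ring
  rw [Finset.sum_congr rfl fun x _ => h1 x, P.sum_W hlam hx0, P.sgn_one, sub_self, zero_mul,
    zero_add]
  have h2 : ∀ i : Fin 3, ∑ k : ↥P.K, (μ k : ℂ) * (1 - (lam k : ℂ)) *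
      conj (f ((P.actW (i, 0) x0 : G) * k)) = (Nat.card ↥P.K : ℂ) * conj c := by
    intro i
    have hb : Function.Bijective (P.actK (i, 0)) :=
      ⟨P.actK_injective _, Finite.surjective_of_injective (P.actK_injective _)⟩
    have hterm : ∀ k : ↥P.K, (μ k : ℂ) * (1 - (lam (P.actK (i, 0) k) : ℂ)) *
        conj (c * (μ k : ℂ)) = (μ (P.actK (i, 0) k) : ℂ) * (1 - (lam (P.actK (i, 0) k) : ℂ)) *
          conj (f ((P.actW (i, 0) x0 : G) * (P.actK (i, 0) k : G))) := by
      intro k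
      have e := DFunLike.congr_fun (hμ (i, 0)) k
      simp only [MonoidHom.comp_apply] at e
      rw [e]
      by_cases hl : lam (P.actK (i, 0) k) = 1
      · simp [hl]
      · congr 2
        rw [← hg k ⟨i, hl⟩, ← hf ((x0 : G) * k) (P.rep (i, 0)), ExtPair.actW_coe,
          ExtPair.actK_coe]
        congr 1
        group
    rw [← Fintype.sum_bijective _ hb _ _ hterm]
    have h := P.sum_hom (lam.comp (P.actK (i, 0)))
    rw [if_neg (P.fixed_ne_act hlam P.fixed_one (i, 0))] at h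
    simp only [MonoidHom.comp_apply] at h
    rw [Finset.sum_congr rfl fun k _ =>
      show (μ k : ℂ) * (1 - (lam (P.actK (i, 0) k) : ℂ)) * conj (c * (μ k : ℂ)) =
        (1 - (lam (P.actK (i, 0) k) : ℂ)) * conj c by
        have hn := CharInduce.norm_hom μ k
        have hmul : (μ k : ℂ) * conj (μ k : ℂ) = 1 := by rw [Complex.mul_conj', hn]; norm_num
        rw [map_mul]
        linear_combination ((1 - (lam (P.actK (i, 0) k) : ℂ)) * conj c) * hmul,
      ← Finset.sum_mul, Finset.sum_sub_distrib, h, Finset.sum_const, Finset.card_univ,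
      ← Nat.card_eq_fintype_card, nsmul_eq_mul, sub_zero, mul_one]
  simp only [h2, ← Finset.sum_mul, Finset.sum_sub_distrib, P.sum_sgn_orbit hlam hv hx0]
  simp only [Finset.sum_const, Finset.card_univ, Fintype.card_fin, nsmul_eq_mul, mul_one]
  push_cast
  field_simp
  ring

variable {L : Type v} [Group L] [Fintype L] {D : TData G L} {M : Ideal AlgInt}
  {c : Fin 4 → IrrCharacter L} {S : Subgroup G}

/-- On a row of the twist `l`, `U - H v` is `d_0 - d_1 - d_2`. -/
theorem Data.ucoef_sub_hcoef (X : Data D M c S) {l : L →* ℂˣ} (hl : Fused D S l)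
    (hd : ∀ i, VanEven (theta c l i)) {χ : IrrCharacter G} (hne : ∃ i, D.coef (hd i) χ ≠ 0)
    (P : ExtPair G) {lam : ↥P.K →* ℂˣ} (hlam : P.Adapted lam) {μ : ↥P.K →* ℂˣ}
    (hμ : P.Fixed μ) {v : ↥P.W} (hv : v ≠ 1) {x0 : ↥P.W} (hx0 : (x0 : G) = D.t)
    {ι : ↥P.K →* L} (hι : ∀ k : ↥P.K, D.emb (1, ι k) = (k : G))
    (hodd : ∀ k : ↥P.K, Odd (orderOf (ι k))) (hlμ : ∀ k : ↥P.K, l (ι k) = μ k)
    (hc : ∀ k : ↥P.K, (∃ i : Fin 3, lam (P.actK (i, 0) k) ≠ 1) →
      (c 1 : L → ℂ) (ι k) = -1 ∧ (c 2 : L → ℂ) (ι k) = -1) :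
    P.ucoef μ lam χ - P.hcoef hv μ lam χ =
      D.coef (hd 0) χ - D.coef (hd 1) χ - D.coef (hd 2) χ := by
  have hx1 : x0 ≠ 1 := fun e => D.t_ne_one (by rw [← hx0, e]; rfl)
  have h := classInner_U_sub_H P hlam hμ hv (CharBasic.IsIrr.isClassFunction χ.2) hx1
    (c := ((D.coef (hd 0) χ - D.coef (hd 1) χ - D.coef (hd 2) χ : ℤ) : ℂ)) fun k hk => by
      rw [← P.emb_section hx0 hι, X.apply_section hl hd hne (hodd k), Fin.sum_univ_three, hlμ]
      obtain ⟨e1, e2⟩ := hc k hk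
      simp [X.zero, e1, e2]
      ring
  rw [P.ucoef_spec, P.hcoef_spec hv, map_intCast] at h
  exact_mod_cast h

end Cfsg.Agent.H28.TypeR.Blocks
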