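import Cfsg.Agent.H28.TypeR.BlockCore
import Cfsg.Agent.H64.Ward.Vectors

/-!
# The rows of one lattice

After a change of signs the three columns consist of zeros and ones; the rows of the block fall into
the classes `only i`, `mid i` (all but `i`) and `all3`.  The pair of the `H` leaves four shapes.
-/

set_option autoImplicit false
set_option linter.unusedSectionVars false

namespace Cfsg.Agent.H28.TypeR.Block

open Finset
open Cfsg.Agent.H64.Ward (dot dot_sub_self classFn abs_le_one abs_le_one_of_deg card_supp supp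
  mem_supp)

variable {ι : Type*} [Fintype ι]

theorem dot_mul_sign {s : ι → ℤ} (hs : ∀ x, s x * s x = 1) (u v : ι → ℤ) :
    dot (s * u) (s * v) = dot u v :=
  sum_congr rfl fun x _ => by simp only [Pi.mul_apply]; linear_combination (u x * v x) * hs x

theorem classFn_mul_sign {s : ι → ℤ} (hs : ∀ x, s x * s x = 1) (d t v : ι → ℤ) :
    classFn (s * d) (s * t) (s * v) = classFn d t v :=
  sum_congr rfl fun x _ => by
    rcases mul_self_eq_one_iff.1 (hs x) with e | e <;> simp [e]

/-- Change of signs. -/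
def flip (D : Block ι) (s : ι → ℤ) (hs : ∀ x, s x * s x = 1) : Block ι where
  Q := D.Q
  h := D.h
  hQ := D.hQ
  hh := D.hh
  k := D.k
  deg := s * D.deg
  tval := s * D.tval
  a i := s * D.a i
  H j := s * D.H j
  U := s * D.U
  deg_ne x := mul_ne_zero (left_ne_zero_of_mul_eq_one (hs x)) (D.deg_ne x)
  a_sq i := by rw [dot_mul_sign hs]; exact D.a_sq i
  a_dot i i' h := by rw [dot_mul_sign hs]; exact D.a_dot i i' h
  H_sq j := by rw [dot_mul_sign hs]; exact D.H_sq j
  H_dot i j h := by rw [dot_mul_sign hs]; exact D.H_dot i j h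
  H_a i j := by rw [dot_mul_sign hs]; exact D.H_a i j
  U_sq := by rw [dot_mul_sign hs]; exact D.U_sq
  U_H j := by rw [dot_mul_sign hs]; exact D.U_H j
  a_deg i := by rw [dot_mul_sign hs]; exact D.a_deg i
  H_deg j := by rw [dot_mul_sign hs]; exact D.H_deg j
  U_deg := by rw [dot_mul_sign hs]; exact D.U_deg
  H_tval j := by rw [dot_mul_sign hs]; exact D.H_tval j
  U_tval := by rw [dot_mul_sign hs]; exact D.U_tval
  tval_block x := by
    rintro ⟨i, hi⟩
    simp only [Pi.mul_apply] at hi ⊢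
    rw [D.tval_block x ⟨i, right_ne_zero_of_mul hi⟩]; ring
  U_block j x := by
    rintro ⟨i, hi⟩
    simp only [Pi.mul_apply] at hi ⊢
    rw [D.U_block j x ⟨i, right_ne_zero_of_mul hi⟩]; ring
  hpair x h := by
    obtain ⟨i, hi⟩ := D.hpair x fun j => right_ne_zero_of_mul (h j)
    exact ⟨i, mul_ne_zero (left_ne_zero_of_mul_eq_one (hs x)) hi⟩
  fun_zero := by rw [classFn_mul_sign hs]; exact D.fun_zero
  fun_a i h := by rw [classFn_mul_sign hs]; exact D.fun_a i h
  fun_H j := by rw [classFn_mul_sign hs]; exact D.fun_H j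
  fun_U := by rw [classFn_mul_sign hs]; exact D.fun_U

/-- All entries of the columns are zero or one. -/
def Bin (D : Block ι) : Prop := ∀ i x, D.a i x = 0 ∨ D.a i x = 1

theorem exists_sign (D : Block ι) :
    ∃ s : ι → ℤ, ∃ hs : ∀ x, s x * s x = 1, Bin (D.flip s hs) ∧ ∀ x, D.a 0 x = 1 → s x = 1 := by
  classical
  have hb : ∀ i x, D.a i x = 0 ∨ D.a i x = 1 ∨ D.a i x = -1 := fun i x =>
    abs_le_one_of_deg (D.a_sq i).le (D.a_deg i) D.deg_ne x
  have hagree : ∀ i i' x, D.a i x ≠ 0 → D.a i' x ≠ 0 → D.a i x = D.a i' x := by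
    intro i i' x hx hx'
    rcases eq_or_ne i i' with rfl | hne
    · rfl
    have h4 : dot (D.a i - D.a i') (D.a i - D.a i') ≤ 4 := by
      rw [dot_sub_self, D.a_sq, D.a_sq, D.a_dot i i' hne]; norm_num
    have h0 : dot (D.a i - D.a i') D.deg = 0 := by
      rw [dot_sub_left, D.a_deg, D.a_deg, sub_zero]
    have := abs_le_one_of_deg h4 h0 D.deg_ne x
    simp only [Pi.sub_apply] at this
    rcases hb i x with e | e | e <;> rcases hb i' x with e' | e' | e' <;> omega
  let s : ι → ℤ := fun x => if D.a 0 x ≠ 0 then D.a 0 x else if D.a 1 x ≠ 0 then D.a 1 x else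
    if D.a 2 x ≠ 0 then D.a 2 x else 1
  have hs : ∀ x, s x * s x = 1 := fun x => by
    simp only [s]
    split_ifs <;> rcases hb 0 x with e | e | e <;> rcases hb 1 x with e' | e' | e' <;>
      rcases hb 2 x with e'' | e'' | e'' <;> simp_all
  refine ⟨s, hs, fun i x => ?_, fun x e => by simp [s, e]⟩
  show s x * D.a i x = 0 ∨ s x * D.a i x = 1
  rcases eq_or_ne (D.a i x) 0 with e | e
  · left; rw [e, mul_zero]
  right
  have hsq : D.a i x * D.a i x = 1 := by rcases hb i x with h | h | h <;> simp_all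
  simp only [s]
  split_ifs with h0 h1 h2
  · rwa [hagree 0 i x h0 e]
  · rwa [hagree 1 i x h1 e]
  · rwa [hagree 2 i x h2 e]
  · exfalso
    push Not at h0 h1 h2
    fin_cases i <;> first | exact e h0 | exact e h1 | exact e h2

variable (D : Block ι)

/-- Rows in column `i` only. -/
def only (i : Fin 3) : Finset ι :=
  univ.filter fun x => ∀ l, D.a l x = if l = i then 1 else 0

/-- Rows in all columns but `i`. -/
def mid (i : Fin 3) : Finset ι :=
  univ.filter fun x => ∀ l, D.a l x = if l = i then 0 else 1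

/-- Rows in all three columns. -/
def all3 : Finset ι := univ.filter fun x => ∀ l, D.a l x = 1

theorem mem_only {i : Fin 3} {x : ι} :
    x ∈ D.only i ↔ ∀ l, D.a l x = if l = i then 1 else 0 := by simp [only]

theorem mem_mid {i : Fin 3} {x : ι} :
    x ∈ D.mid i ↔ ∀ l, D.a l x = if l = i then 0 else 1 := by simp [mid]

theorem mem_all3 {x : ι} : x ∈ D.all3 ↔ ∀ l, D.a l x = 1 := by simp [all3]

variable {D}

theorem Bin.sum_col (N : Bin D) {i j l : Fin 3} (hij : i ≠ j) (hil : i ≠ l) (hjl : j ≠ l)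
    {R : Type*} [CommRing R] (f : ι → R) :
    ∑ x, (D.a i x : R) * f x =
      ∑ x ∈ D.only i, f x + ∑ x ∈ D.all3, f x + ∑ x ∈ D.mid j, f x + ∑ x ∈ D.mid l, f x := by
  classical
  simp only [only, mid, all3, sum_filter, ← sum_add_distrib]
  refine sum_congr rfl fun x _ => ?_
  have hcover : ∀ o : Fin 3, o = i ∨ o = j ∨ o = l := by
    intro o; revert hij hil hjl; revert i j l o; decide
  have hall : ∀ p : Fin 3 → Prop, (∀ o, p o) ↔ p i ∧ p j ∧ p l := fun p =>
    ⟨fun h => ⟨h i, h j, h l⟩, fun h o => by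
      rcases hcover o with rfl | rfl | rfl
      exacts [h.1, h.2.1, h.2.2]⟩
  simp only [hall (fun o => D.a o x = _), if_pos, if_neg hij, if_neg hil, if_neg hjl,
    if_neg hij.symm, if_neg hil.symm, if_neg hjl.symm]
  rcases N i x with e | e <;> rcases N j x with e' | e' <;> rcases N l x with e'' | e'' <;>
    simp [e, e', e'']

theorem Bin.dot_col (N : Bin D) {i j l : Fin 3} (hij : i ≠ j) (hil : i ≠ l) (hjl : j ≠ l)
    (v : ι → ℤ) : dot (D.a i) v =
      ∑ x ∈ D.only i, v x + ∑ x ∈ D.all3, v x + ∑ x ∈ D.mid j, v x + ∑ x ∈ D.mid l, v x := by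
  simpa [dot] using N.sum_col hij hil hjl v

theorem Bin.classFn_col (N : Bin D) {i j l : Fin 3} (hij : i ≠ j) (hil : i ≠ l) (hjl : j ≠ l) :
    classFn D.deg D.tval (D.a i) =
      ∑ x ∈ D.only i, (D.tval x : ℚ) ^ 2 / D.deg x + ∑ x ∈ D.all3, (D.tval x : ℚ) ^ 2 / D.deg x +
        ∑ x ∈ D.mid j, (D.tval x : ℚ) ^ 2 / D.deg x +
          ∑ x ∈ D.mid l, (D.tval x : ℚ) ^ 2 / D.deg x := by
  rw [← N.sum_col hij hil hjl (fun x => (D.tval x : ℚ) ^ 2 / D.deg x)]
  exact sum_congr rfl fun x _ => mul_div_assoc _ _ _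

theorem Bin.counts (N : Bin D) :
    (∀ i, (D.only i).card = (D.all3).card) ∧ ∀ i, (D.mid i).card + (D.all3).card = 2 := by
  classical
  have h1 : ∀ {i j l : Fin 3}, i ≠ j → i ≠ l → j ≠ l →
      (D.only i).card + (D.all3).card + (D.mid j).card + (D.mid l).card = 4 ∧
        (D.all3).card + (D.mid l).card = 2 := by
    intro i j l hij hil hjl
    have e1 := N.dot_col hij hil hjl (D.a i)
    have e2 := N.dot_col hij hil hjl (D.a j)
    rw [D.a_sq, sum_congr rfl fun x hx => ((D.mem_only.1 hx) i).trans (if_pos rfl),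
      sum_congr rfl fun x hx => (D.mem_all3.1 hx) i,
      sum_congr rfl fun x hx => ((D.mem_mid.1 hx) i).trans (if_neg hij),
      sum_congr rfl fun x hx => ((D.mem_mid.1 hx) i).trans (if_neg hil)] at e1
    rw [D.a_dot i j hij, sum_congr rfl fun x hx => ((D.mem_only.1 hx) j).trans (if_neg hij.symm),
      sum_congr rfl fun x hx => (D.mem_all3.1 hx) j,
      sum_congr rfl fun x hx => ((D.mem_mid.1 hx) j).trans (if_pos rfl),
      sum_congr rfl fun x hx => ((D.mem_mid.1 hx) j).trans (if_neg hjl)] at e2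
    simp at e1 e2
    omega
  have a01 := h1 (show (0 : Fin 3) ≠ 1 by decide) (show (0 : Fin 3) ≠ 2 by decide) (by decide)
  have a12 := h1 (show (1 : Fin 3) ≠ 2 by decide) (show (1 : Fin 3) ≠ 0 by decide) (by decide)
  have a20 := h1 (show (2 : Fin 3) ≠ 0 by decide) (show (2 : Fin 3) ≠ 1 by decide) (by decide)
  refine ⟨fun i => ?_, fun i => ?_⟩ <;> fin_cases i <;>
    simp only [Fin.zero_eta, Fin.mk_one, Fin.reduceFinMk] <;> omega

theorem in_of_one {i : Fin 3} {x : ι} (h : D.a i x = 1) : D.In x := ⟨i, by rw [h]; exact one_ne_zero⟩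

theorem in_only {i : Fin 3} {x : ι} (h : x ∈ D.only i) : D.In x :=
  in_of_one ((D.mem_only.1 h i).trans (if_pos rfl))

theorem in_all3 {x : ι} (h : x ∈ D.all3) : D.In x := in_of_one (D.mem_all3.1 h 0)

theorem in_mid {i : Fin 3} {x : ι} (h : x ∈ D.mid i) : D.In x :=
  in_of_one (i := if i = 0 then 1 else 0) <| by
    rw [D.mem_mid.1 h]; fin_cases i <;> simp

/-- The two rows of the pair. -/
theorem Bin.options (N : Bin D) :
    ∃ P R, P ≠ R ∧ (∀ x, x ≠ P → x ≠ R → D.C x = 0) ∧ D.C P = 1 ∧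
      ((D.C R = -1 ∧ P ∈ D.all3 ∧ R ∈ D.only 0) ∨
        (D.C R = 1 ∧ P ∈ D.only 1 ∧ R ∈ D.only 2)) := by
  classical
  have hb : ∀ x, D.C x = 0 ∨ D.C x = 1 ∨ D.C x = -1 :=
    abs_le_one (by rw [D.C_sq]; norm_num)
  have hc : (supp D.C).card = 2 := by
    have := card_supp hb; rw [D.C_sq] at this; exact_mod_cast this
  obtain ⟨P, R, hPR, hsupp⟩ := card_eq_two.1 hc
  have hP : D.C P ≠ 0 := mem_supp.1 (hsupp ▸ by simp)
  have hR : D.C R ≠ 0 := mem_supp.1 (hsupp ▸ by simp)
  have hz : ∀ x, x ≠ P → x ≠ R → D.C x = 0 := fun x h1 h2 => by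
    by_contra hx
    have := mem_supp.2 hx
    rw [hsupp] at this
    simp [h1, h2] at this
  have hin : ∀ x, D.C x ≠ 0 → D.In x := fun x hx => by
    by_contra h; exact hx (D.C_out h)
  have hrel : ∀ i, D.C P * D.a i P + D.C R * D.a i R = if i = 0 then 0 else 1 := fun i => by
    rw [← D.C_a i, dot, sum_eq_add P R hPR (fun x _ hx => by rw [hz x hx.1 hx.2, zero_mul])
      (by simp) (by simp)]
  have nz : ∀ x, D.C x ≠ 0 → D.a 0 x + D.a 1 x + D.a 2 x ≥ 1 := by
    intro x hx
    obtain ⟨i, hi⟩ := hin x hx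
    rcases N 0 x with e | e <;> rcases N 1 x with e' | e' <;> rcases N 2 x with e'' | e'' <;>
      first | omega | (fin_cases i <;> simp_all)
  have b : ∀ i x, 0 ≤ D.a i x ∧ D.a i x ≤ 1 := fun i x => by
    rcases N i x with e | e <;> simp [e]
  have h0 := hrel 0
  have h1 := hrel 1
  have h2 := hrel 2
  simp at h0 h1 h2
  have := nz P hP; have := nz R hR
  have := b 0 P; have := b 0 R; have := b 1 P; have := b 1 R; have := b 2 P; have := b 2 R
  have mk : ∀ (x : ι) (u v w : ℤ), D.a 0 x = u → D.a 1 x = v → D.a 2 x = w →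
      ∀ l : Fin 3, D.a l x = if l = 0 then u else if l = 1 then v else w := by
    intro x u v w e e' e'' l; fin_cases l <;> simp [e, e', e'']
  have hall : ∀ x, D.a 0 x = 1 → D.a 1 x = 1 → D.a 2 x = 1 → x ∈ D.all3 := fun x e e' e'' =>
    D.mem_all3.2 fun l => by fin_cases l <;> assumption
  have honly : ∀ (i : Fin 3) x, (∀ l, D.a l x = if l = i then 1 else 0) → x ∈ D.only i :=
    fun i x h => D.mem_only.2 h
  rcases hb P with e | e | e
  · exact absurd e hP
  · rcases hb R with e' | e' | e'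
    · exact absurd e' hR
    · rw [e, e'] at h0 h1 h2
      by_cases hp : D.a 1 P = 1
      · exact ⟨P, R, hPR, hz, e, Or.inr ⟨e',
          honly 1 P fun l => by fin_cases l <;> simp <;> omega,
          honly 2 R fun l => by fin_cases l <;> simp <;> omega⟩⟩
      · exact ⟨R, P, hPR.symm, fun x a b => hz x b a, e', Or.inr ⟨e,
          honly 1 R fun l => by fin_cases l <;> simp <;> omega,
          honly 2 P fun l => by fin_cases l <;> simp <;> omega⟩⟩
    · rw [e, e'] at h0 h1 h2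
      exact ⟨P, R, hPR, hz, e, Or.inl ⟨e', hall P (by omega) (by omega) (by omega),
        honly 0 R fun l => by fin_cases l <;> simp <;> omega⟩⟩
  · rcases hb R with e' | e' | e'
    · exact absurd e' hR
    · rw [e, e'] at h0 h1 h2
      exact ⟨R, P, hPR.symm, fun x a b => hz x b a, e', Or.inl ⟨e, hall R (by omega) (by omega)
        (by omega), honly 0 P fun l => by fin_cases l <;> simp <;> omega⟩⟩
    · rw [e, e'] at h0 h1 h2
      omega

/-- The two values of the functional on the pair. -/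
theorem classFn_C {P R : ι} (hPR : P ≠ R) (hz : ∀ x, x ≠ P → x ≠ R → D.C x = 0) :
    classFn D.deg D.tval D.C = (D.C P : ℚ) * (D.tval P : ℚ) ^ 2 / D.deg P +
        (D.C R : ℚ) * (D.tval R : ℚ) ^ 2 / D.deg R ∧
      D.X = -(D.C P * D.deg P + D.C R * D.deg R) := by
  constructor
  · exact sum_eq_add P R hPR (fun x _ hx => by simp [hz x hx.1 hx.2]) (by simp) (by simp)
  · rw [X, dot, sum_eq_add P R hPR (fun x _ hx => by rw [hz x hx.1 hx.2, zero_mul]) (by simp)
      (by simp)]

theorem exists_other {s : Finset ι} (hs : s.card = 2) {x : ι} (hx : x ∈ s) :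
    ∃ y, x ≠ y ∧ y ∈ s ∧ ∀ f : ι → ℚ, ∑ z ∈ s, f z = f x + f y := by
  classical
  obtain ⟨y, hy⟩ := card_eq_one.1 (show (s.erase x).card = 1 by rw [card_erase_of_mem hx, hs])
  have hm : y ∈ s.erase x := hy ▸ mem_singleton_self y
  rw [mem_erase] at hm
  exact ⟨y, hm.1.symm, hm.2, fun f => by rw [← add_sum_erase _ _ hx, hy, sum_singleton]⟩

theorem exists_pair {s : Finset ι} (hs : s.card = 2) :
    ∃ x y, x ≠ y ∧ x ∈ s ∧ y ∈ s ∧ ∀ f : ι → ℚ, ∑ z ∈ s, f z = f x + f y := by
  obtain ⟨x, hx⟩ := card_pos.1 (by omega : 0 < s.card)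
  obtain ⟨y, h1, h2, h3⟩ := exists_other hs hx
  exact ⟨x, y, h1, hx, h2, h3⟩

theorem exists_single {s : Finset ι} (hs : s.card = 1) :
    ∃ x, x ∈ s ∧ (∀ f : ι → ℚ, ∑ z ∈ s, f z = f x) ∧ ∀ y ∈ s, y = x := by
  obtain ⟨x, rfl⟩ := card_eq_one.1 hs
  exact ⟨x, mem_singleton_self x, fun f => sum_singleton f x, fun y hy => mem_singleton.1 hy⟩

theorem tval_only {i : Fin 3} {x : ι} (hx : x ∈ D.only i) :
    D.tval x = if i = 0 then 1 else D.h := by
  have h := D.mem_only.1 hx
  rw [D.tval_block x (in_only hx), h 0, h 1, h 2]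
  fin_cases i <;> simp

theorem tval_all3 {x : ι} (hx : x ∈ D.all3) : D.tval x = D.Q := by
  have h := D.mem_all3.1 hx
  rw [D.tval_block x (in_all3 hx), h 0, h 1, h 2, D.hQ]; ring

theorem tval_mid {i : Fin 3} {x : ι} (hx : x ∈ D.mid i) :
    D.tval x = if i = 0 then 2 * D.h else 1 + D.h := by
  have h := D.mem_mid.1 hx
  rw [D.tval_block x (in_mid hx), h 0, h 1, h 2]
  fin_cases i <;> simp [two_mul, mul_two]

theorem aS_only {i : Fin 3} {x : ι} (hx : x ∈ D.only i) :
    D.aS x = if i = 0 then 1 else -1 := by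
  have h := D.mem_only.1 hx
  simp only [aS, Pi.sub_apply, h 0, h 1, h 2]
  fin_cases i <;> simp

end Cfsg.Agent.H28.TypeR.Block
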