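import Mathlib

/-!
# A quintic without integral roots (twisted lattice, seven-row shape, pair case)
-/

set_option autoImplicit false

namespace Cfsg.Agent.H28.TypeR.Block

/-- With `P = (2h+1)^2 - 1`, `D = x(x-2h)(P-x)`, `N = x(P-x) + 2qx - (4h-5)q^2`:
`(D + q^2(x+2h+2)) N - 4 q^2 D`. -/
def sigmaPoly (h x : ℤ) : ℤ :=
  (x * (x - 2 * h) * ((2 * h + 1) ^ 2 - 1 - x) + (2 * h + 1) ^ 2 * (x + 2 * h + 2)) *
      (x * ((2 * h + 1) ^ 2 - 1 - x) + 2 * (2 * h + 1) * x - (4 * h - 5) * (2 * h + 1) ^ 2) -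
    4 * (2 * h + 1) ^ 2 * (x * (x - 2 * h) * ((2 * h + 1) ^ 2 - 1 - x))

theorem sigmaPoly_le_one (y j : ℤ) (hy : 0 ≤ y) (hj : 0 ≤ j) :
    sigmaPoly (13 + y) (1 - j) < 0 := by
  have e : sigmaPoly (13 + y) (1 - j) = -((46309312 + 18005568 * y + 2791664 * y ^ 2 + 215808 * y ^ 3 + 8320 * y ^ 4 + 128 * y ^ 5) * j ^ 0 +
      (612067456 + 283325184 * y + 54620384 * y ^ 2 + 5612928 * y ^ 3 + 324256 * y ^ 4 + 9984 * y ^ 5 + 128 * y ^ 6) * j ^ 1 +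
      (40359184 + 15186336 * y + 2282408 * y ^ 2 + 171264 * y ^ 3 + 6416 * y ^ 4 + 96 * y ^ 5) * j ^ 2 +
      (638872 + 182160 * y + 19384 * y ^ 2 + 912 * y ^ 3 + 16 * y ^ 4) * j ^ 3 +
      (1531 + 222 * y + 8 * y ^ 2) * j ^ 4 +
      (1) * j ^ 5) := by
    simp only [sigmaPoly]; ring
  rw [e, neg_lt_zero]; positivity

theorem sigmaPoly_low (y a b : ℤ) (hy : 0 ≤ y) (ha : 0 ≤ a) (hb : 0 ≤ b)
    (hab : a + b = 22 + 2 * y) : 0 < sigmaPoly (13 + y) (2 + a) := by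
  have e : (22 + 2 * y) ^ 5 * sigmaPoly (13 + y) (2 + a) = (526036302 + 250315218 * y + 49565688 * y ^ 2 + 5226768 * y ^ 3 + 309536 * y ^ 4 + 9760 * y ^ 5 + 128 * y ^ 6) * (a ^ 0 * b ^ 5) +
      (14361892380 + 7895053548 * y + 1857325784 * y ^ 2 + 242370208 * y ^ 3 + 18946336 * y ^ 4 + 887168 * y ^ 5 + 23040 * y ^ 6 + 256 * y ^ 7) * (a ^ 1 * b ^ 4) +
      (33576562404 + 18606973548 * y + 4414851600 * y ^ 2 + 581342096 * y ^ 3 + 45880192 * y ^ 4 + 2170112 * y ^ 5 + 56960 * y ^ 6 + 640 * y ^ 7) * (a ^ 2 * b ^ 3) +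
      (26556303136 + 14721465024 * y + 3495779072 * y ^ 2 + 460899776 * y ^ 3 + 36435840 * y ^ 4 + 1726976 * y ^ 5 + 45440 * y ^ 6 + 512 * y ^ 7) * (a ^ 3 * b ^ 2) +
      (6842832414 + 3768651890 * y + 889967128 * y ^ 2 + 116785728 * y ^ 3 + 9195136 * y ^ 4 + 434304 * y ^ 5 + 11392 * y ^ 6 + 128 * y ^ 7) * (a ^ 4 * b ^ 1) +
      (32389236 + 11764644 * y + 1705480 * y ^ 2 + 123328 * y ^ 3 + 4448 * y ^ 4 + 64 * y ^ 5) * (a ^ 5 * b ^ 0) := by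
    obtain rfl : b = 22 + 2 * y - a := by linarith
    simp only [sigmaPoly]; ring
  refine pos_of_mul_pos_right (a := (22 + 2 * y) ^ 5) ?_ (by positivity)
  rw [e]; rcases ha.eq_or_lt with rfl | ha'
  · obtain rfl : b = 22 + 2 * y := by linarith
    positivity
  · positivity

theorem sigmaPoly_mid (y a b : ℤ) (hy : 0 ≤ y) (ha : 0 ≤ a) (hb : 0 ≤ b)
    (hab : a + b = 25 + 2 * y) : sigmaPoly (13 + y) (25 + 2 * y + a) < 0 := by
  have e : (25 + 2 * y) ^ 5 * -sigmaPoly (13 + y) (25 + 2 * y + a) = (271800256 + 129408832 * y + 25556784 * y ^ 2 + 2681088 * y ^ 3 + 157648 * y ^ 4 + 4928 * y ^ 5 + 64 * y ^ 6) * (a ^ 0 * b ^ 5) +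
      (8964047680 + 4784831872 * y + 1091693040 * y ^ 2 + 138040512 * y ^ 3 + 10449472 * y ^ 4 + 473632 * y ^ 5 + 11904 * y ^ 6 + 128 * y ^ 7) * (a ^ 1 * b ^ 4) +
      (32833998160 + 17704138768 * y + 4083958704 * y ^ 2 + 522548016 * y ^ 3 + 40059344 * y ^ 4 + 1840256 * y ^ 5 + 46912 * y ^ 6 + 512 * y ^ 7) * (a ^ 2 * b ^ 3) +
      (39659835960 + 21494428392 * y + 4983388912 * y ^ 2 + 640812608 * y ^ 3 + 49367200 * y ^ 4 + 2278816 * y ^ 5 + 58368 * y ^ 6 + 640 * y ^ 7) * (a ^ 3 * b ^ 2) +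
      (15866038755 + 8627911308 * y + 2004679952 * y ^ 2 + 258046576 * y ^ 3 + 19878192 * y ^ 4 + 916544 * y ^ 5 + 23424 * y ^ 6 + 256 * y ^ 7) * (a ^ 4 * b ^ 1) +
      (338187906 + 178292394 * y + 38488488 * y ^ 2 + 4372560 * y ^ 3 + 276512 * y ^ 4 + 9248 * y ^ 5 + 128 * y ^ 6) * (a ^ 5 * b ^ 0) := by
    obtain rfl : b = 25 + 2 * y - a := by linarith
    simp only [sigmaPoly]; ring
  have h : 0 < -sigmaPoly (13 + y) (25 + 2 * y + a) := by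
    refine pos_of_mul_pos_right (a := (25 + 2 * y) ^ 5) ?_ (by positivity)
    rw [e]; rcases ha.eq_or_lt with rfl | ha'
    · obtain rfl : b = 25 + 2 * y := by linarith
      positivity
    · positivity
  linarith

theorem sigmaPoly_high (y a b : ℤ) (hy : 0 ≤ y) (ha : 0 ≤ a) (hb : 0 ≤ b)
    (hab : a + b = 677 + 104 * y + 4 * y ^ 2) : 0 < sigmaPoly (13 + y) (51 + 4 * y + a) := by
  have e : (677 + 104 * y + 4 * y ^ 2) ^ 5 * sigmaPoly (13 + y) (51 + 4 * y + a) = (261853488 + 98669856 * y + 14879728 * y ^ 2 + 1122560 * y ^ 3 + 42368 * y ^ 4 + 640 * y ^ 5) * (a ^ 0 * b ^ 5) +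
      (430147508352 + 262663445728 * y + 70260840016 * y ^ 2 + 10752678272 * y ^ 3 + 1029680928 * y ^ 4 + 63175296 * y ^ 5 + 2425088 * y ^ 6 + 53248 * y ^ 7 + 512 * y ^ 8) * (a ^ 1 * b ^ 4) +
      (17189607553192 + 11807123957520 * y + 3606336765288 * y ^ 2 + 642868298560 * y ^ 3 + 73705490128 * y ^ 4 + 5636187232 * y ^ 5 + 287455488 * y ^ 6 + 9428736 * y ^ 7 + 180480 * y ^ 8 + 1536 * y ^ 9) * (a ^ 2 * b ^ 3) +
      (159972147853920 + 121378688310720 * y + 41456127053424 * y ^ 2 + 8393045501584 * y ^ 3 + 1115426638624 * y ^ 4 + 101676381792 * y ^ 5 + 6437903936 * y ^ 6 + 279584768 * y ^ 7 + 7969792 * y ^ 8 + 134656 * y ^ 9 + 1024 * y ^ 10) * (a ^ 3 * b ^ 2) +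
      (1000883873511 + 601315129062 * y + 158124549152 * y ^ 2 + 23770912448 * y ^ 3 + 2234327024 * y ^ 4 + 134458720 * y ^ 5 + 5058944 * y ^ 6 + 108800 * y ^ 7 + 1024 * y ^ 8) * (a ^ 4 * b ^ 1) +
      (2782625076 + 1231565310 * y + 227106828 * y ^ 2 + 22334832 * y ^ 3 + 1235488 * y ^ 4 + 36448 * y ^ 5 + 448 * y ^ 6) * (a ^ 5 * b ^ 0) := by
    obtain rfl : b = 677 + 104 * y + 4 * y ^ 2 - a := by linarith
    simp only [sigmaPoly]; ring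
  refine pos_of_mul_pos_right (a := (677 + 104 * y + 4 * y ^ 2) ^ 5) ?_ (by positivity)
  rw [e]; rcases ha.eq_or_lt with rfl | ha'
  · obtain rfl : b = 677 + 104 * y + 4 * y ^ 2 := by linarith
    positivity
  · positivity

theorem sigmaPoly_top (y j : ℤ) (hy : 0 ≤ y) (hj : 0 ≤ j) :
    0 < sigmaPoly (13 + y) (728 + 108 * y + 4 * y ^ 2 + j) := by
  have e : sigmaPoly (13 + y) (728 + 108 * y + 4 * y ^ 2 + j) = (2782625076 + 1231565310 * y + 227106828 * y ^ 2 + 22334832 * y ^ 3 + 1235488 * y ^ 4 + 36448 * y ^ 5 + 448 * y ^ 6) * j ^ 0 +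
      (-1457859303 + -655155000 * y + -122631400 * y ^ 2 + -12237744 * y ^ 3 + -686704 * y ^ 4 + -20544 * y ^ 5 + -256 * y ^ 6) * j ^ 1 +
      (340359084 + 155036532 * y + 29388424 * y ^ 2 + 2967504 * y ^ 3 + 168352 * y ^ 4 + 5088 * y ^ 5 + 64 * y ^ 6) * j ^ 2 +
      (1472014 + 445512 * y + 50520 * y ^ 2 + 2544 * y ^ 3 + 48 * y ^ 4) * j ^ 3 +
      (2104 + 318 * y + 12 * y ^ 2) * j ^ 4 +
      (1) * j ^ 5 := by
    simp only [sigmaPoly]; ring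
  rw [e]
  obtain ⟨u, hu⟩ : ∃ u, u = 2782625076 + 1231565310 * y + 227106828 * y ^ 2 + 22334832 * y ^ 3 + 1235488 * y ^ 4 + 36448 * y ^ 5 + 448 * y ^ 6 := ⟨_, rfl⟩
  obtain ⟨v, hv⟩ : ∃ v, v = -1457859303 + -655155000 * y + -122631400 * y ^ 2 + -12237744 * y ^ 3 + -686704 * y ^ 4 + -20544 * y ^ 5 + -256 * y ^ 6 := ⟨_, rfl⟩
  obtain ⟨w, hw⟩ : ∃ w, w = 340359084 + 155036532 * y + 29388424 * y ^ 2 + 2967504 * y ^ 3 + 168352 * y ^ 4 + 5088 * y ^ 5 + 64 * y ^ 6 := ⟨_, rfl⟩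
  have hw0 : 0 < w := by rw [hw]; positivity
  have hd : 0 < 1663013140587515727 + 1492084306434279888 * y + 613263079749774384 * y ^ 2 + 152684762489559648 * y ^ 3 + 25646752544168096 * y ^ 4 + 3061927381591680 * y ^ 5 + 266425970927360 * y ^ 6 + 17023964500480 * y ^ 7 + 792813665024 * y ^ 8 + 26243491840 * y ^ 9 + 586113024 * y ^ 10 + 7929856 * y ^ 11 + 49152 * y ^ 12 := by positivity
  have hd' : 1663013140587515727 + 1492084306434279888 * y + 613263079749774384 * y ^ 2 + 152684762489559648 * y ^ 3 + 25646752544168096 * y ^ 4 + 3061927381591680 * y ^ 5 + 266425970927360 * y ^ 6 + 17023964500480 * y ^ 7 + 792813665024 * y ^ 8 + 26243491840 * y ^ 9 + 586113024 * y ^ 10 + 7929856 * y ^ 11 + 49152 * y ^ 12 = 4 * u * w - v ^ 2 := by rw [hu, hv, hw]; ring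
  have hsq : 0 < u + v * j + w * j ^ 2 := by
    refine pos_of_mul_pos_right (a := 4 * w) ?_ (by linarith)
    nlinarith [sq_nonneg (2 * w * j + v)]
  have hrest : 0 ≤ (1472014 + 445512 * y + 50520 * y ^ 2 + 2544 * y ^ 3 + 48 * y ^ 4) * j ^ 3 + (2104 + 318 * y + 12 * y ^ 2) * j ^ 4 + (1) * j ^ 5 := by positivity
  rw [← hu, ← hv, ← hw]
  linarith

/-- The quintic has no integral root. -/
theorem sigmaPoly_ne_zero (h x : ℤ) (hh : 13 ≤ h) : sigmaPoly h x ≠ 0 := by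
  obtain ⟨y, hy, rfl⟩ : ∃ y : ℤ, 0 ≤ y ∧ h = 13 + y := ⟨h - 13, by omega, by ring⟩
  rcases (by omega : x ≤ 1 ∨ (2 ≤ x ∧ x ≤ 24 + 2 * y) ∨ (25 + 2 * y ≤ x ∧ x ≤ 50 + 4 * y) ∨
      (51 + 4 * y ≤ x ∧ x ≤ 728 + 108 * y + 4 * y ^ 2) ∨
      728 + 108 * y + 4 * y ^ 2 ≤ x) with h1 | ⟨h1, h2⟩ | ⟨h1, h2⟩ | ⟨h1, h2⟩ | h1
  · have := sigmaPoly_le_one y (1 - x) hy (by linarith)
    rw [sub_sub_cancel] at this; exact this.ne
  · have := sigmaPoly_low y (x - 2) (24 + 2 * y - x) hy (by linarith) (by linarith) (by ring)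
    rw [add_sub_cancel] at this; exact this.ne'
  · have := sigmaPoly_mid y (x - (25 + 2 * y)) (50 + 4 * y - x) hy (by linarith) (by linarith)
      (by ring)
    rw [add_sub_cancel] at this; exact this.ne
  · have := sigmaPoly_high y (x - (51 + 4 * y)) (728 + 108 * y + 4 * y ^ 2 - x) hy (by linarith)
      (by linarith) (by ring)
    rw [add_sub_cancel] at this; exact this.ne'
  · have := sigmaPoly_top y (x - (728 + 108 * y + 4 * y ^ 2)) hy (by linarith)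
    rw [add_sub_cancel] at this; exact this.ne'

end Cfsg.Agent.H28.TypeR.Block
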