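import Cfsg.Agent.H28.TypeR.BlocksPair

/-!
# The rows of the twisted principal block of `C(t)`

If some coefficient of `χ` at the functions `l (c_i + c_3)` is non-zero, then on the 2-section of
`t` the character `χ` is `l` times the combination of `c_0, c_1, c_2` with these coefficients;
two twists never share a row.
-/

set_option autoImplicit false
set_option linter.style.haveILetI false
set_option linter.unusedSectionVars false

namespace Cfsg.Agent.H28.TypeR.Blocks

open Subgroup Cfsg Cfsg.Agent Cfsg.Agent.BlockBasic Cfsg.Agent.CharBasic Cfsg.Agent.CharInduce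
open Cfsg.Agent.H84.Ward (TData VanEven tu)
open scoped ComplexConjugate

universe u v

variable {G : Type u} [Group G] [Fintype G] {L : Type v} [Group L] [Fintype L]

/-- The four principal characters of `L` and a Sylow 2-subgroup at `t`. -/
structure Data (D : TData G L) (M : Ideal AlgInt) (c : Fin 4 → IrrCharacter L)
    (S : Subgroup G) : Prop where
  hM : IsPModular 2 M
  inj : Function.Injective c
  range : Set.range c = principalBlock M L
  zero : ∀ a : L, (c 0 : L → ℂ) a = 1
  deg : ∀ j, j ≠ 0 → (c j : L → ℂ) 1 ≠ 1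
  three : ∀ a : L, Odd (orderOf a) →
    (c 3 : L → ℂ) a = (c 0 : L → ℂ) a + (c 1 : L → ℂ) a + (c 2 : L → ℂ) a
  S2 : IsPGroup 2 S
  Scard : 2 ^ (Nat.card G).factorization 2 ≤ Nat.card S
  Sab : ∀ a ∈ S, ∀ b ∈ S, a * b = b * a
  tS : D.t ∈ S

/-- The involutions of `S` are fused to `t` by normalising elements fixing `l`. -/
def Fused (D : TData G L) (S : Subgroup G) (l : L →* ℂˣ) : Prop :=
  ∀ s ∈ S, orderOf s = 2 → ∃ n ∈ normalizer (S : Set G), n * D.t * n⁻¹ = s ∧
    ∀ a b : L, Odd (orderOf a) → D.emb (1, a) ∈ centralizer (S : Set G) →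
      D.emb (1, b) = n * D.emb (1, a) * n⁻¹ → l b = l a

/-- The functions `l (c_i + c_3)`. -/
noncomputable def theta (c : Fin 4 → IrrCharacter L) (l : L →* ℂˣ) (i : Fin 3) (a : L) : ℂ :=
  (l a : ℂ) * ((c i.castSucc : L → ℂ) a + (c 3 : L → ℂ) a)

theorem odd_iff_not_two_dvd (n : ℕ) : Odd n ↔ ¬ 2 ∣ n := by
  rw [Nat.odd_iff, Nat.two_dvd_ne_zero]

variable (D : TData G L)

theorem t_mul_sec (a : L) :
    D.t * ((sec D a : ↥(centralizer (zpowers D.t : Set G))) : G) = D.emb (tu, a) := by
  rw [sec_coe, ← D.emb_t, ← map_mul, Prod.mk_mul_mk, mul_one, one_mul]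

theorem proj_surjective : Function.Surjective (proj D) := fun a => ⟨sec D a, proj_sec D a⟩

/-- Sums over the regular elements of `C(t)` are sums over those of `L`. -/
theorem sum_regular_sec [Fintype ↥(centralizer (zpowers D.t : Set G))]
    [DecidablePred fun h : ↥(centralizer (zpowers D.t : Set G)) => ¬ 2 ∣ orderOf h]
    [DecidablePred fun a : L => ¬ 2 ∣ orderOf a]
    (F : ↥(centralizer (zpowers D.t : Set G)) → ℂ) :
    ∑ h with ¬ 2 ∣ orderOf h, F h = ∑ a : L with ¬ 2 ∣ orderOf a, F (sec D a) := by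
  have hid : ∀ h : ↥(centralizer (zpowers D.t : Set G)), ¬ 2 ∣ orderOf h →
      sec D (proj D h) = h := fun h hh => by
    conv_rhs => rw [eq_sec_mul D h, ((regular_iff D).1 hh).1]
    simp [show ((1, 1) : Multiplicative (ZMod 2) × L) = 1 from rfl]
  refine Finset.sum_nbij' (fun h => proj D h) (fun a => sec D a) (fun h hh => ?_)
      (fun a ha => ?_) (fun h hh => ?_) (fun a _ => proj_sec D a) (fun h hh => ?_)
  · exact Finset.mem_filter.2 ⟨Finset.mem_univ _,
      ((regular_iff D).1 (Finset.mem_filter.1 hh).2).2⟩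
  · refine Finset.mem_filter.2 ⟨Finset.mem_univ _, (regular_iff D).2 ⟨by simp [sec], ?_⟩⟩
    rw [proj_sec]
    exact (Finset.mem_filter.1 ha).2
  · exact hid h (Finset.mem_filter.1 hh).2
  · rw [hid h (Finset.mem_filter.1 hh).2]

variable {D} {M : Ideal AlgInt} {c : Fin 4 → IrrCharacter L} {S : Subgroup G}

/-- `l c_j` inflated to `C(t)`. -/
noncomputable def lift (D : TData G L) (c : Fin 4 → IrrCharacter L) (l : L →* ℂˣ) (j : Fin 4) :
    IrrCharacter ↥(centralizer (zpowers D.t : Set G)) :=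
  mulIrr (l.comp (proj D))
    ⟨fun h => (c j : L → ℂ) (proj D h), IsIrr.comp (c j).2 (proj D) (proj_surjective D)⟩

theorem Data.lift_mem (X : Data D M c S) (l : L →* ℂˣ) (j : Fin 4) :
    lift D c l j ∈ blockLam D M l := by
  classical
  haveI : Fact (Nat.Prime 2) := ⟨Nat.prime_two⟩
  haveI : Fintype ↥(centralizer (zpowers D.t : Set G)) := Fintype.ofFinite _
  refine (mem_blockOf_linIrr_iff X.hM _ _).2 ((Cores.mem_principalBlock_iff_sum_regular X.hM _).2 ?_)
  have hc := (Cores.mem_principalBlock_iff_sum_regular X.hM (c j)).1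
    (X.range ▸ Set.mem_range_self j)
  rw [sum_regular_sec D]
  refine fun h0 => hc (Eq.trans (Finset.sum_congr rfl fun a _ => ?_) h0)
  simp [lift, ← mul_assoc]

theorem classInner_theta (X : Data D M c S) (l : L →* ℂˣ) (i m : Fin 3) :
    (Nat.card L : ℂ)⁻¹ * ∑ a : L, theta c l i a * conj ((l a : ℂ) * (c m.castSucc : L → ℂ) a) =
      if i = m then 1 else 0 := by
  have h1 : ∀ a : L, theta c l i a * conj ((l a : ℂ) * (c m.castSucc : L → ℂ) a) =
      (c i.castSucc : L → ℂ) a * conj ((c m.castSucc : L → ℂ) a) +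
        (c 3 : L → ℂ) a * conj ((c m.castSucc : L → ℂ) a) := fun a => by
    have hn : (l a : ℂ) * conj (l a : ℂ) = 1 := by rw [Complex.mul_conj', norm_hom]; norm_num
    rw [theta, map_mul]
    linear_combination (((c i.castSucc : L → ℂ) a + (c 3 : L → ℂ) a) *
      conj ((c m.castSucc : L → ℂ) a)) * hn
  rw [Finset.sum_congr rfl fun a _ => h1 a, Finset.sum_add_distrib, mul_add, ← classInner_def,
    ← classInner_def, classInner_irrCharacter, classInner_irrCharacter]
  have h3 : c 3 ≠ c m.castSucc := fun e => by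
    have := X.inj e
    clear h1 e
    revert this; revert m; decide
  rw [if_neg h3, add_zero]
  simp [X.inj.eq_iff]

variable (D) in
/-- The shifted character on `C(t)`. -/
def shift (χ : G → ℂ) (h : ↥(centralizer (zpowers D.t : Set G))) : ℂ := χ (D.t * (h : G))

theorem Data.induced_or (X : Data D M c S) {l : L →* ℂˣ}
    (hv : ∀ i, VanEven (theta c l i)) (χ : IrrCharacter G) :
    IsInducedBlock M (centralizer (zpowers D.t : Set G)) (blockLam D M l)
        (blockOf M (χ : G → ℂ)) ∨ ∀ i, D.coef (hv i) χ = 0 := by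
  classical
  haveI : Fact (Nat.Prime 2) := ⟨Nat.prime_two⟩
  by_cases hind : IsInducedBlock M (centralizer (zpowers D.t : Set G)) (blockLam D M l)
      (blockOf M (χ : G → ℂ))
  · exact Or.inl hind
  refine Or.inr fun i => ?_
  haveI : Fintype ↥(centralizer (zpowers D.t : Set G)) := Fintype.ofFinite _
  set θ := shift D (χ : G → ℂ) with hθ
  have hθc : IsClassFunction ↥(centralizer (zpowers D.t : Set G)) θ :=
    H82.Star.isClassFunction_shift (IsIrr.isClassFunction χ.2)
  have hzero : ∀ y : ↥(centralizer (zpowers D.t : Set G)), ¬ 2 ∣ orderOf y →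
      ∑ ψ with ψ ∈ blockLam D M l, classInner θ (ψ : _ → ℂ) * (ψ : _ → ℂ) y = 0 := by
    intro y hy
    have h2 := H82.Star.second_main_of_eq X.hM (k := 1) (x := D.t)
      (by rw [pow_one]; exact orderOf_eq_prime (by rw [pow_two, D.t_sq]) D.t_ne_one)
      (isPBlock_blockOf M χ) (self_mem_blockOf X.hM χ) (centralizer_zpowers_t D)
      (isPBlock_blockLam D M l) hind y hy
    rw [blockPart, finsum_mem_eq_sum_ite,
      Subsingleton.elim (Fintype.ofFinite ↥(centralizer (zpowers D.t : Set G)))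
        ‹Fintype ↥(centralizer (zpowers D.t : Set G))›, ← Finset.sum_filter] at h2
    exact h2
  have horth : ∀ j, ∑ h with ¬ 2 ∣ orderOf h,
      (lift D c l j : ↥(centralizer (zpowers D.t : Set G)) → ℂ) h * conj (θ h) = 0 := by
    intro j
    have hexp : ∀ h, θ h = ∑ ψ : IrrCharacter ↥(centralizer (zpowers D.t : Set G)),
        classInner θ (ψ : _ → ℂ) * (ψ : _ → ℂ) h := fun h => by
      conv_lhs => rw [classFunction_expansion hθc]
      simp [Finset.sum_apply]
    simp only [hexp, map_sum, Finset.mul_sum]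
    rw [Finset.sum_comm, ← Finset.sum_filter_add_sum_filter_not Finset.univ
      (fun ψ => ψ ∈ blockLam D M l)]
    have h1 : ∀ ψ ∈ Finset.univ.filter (fun ψ => ¬ ψ ∈ blockLam D M l),
        ∑ h with ¬ 2 ∣ orderOf h, (lift D c l j : ↥(centralizer (zpowers D.t : Set G)) → ℂ) h *
          conj (classInner θ (ψ : _ → ℂ) * (ψ : _ → ℂ) h) = 0 := fun ψ hψ => by
      have h0 := sum_regular_eq_zero X.hM (isPBlock_blockLam D M l) (X.lift_mem l j)
        (Finset.mem_filter.1 hψ).2
      simp only [map_mul, ← mul_assoc, mul_comm _ (conj (classInner θ _))]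
      simp only [mul_assoc, ← Finset.mul_sum, h0, mul_zero]
    rw [Finset.sum_eq_zero h1, add_zero, Finset.sum_comm]
    refine Finset.sum_eq_zero fun h hh => ?_
    rw [← Finset.mul_sum, ← map_sum, hzero h (Finset.mem_filter.1 hh).2, map_zero, mul_zero]
  have hd := D.coef_spec (hv i) χ
  rw [D.inner_F _ (IsIrr.isClassFunction χ.2)] at hd
  have hsum : ∑ a : L, theta c l i a * conj ((χ : G → ℂ) (D.emb (tu, a))) = 0 := by
    rw [← Finset.sum_filter_of_ne (s := Finset.univ) (p := fun a : L => ¬ 2 ∣ orderOf a)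
      (fun a _ ha => (odd_iff_not_two_dvd _).1 (by_contra fun hn =>
        ha (by rw [(hv i).even a hn, zero_mul])))]
    have e := sum_regular_sec D (fun h =>
      ((lift D c l i.castSucc : ↥(centralizer (zpowers D.t : Set G)) → ℂ) h +
        (lift D c l 3 : ↥(centralizer (zpowers D.t : Set G)) → ℂ) h) * conj (θ h))
    simp only [add_mul, Finset.sum_add_distrib, horth, add_zero] at e
    rw [e, ← Finset.sum_add_distrib]
    refine Finset.sum_congr rfl fun a _ => ?_
    simp [lift, theta, hθ, shift, t_mul_sec]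
    ring
  rw [hsum, mul_zero] at hd
  exact_mod_cast hd.symm

/-- On the section of `t` a row of the twist `l` is `l` times its combination of `c_0, c_1, c_2`. -/
theorem Data.apply_section (X : Data D M c S) {l : L →* ℂˣ} (hl : Fused D S l)
    (hv : ∀ i, VanEven (theta c l i)) {χ : IrrCharacter G} (hne : ∃ i, D.coef (hv i) χ ≠ 0)
    {a : L} (ha : Odd (orderOf a)) :
    (χ : G → ℂ) (D.emb (tu, a)) =
      (l a : ℂ) * ∑ i : Fin 3, (D.coef (hv i) χ : ℂ) * (c i.castSucc : L → ℂ) a := by
  classical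
  haveI : Fact (Nat.Prime 2) := ⟨Nat.prime_two⟩
  obtain ⟨i₀, hi₀⟩ := hne
  have hind := (X.induced_or hv χ).resolve_right fun h => hi₀ (h i₀)
  haveI : Fintype ↥(centralizer (zpowers D.t : Set G)) := Fintype.ofFinite _
  set θ := shift D (χ : G → ℂ) with hθ
  have hθc : IsClassFunction ↥(centralizer (zpowers D.t : Set G)) θ :=
    H82.Star.isClassFunction_shift (IsIrr.isClassFunction χ.2)
  have hpart : ∀ y : ↥(centralizer (zpowers D.t : Set G)), ¬ 2 ∣ orderOf y →
      θ y = ∑ ψ with ψ ∈ blockLam D M l, classInner θ (ψ : _ → ℂ) * (ψ : _ → ℂ) y := by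
    intro y hy
    conv_lhs => rw [classFunction_expansion hθc]
    simp only [Finset.sum_apply, Pi.smul_apply, smul_eq_mul]
    refine Cores.sum_eq_sum_of_block X.hM (isPBlock_blockLam D M l) _ fun b hb hne => ?_
    have h2 := H82.Star.second_main_of_eq X.hM (k := 1) (x := D.t)
      (by rw [pow_one]; exact orderOf_eq_prime (by rw [pow_two, D.t_sq]) D.t_ne_one)
      (isPBlock_blockOf M χ) (self_mem_blockOf X.hM χ) (centralizer_zpowers_t D) hb
      (fun h => hne (eq_blockLam D X.hM l X.S2 X.Scard X.Sab X.tS hl h hind)) y hy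
    rw [blockPart, finsum_mem_eq_sum_ite,
      Subsingleton.elim (Fintype.ofFinite ↥(centralizer (zpowers D.t : Set G)))
        ‹Fintype ↥(centralizer (zpowers D.t : Set G))›, ← Finset.sum_filter] at h2
    exact h2
  have hJ : ∀ ψ ∈ blockLam D M l, ∃ δ : Fin 3 → ℂ, ∀ b : L, Odd (orderOf b) →
      (ψ : ↥(centralizer (zpowers D.t : Set G)) → ℂ) (sec D b) =
        (l b : ℂ) * ∑ i : Fin 3, δ i * (c i.castSucc : L → ℂ) b := by
    intro ψ hψ
    obtain ⟨φ, hφ, hval⟩ := exists_of_mem_blockLam D X.hM l hψ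
    rw [← X.range] at hφ
    obtain ⟨j, rfl⟩ := hφ
    refine ⟨fun i => if j = 3 ∨ j = i.castSucc then 1 else 0, fun b hb => ?_⟩
    rw [hval]
    congr 1
    fin_cases j <;> simp [Fin.sum_univ_three, X.three b hb]
  choose! δ hδ using hJ
  set α : Fin 3 → ℂ := fun i => ∑ ψ with ψ ∈ blockLam D M l,
    classInner θ (ψ : _ → ℂ) * δ ψ i with hα
  have hval : ∀ b : L, Odd (orderOf b) → (χ : G → ℂ) (D.emb (tu, b)) =
      (l b : ℂ) * ∑ i : Fin 3, α i * (c i.castSucc : L → ℂ) b := by
    intro b hb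
    have hreg : ¬ 2 ∣ orderOf (sec D b) := (regular_iff D).2
      ⟨by simp [sec], by rw [proj_sec]; exact (odd_iff_not_two_dvd _).1 hb⟩
    have h := hpart _ hreg
    rw [hθ] at h
    simp only [shift, t_mul_sec] at h
    rw [h]
    simp only [hα, Finset.sum_mul, Finset.mul_sum]
    rw [Finset.sum_comm (t := Finset.univ.filter _)]
    refine Finset.sum_congr rfl fun ψ hψ => ?_
    rw [hδ ψ (Finset.mem_filter.1 hψ).2 b hb, Finset.mul_sum, Finset.mul_sum]
    exact Finset.sum_congr rfl fun i _ => by ring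
  have hcoef : ∀ i, (D.coef (hv i) χ : ℂ) = conj (α i) := by
    intro i
    rw [← D.coef_spec (hv i) χ, D.inner_F _ (IsIrr.isClassFunction χ.2)]
    have hterm : ∀ b : L, theta c l i b * conj ((χ : G → ℂ) (D.emb (tu, b))) =
        ∑ m : Fin 3, conj (α m) *
          (theta c l i b * conj ((l b : ℂ) * (c m.castSucc : L → ℂ) b)) := by
      intro b
      by_cases hb : Odd (orderOf b)
      · rw [hval b hb, Finset.mul_sum, map_sum, Finset.mul_sum]
        exact Finset.sum_congr rfl fun m _ => by simp only [map_mul]; ring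
      · simp [(hv i).even b hb]
    rw [Finset.sum_congr rfl fun b _ => hterm b, Finset.sum_comm, Finset.mul_sum]
    simp only [← Finset.mul_sum, mul_left_comm _ (conj (α _)), classInner_theta X]
    simp
  have hreal : ∀ i, α i = (D.coef (hv i) χ : ℂ) := fun i => by
    rw [← Complex.conj_conj (α i), ← hcoef, map_intCast]
  simp only [hval a ha, hreal]

/-- The value at `t` of a row of the twist `l`. -/
theorem Data.apply_t (X : Data D M c S) {l : L →* ℂˣ} (hl : Fused D S l)
    (hv : ∀ i, VanEven (theta c l i)) {χ : IrrCharacter G} (hne : ∃ i, D.coef (hv i) χ ≠ 0)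
    {h : ℤ} (h1 : (c 1 : L → ℂ) 1 = (h : ℂ)) (h2 : (c 2 : L → ℂ) 1 = (h : ℂ)) :
    (χ : G → ℂ) D.t = ((D.coef (hv 0) χ + h * (D.coef (hv 1) χ + D.coef (hv 2) χ) : ℤ) : ℂ) := by
  have e := X.apply_section hl hv hne (a := 1) (by rw [orderOf_one]; exact odd_one)
  rw [D.emb_t] at e
  rw [e, Fin.sum_univ_three, map_one, Units.val_one, one_mul]
  simp [X.zero, h1, h2]
  ring

/-- Different twists have disjoint rows. -/
theorem Data.disjoint (X : Data D M c S) {l l' : L →* ℂˣ} (hl : Fused D S l)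
    (hv : ∀ i, VanEven (theta c l i)) (hv' : ∀ i, VanEven (theta c l' i)) {χ : IrrCharacter G}
    {i i' : Fin 3} (hi : D.coef (hv i) χ ≠ 0) (hi' : D.coef (hv' i') χ ≠ 0) : l = l' := by
  haveI : Fact (Nat.Prime 2) := ⟨Nat.prime_two⟩
  have h1 := (X.induced_or hv χ).resolve_right fun h => hi (h i)
  have h2 := (X.induced_or hv' χ).resolve_right fun h => hi' (h i')
  have he : blockLam D M l' = blockLam D M l :=
    eq_blockLam D X.hM l X.S2 X.Scard X.Sab X.tS hl h2 h1
  have hmem : linIrr (l'.comp (proj D)) ∈ blockLam D M l :=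
    he ▸ self_mem_blockOf X.hM (linIrr (l'.comp (proj D)))
  obtain ⟨φ, hφ, hval⟩ := exists_of_mem_blockLam D X.hM l hmem
  rw [← X.range] at hφ
  obtain ⟨j, rfl⟩ := hφ
  have hj : j = 0 := by
    by_contra hj
    have h := hval 1
    simp at h
    exact X.deg j hj h.symm
  refine MonoidHom.ext fun a => Units.ext ?_
  have h := hval a
  simp [hj, X.zero] at h
  exact h.symm

end Cfsg.Agent.H28.TypeR.Blocks
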