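import Cfsg.Agent.H28.TypeR.BlocksTwist
import Cfsg.Agent.H84.Ward.TSection
import Cfsg.Agent.H82.PairConjugacy
import Cfsg.Agent.H82.DihNil
import Cfsg.Agent.H82.StarSecond

/-!
# The block of `C(t)` of a linear character of `L` induces a block from no other block

`C(t) = ⟨t⟩ × L`, `S` an abelian Sylow 2-subgroup at `t` whose involutions are fused to `t` by
elements of its normaliser fixing the character.  A pair `(⟨t⟩, b)` of the induced block is
conjugate to one below the pair of the character at `S`, and equals it by uniqueness.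
-/

set_option autoImplicit false
set_option linter.style.haveILetI false
set_option linter.unusedSectionVars false

namespace Cfsg.Agent.H28.TypeR.Blocks

open Subgroup Cfsg Cfsg.Agent Cfsg.Agent.BlockBasic Cfsg.Agent.CharBasic Cfsg.Agent.CharInduce
open Cfsg.Agent.H84.Ward (TData tu z2_cases tu_ne_one tu_mul_self)
open scoped ComplexConjugate

universe u v

variable {G : Type u} [Group G] {L : Type v} [Group L] (D : TData G L)

theorem centralizer_zpowers_t :
    centralizer (zpowers D.t : Set G) = centralizer ({D.t} : Set G) := by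
  rw [zpowers_eq_closure, centralizer_closure]

/-- The centraliser of `⟨t⟩` as a direct product. -/
def eH : ↥(centralizer (zpowers D.t : Set G)) ≃* Multiplicative (ZMod 2) × L :=
  (MulEquiv.subgroupCongr (centralizer_zpowers_t D)).trans D.e

/-- The projection on `L`. -/
def proj : ↥(centralizer (zpowers D.t : Set G)) →* L :=
  (MonoidHom.snd (Multiplicative (ZMod 2)) L).comp (eH D).toMonoidHom

/-- The copy of `L`. -/
def sec : L →* ↥(centralizer (zpowers D.t : Set G)) :=
  (eH D).symm.toMonoidHom.comp (MonoidHom.inr (Multiplicative (ZMod 2)) L)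

theorem eH_symm_coe (c : Multiplicative (ZMod 2) × L) :
    (((eH D).symm c : ↥(centralizer (zpowers D.t : Set G))) : G) = D.emb c := rfl

theorem sec_coe (a : L) :
    ((sec D a : ↥(centralizer (zpowers D.t : Set G))) : G) = D.emb (1, a) := rfl

@[simp] theorem proj_sec (a : L) : proj D (sec D a) = a := by simp [proj, sec]

theorem eq_sec_mul (h : ↥(centralizer (zpowers D.t : Set G))) :
    h = sec D (proj D h) * (eH D).symm ((eH D h).1, 1) := by
  apply (eH D).injective
  rw [map_mul, MulEquiv.apply_symm_apply]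
  simp [sec, proj]

theorem regular_iff {h : ↥(centralizer (zpowers D.t : Set G))} :
    ¬ 2 ∣ orderOf h ↔ (eH D h).1 = 1 ∧ ¬ 2 ∣ orderOf (proj D h) := by
  have ho : orderOf h = Nat.lcm (orderOf (eH D h).1) (orderOf (proj D h)) := by
    rw [← MulEquiv.orderOf_eq (eH D) h, Prod.orderOf]; rfl
  rcases z2_cases (eH D h).1 with h1 | h1
  · simp [ho, h1]
  · have h2 : orderOf tu = 2 :=
      orderOf_eq_prime (by rw [pow_two, tu_mul_self]) tu_ne_one
    simp [ho, h1, h2, tu_ne_one, Nat.dvd_lcm_left]

variable (M : Ideal AlgInt) [Finite G]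

/-- The block of `C(t)` of the linear character `l` of `L`. -/
noncomputable def blockLam (l : L →* ℂˣ) :
    Set (IrrCharacter ↥(centralizer (zpowers D.t : Set G))) :=
  blockOf M ((linIrr (l.comp (proj D)) :
    IrrCharacter ↥(centralizer (zpowers D.t : Set G))) :
    ↥(centralizer (zpowers D.t : Set G)) → ℂ)

theorem isPBlock_blockLam (l : L →* ℂˣ) : IsPBlock M (blockLam D M l) := isPBlock_blockOf M _

variable {M}

theorem isPGroup_t : IsPGroup 2 (zpowers D.t) :=
  IsPGroup.of_card (n := 1) (by
    rw [Nat.card_zpowers, pow_one]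
    exact orderOf_eq_prime (by rw [pow_two, D.t_sq]) D.t_ne_one)

/-- A member of the block of `l` restricted to `L` is `l` times a principal character. -/
theorem exists_of_mem_blockLam [Fintype L] (hM : IsPModular 2 M) (l : L →* ℂˣ)
    {ψ : IrrCharacter ↥(centralizer (zpowers D.t : Set G))} (hψ : ψ ∈ blockLam D M l) :
    ∃ φ ∈ principalBlock M L, ∀ a : L,
      (ψ : _ → ℂ) (sec D a) = (l a : ℂ) * (φ : L → ℂ) a := by
  classical
  haveI : Fintype ↥(centralizer (zpowers D.t : Set G)) := Fintype.ofFinite _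
  set φ' := mulIrr (l.comp (proj D))⁻¹ ψ with hφ'
  have hp : φ' ∈ principalBlock M ↥(centralizer (zpowers D.t : Set G)) :=
    (mem_blockOf_linIrr_iff hM _ ψ).1 hψ
  set η : L → ℂ := fun a => (φ' : ↥(centralizer (zpowers D.t : Set G)) → ℂ) (sec D a) with hη
  have hsign : ∀ (z : Multiplicative (ZMod 2)), ∃ ω : ℂ, ω * conj ω = 1 ∧
      ∀ a : L, (φ' : ↥(centralizer (zpowers D.t : Set G)) → ℂ) ((eH D).symm (z, a)) = ω * η a := by
    intro z
    obtain ⟨ω, hω2, hω, hωc⟩ := exists_sign_of_central (z := (eH D).symm (z, (1 : L)))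
      (mem_center_iff.2 fun h => (eH D).injective (by
        rw [map_mul, map_mul, MulEquiv.apply_symm_apply]
        exact Prod.ext (mul_comm _ _) (by simp)))
      ((map_mul _ _ _).symm.trans ((eH D).symm.map_eq_one_iff.2
        (Prod.ext (TData.z2_mul_self z) (mul_one _)))) φ'
    refine ⟨ω, by rw [hωc, hω2], fun a => ?_⟩
    rw [hη, ← hω, show sec D a * (eH D).symm (z, (1 : L)) = (eH D).symm (z, a) by
      apply (eH D).injective
      simp [sec]]
  have hηirr : IsIrrCharacter L η := by
    refine CharBasic.isIrr_of_norm_one (IsChar.comp (IsIrr.isCharacter φ'.2) (sec D)) ?_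
    have h1 : classInner (φ' : ↥(centralizer (zpowers D.t : Set G)) → ℂ)
        (φ' : ↥(centralizer (zpowers D.t : Set G)) → ℂ) = 1 := classInner_irr_self φ'.2
    rw [← h1, classInner_def, classInner_def,
      show Nat.card ↥(centralizer (zpowers D.t : Set G)) = 2 * Nat.card L by
        rw [Nat.card_congr (eH D).toEquiv, Nat.card_prod]; simp,
      ← Fintype.sum_equiv (eH D).symm.toEquiv
        (fun c => (φ' : ↥(centralizer (zpowers D.t : Set G)) → ℂ) ((eH D).symm c) * conj ((φ' : ↥(centralizer (zpowers D.t : Set G)) → ℂ) ((eH D).symm c))) _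
        (fun c => rfl), Fintype.sum_prod_type]
    have h2 : ∀ z : Multiplicative (ZMod 2), ∑ a : L,
        (φ' : ↥(centralizer (zpowers D.t : Set G)) → ℂ) ((eH D).symm (z, a)) * conj ((φ' : ↥(centralizer (zpowers D.t : Set G)) → ℂ) ((eH D).symm (z, a))) =
        ∑ a : L, η a * conj (η a) := fun z => by
      obtain ⟨ω, hω, hval⟩ := hsign z
      refine Finset.sum_congr rfl fun a _ => ?_
      rw [hval, map_mul, mul_mul_mul_comm, hω, one_mul]
    rw [Finset.sum_congr rfl fun z _ => h2 z, Finset.sum_const, Finset.card_univ,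
      show Fintype.card (Multiplicative (ZMod 2)) = 2 by simp, nsmul_eq_mul, Nat.cast_mul,
      mul_inv]
    push_cast
    ring
  refine ⟨⟨η, hηirr⟩, ?_, fun a => ?_⟩
  · rw [Cores.mem_principalBlock_iff_sum_regular hM] at hp ⊢
    intro h0
    refine hp (Eq.trans ?_ h0)
    refine Finset.sum_nbij' (fun h => proj D h) (fun a => sec D a) (fun h hh => ?_)
      (fun a ha => ?_) (fun h hh => ?_) (fun a _ => proj_sec D a) (fun h hh => ?_)
    · exact Finset.mem_filter.2 ⟨Finset.mem_univ _,
        ((regular_iff D).1 (Finset.mem_filter.1 hh).2).2⟩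
    · refine Finset.mem_filter.2 ⟨Finset.mem_univ _, (regular_iff D).2 ⟨by simp [sec], ?_⟩⟩
      rw [proj_sec]
      exact (Finset.mem_filter.1 ha).2
    · conv_rhs => rw [eq_sec_mul D h, ((regular_iff D).1 (Finset.mem_filter.1 hh).2).1]
      simp [show ((1, 1) : Multiplicative (ZMod 2) × L) = 1 from rfl]
    · show (φ' : ↥(centralizer (zpowers D.t : Set G)) → ℂ) h = (φ' : ↥(centralizer (zpowers D.t : Set G)) → ℂ) (sec D (proj D h))
      conv_lhs => rw [eq_sec_mul D h, ((regular_iff D).1 (Finset.mem_filter.1 hh).2).1]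
      simp [show ((1, 1) : Multiplicative (ZMod 2) × L) = 1 from rfl]
  · simp [hη, hφ', ← mul_assoc]

/-- A block of `C(t)` inducing the same block as the one of `l` is that one. -/
theorem eq_blockLam [Fintype G] (hM : IsPModular 2 M) (l : L →* ℂˣ) {S : Subgroup G}
    (hS2 : IsPGroup 2 S) (hScard : 2 ^ (Nat.card G).factorization 2 ≤ Nat.card S)
    (hSab : ∀ a ∈ S, ∀ b ∈ S, a * b = b * a) (htS : D.t ∈ S)
    (hfus : ∀ s ∈ S, orderOf s = 2 → ∃ n ∈ normalizer (S : Set G), n * D.t * n⁻¹ = s ∧
      ∀ a b : L, Odd (orderOf a) → D.emb (1, a) ∈ centralizer (S : Set G) →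
        D.emb (1, b) = n * D.emb (1, a) * n⁻¹ → l b = l a)
    {b : Set (IrrCharacter ↥(centralizer (zpowers D.t : Set G)))} {B : Set (IrrCharacter G)}
    (hb : IsInducedBlock M (centralizer (zpowers D.t : Set G)) b B)
    (hl : IsInducedBlock M (centralizer (zpowers D.t : Set G)) (blockLam D M l) B) :
    b = blockLam D M l := by
  classical
  haveI : Fact (Nat.Prime 2) := ⟨Nat.prime_two⟩
  have ht2 : orderOf D.t = 2 := orderOf_eq_prime (by rw [pow_two, D.t_sq]) D.t_ne_one
  have hu : ∃ k, orderOf D.t = 2 ^ k := ⟨1, by rw [ht2, pow_one]⟩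
  have hTS : zpowers D.t ≤ S := zpowers_le.2 htS
  have hCS : centralizer (S : Set G) ≤ centralizer (zpowers D.t : Set G) :=
    H82.centralizer_mono hTS
  have hSH : S ≤ centralizer (zpowers D.t : Set G) := fun s hs =>
    mem_centralizer_iff.2 fun y hy => hSab y (hTS hy) s hs
  haveI : Fintype ↥(centralizer (zpowers D.t : Set G)) := Fintype.ofFinite _
  haveI : Fintype ↥(centralizer (S : Set G)) := Fintype.ofFinite _
  set lH : ↥(centralizer (zpowers D.t : Set G)) →* ℂˣ := l.comp (proj D) with hlH
  set f := blockLam D M l with hf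
  set lS : ↥(centralizer (S : Set G)) →* ℂˣ := lH.comp (Subgroup.inclusion hCS) with hlS
  set e := blockOf M ((linIrr lS : IrrCharacter ↥(centralizer (S : Set G))) : ↥(centralizer (S : Set G)) → ℂ) with he
  have hfB : IsPBlock M f := isPBlock_blockLam D M l
  have hSe : IsBrauerPair 2 M S e := ⟨hS2, isPBlock_blockOf M _⟩
  have hnorm : IsNormalSubpair 2 M (zpowers D.t) f S e := by
    refine ⟨⟨isPGroup_t D, hfB⟩, hSe, hTS, hSH.trans (centralizer_le_normalizer _),
      fun x hx => ((H82.stabilizesBlock_iff_conjPair hM hfB).2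
        (H82.conjPair_of_centralizes f (hSH hx))).2, ?_⟩
    intro ξ hξ
    set F : G → ℂ := fun x => if h : x ∈ centralizer (zpowers D.t : Set G) then
      blockCoeff f ⟨x, h⟩ * (lH ⟨x, h⟩ : ℂ) else 0 with hF
    have hFr : ∀ x, MemLocalRing M (F x) := fun x => by
      rw [hF]; dsimp only
      split_ifs with h
      · exact memLocalRing_mul hM (memLocalRing_blockCoeff hM hfB _)
          (memLocalRing_of_isIntegral hM (isIntegral_hom lH _))
      · exact MemLocalIdeal.memLocalRing (memLocalIdeal_zero hM)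
    have hFi : ∀ q ∈ S, ∀ x : G, F (q * x * q⁻¹) = F x := by
      intro q hq x
      by_cases hx : x ∈ centralizer (zpowers D.t : Set G)
      · have hqx : q * x * q⁻¹ ∈ centralizer (zpowers D.t : Set G) :=
          mul_mem (mul_mem (hSH hq) hx) (inv_mem (hSH hq))
        have e1 : (⟨q * x * q⁻¹, hqx⟩ : ↥(centralizer (zpowers D.t : Set G))) =
            ⟨q, hSH hq⟩ * ⟨x, hx⟩ * ⟨q, hSH hq⟩⁻¹ := Subtype.ext rfl
        simp only [hF, dif_pos hx, dif_pos hqx, e1]
        rw [isClassFunction_blockCoeff f, map_mul, map_mul, map_inv, mul_comm (lH ⟨q, _⟩),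
          mul_inv_cancel_right]
      · have hqx : q * x * q⁻¹ ∉ centralizer (zpowers D.t : Set G) := fun h => hx (by
          have := mul_mem (mul_mem (inv_mem (hSH hq)) h) (hSH hq)
          rwa [show q⁻¹ * (q * x * q⁻¹) * q = x by group] at this)
        simp only [hF, dif_neg hx, dif_neg hqx]
    have hsum : ∑ x, F x = 1 := by
      rw [← Finset.sum_filter_of_ne (s := Finset.univ)
          (p := fun x => x ∈ centralizer (zpowers D.t : Set G))
          (fun x _ hx => by_contra fun h => hx (dif_neg h)),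
        Finset.sum_subtype (p := fun x => x ∈ centralizer (zpowers D.t : Set G)) _ fun x => by simp]
      have h1 := omega_blockElem f (linIrr lH)
      rw [if_pos (show linIrr lH ∈ f from self_mem_blockOf hM _), omega, chiLin] at h1
      rw [← h1]
      simp only [linIrr_apply, map_one, Units.val_one, div_one, coeff_blockElem]
      exact Finset.sum_congr rfl fun x _ => dif_pos x.2
    have h2 := H82.memLocalIdeal_sum_sub_sum_centralizer hM hS2 hFr hFi
    rw [hsum] at h2
    have h3 : brauerOmega S (subgroupBlockCoeff (centralizer (zpowers D.t : Set G)) f)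
        ((linIrr lS : IrrCharacter ↥(centralizer (S : Set G))) : ↥(centralizer (S : Set G)) → ℂ) =
        ∑ c : ↥(centralizer (S : Set G)), F c := by
      rw [brauerOmega, finsum_eq_sum_of_fintype]
      refine Finset.sum_congr rfl fun c _ => ?_
      simp only [linIrr_apply, map_one, Units.val_one, div_one, subgroupBlockCoeff, hF,
        dif_pos (hCS c.2)]
      rfl
    have h4 := H82.brOmega_congr_mem hM hSe.2 hξ (self_mem_blockOf hM (linIrr lS : IrrCharacter _))
      (H82.isInvElt_blockUp_centralizer hTS f) (H82.isIntElt_blockUp hM hfB)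
    have e2 : ∀ ξ' : ↥(centralizer (S : Set G)) → ℂ,
        H82.brOmega S ξ' (H82.blockUp (centralizer (zpowers D.t : Set G)) f) =
        brauerOmega S (subgroupBlockCoeff (centralizer (zpowers D.t : Set G)) f) ξ' := fun ξ' => by
      rw [H82.brOmega, funext (H82.coeff_blockUp _ f)]
    rw [e2, e2, h3] at h4
    have := memLocalIdeal_sub hM h4 h2
    convert this using 1
    ring
  have hfp : IsBrauerPairOf 2 M B (zpowers D.t) f := H82.Star.pairsAt_of_induced hM hl.2.1 hu hl
  have hbp : IsBrauerPairOf 2 M B (zpowers D.t) b := H82.Star.pairsAt_of_induced hM hb.2.1 hu hb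
  have hSp : IsBrauerPairOf 2 M B S e := H82.Dih.isBrauerPairOf_of_normal hM hfp hnorm
  have hmax : IsMaximalBrauerPair 2 M B S e := H82.isMaximal_of_card hM hSp
    ((Nat.pow_le_pow_right (by norm_num) (Nat.sub_le _ _)).trans hScard)
  obtain ⟨x, hx⟩ := H82.exists_conj_le hM hmax hbp
  have hxs : x * D.t * x⁻¹ ∈ S :=
    H82.le_of_reflTransGen hx ⟨D.t, mem_zpowers _, rfl⟩
  obtain ⟨n, hn, hnt, hnl⟩ := hfus _ hxs
    ((MulEquiv.orderOf_eq (MulAut.conj x) D.t).trans ht2)
  have hstab : H82.conjPair n ⟨S, e⟩ = ⟨S, e⟩ := by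
    rw [H82.conjPair_of_normalizes e hn]
    have hnC := H82.normalizer_le_normalizer_centralizer S hn
    have hblk : IsPBlock M (H82.conjSet (centralizer (S : Set G)) n e) :=
      H82.isPBlock_conjSet hnC hSe.2
    have hgoal : H82.conjSet (centralizer (S : Set G)) n e = e := by
      rw [H82.conjSet_eq hnC]
      rw [H82.conjSet_eq hnC] at hblk
      refine isPBlock_eq_of_mem hM hblk hSe.2
        (Set.mem_image_of_mem _ (self_mem_blockOf hM (linIrr lS : IrrCharacter _))) ?_
      refine sameBlock_of_eq_on_regular hM lS (by simp [H83.irrComp_apply]) fun g hg => ?_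
      rw [H83.irrComp_apply, linIrr_apply]
      have hodd : ∀ c : ↥(centralizer (S : Set G)), ¬ 2 ∣ orderOf c →
          ∃ a : L, Odd (orderOf a) ∧ D.emb (1, a) = (c : G) ∧ lS c = l a := by
        intro c hc
        have hc' : ¬ 2 ∣ orderOf (Subgroup.inclusion hCS c) := by
          rwa [orderOf_injective _ (Subgroup.inclusion_injective hCS)]
        refine ⟨proj D (Subgroup.inclusion hCS c),
          Nat.odd_iff.2 (Nat.two_dvd_ne_zero.1 ((regular_iff D).1 hc').2), ?_, rfl⟩
        rw [← sec_coe]
        conv_rhs => rw [show (c : G) = ((Subgroup.inclusion hCS c :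
          ↥(centralizer (zpowers D.t : Set G))) : G) from rfl, eq_sec_mul D (Subgroup.inclusion hCS c),
          ((regular_iff D).1 hc').1]
        simp [show ((1, 1) : Multiplicative (ZMod 2) × L) = 1 from rfl]
      obtain ⟨a, ha, hae, hal⟩ := hodd ((H82.nconj hnC).symm g) (by
        rwa [MulEquiv.orderOf_eq (H82.nconj hnC).symm g])
      obtain ⟨b', -, hbe, hbl⟩ := hodd g hg
      rw [hal, hbl, hnl a b' ha (hae ▸ ((H82.nconj hnC).symm g).2) ?_]
      rw [hbe, hae, ← H82.nconj_apply hnC, MulEquiv.apply_symm_apply]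
    rw [hgoal]
  have hy : H82.conjPair (n⁻¹ * x) ⟨zpowers D.t, b⟩ = ⟨zpowers D.t, b⟩ := by
    refine H82.conjPair_of_centralizes b ?_
    rw [centralizer_zpowers_t, mem_centralizer_singleton_iff]
    calc n⁻¹ * x * D.t = n⁻¹ * (x * D.t * x⁻¹) * x := by group
      _ = D.t * (n⁻¹ * x) := by rw [← hnt]; group
  have h5 := H82.subpairLE_conjPair hM n⁻¹ hx
  have h6 : H82.conjPair n⁻¹ ⟨S, e⟩ = ⟨S, e⟩ := by
    conv_lhs => rw [← hstab, H82.conjPair_inv]
  rw [h6] at h5
  change Relation.ReflTransGen _ (H82.conjPair n⁻¹ (H82.conjPair x ⟨zpowers D.t, b⟩)) _ at h5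
  rw [← H82.conjPair_mul, hy] at h5
  exact H82.subpair_unique hM hSe h5 (Relation.ReflTransGen.single hnorm)

end Cfsg.Agent.H28.TypeR.Blocks
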