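import Cfsg.Agent.Cores.PrincipalLambda
import Cfsg.Agent.CharInduce.CoprimeExt
import Cfsg.Agent.CharBasic.Integral

/-!
# Blocks twisted by a linear character

A linear character permutes the blocks; the block of `l` consists of `l` times the principal block.
-/

set_option autoImplicit false
set_option linter.style.haveILetI false
set_option linter.unusedSectionVars false

namespace Cfsg.Agent.H28.TypeR.Blocks

open Cfsg Cfsg.Agent Cfsg.Agent.BlockBasic Cfsg.Agent.CharBasic Cfsg.Agent.CharInduce

universe u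

variable {K : Type u} [Group K]

/-- A linear character as an irreducible character. -/
noncomputable def linIrr [Finite K] (l : K →* ℂˣ) : IrrCharacter K :=
  ⟨fun g => (l g : ℂ), by
    cases nonempty_fintype K
    exact CharInduce.isIrrCharacter_hom l⟩

@[simp] theorem linIrr_apply [Finite K] (l : K →* ℂˣ) (g : K) :
    ((linIrr l : IrrCharacter K) : K → ℂ) g = (l g : ℂ) := rfl

/-- An irreducible character times a linear one. -/
noncomputable def mulIrr [Finite K] (l : K →* ℂˣ) (χ : IrrCharacter K) : IrrCharacter K :=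
  ⟨fun g => (l g : ℂ) * (χ : K → ℂ) g, by
    cases nonempty_fintype K
    exact isIrr_hom_mul χ.2 l⟩

@[simp] theorem mulIrr_apply [Finite K] (l : K →* ℂˣ) (χ : IrrCharacter K) (g : K) :
    ((mulIrr l χ : IrrCharacter K) : K → ℂ) g = (l g : ℂ) * (χ : K → ℂ) g := rfl

theorem isIntegral_hom [Finite K] (l : K →* ℂˣ) (g : K) : IsIntegral ℤ (l g : ℂ) :=
  BlockBasic.isIntegral_apply (linIrr l) g

theorem centralChar_hom_mul (l : K →* ℂˣ) (χ : K → ℂ) (g : K) :
    centralChar (fun x => (l x : ℂ) * χ x) g = (l g : ℂ) * centralChar χ g := by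
  simp only [centralChar, map_one, Units.val_one, one_mul]
  ring

variable {p : ℕ} {M : Ideal AlgInt}

/-- Multiplication by a linear character respects the blocks. -/
theorem sameBlock_hom_mul [Finite K] (hM : IsPModular p M) (l : K →* ℂˣ) {χ ψ : K → ℂ}
    (h : SameBlock M χ ψ) :
    SameBlock M (fun x => (l x : ℂ) * χ x) (fun x => (l x : ℂ) * ψ x) := fun g => by
  rw [centralChar_hom_mul, centralChar_hom_mul, ← mul_sub]
  exact memLocalIdeal_mul hM (memLocalRing_of_isIntegral hM (isIntegral_hom l g)) (h g)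

/-- The block of a linear character. -/
theorem mem_blockOf_linIrr_iff [Finite K] (hM : IsPModular p M) (l : K →* ℂˣ)
    (ψ : IrrCharacter K) :
    ψ ∈ blockOf M ((linIrr l : IrrCharacter K) : K → ℂ) ↔
      mulIrr l⁻¹ ψ ∈ principalBlock M K := by
  have e1 : (fun x => ((l⁻¹ : K →* ℂˣ) x : ℂ) * (l x : ℂ)) = fun _ => (1 : ℂ) := funext fun x => by
    simp
  have e2 : (fun x => (l x : ℂ) * (mulIrr l⁻¹ ψ : K → ℂ) x) = (ψ : K → ℂ) := funext fun x => by
    simp
  constructor
  · intro h
    have h1 := sameBlock_hom_mul hM l⁻¹ (show SameBlock M (fun x => (l x : ℂ)) (ψ : K → ℂ) from h)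
    rw [e1] at h1
    exact h1
  · intro h
    have h1 := sameBlock_hom_mul hM l
      (show SameBlock M (fun _ => (1 : ℂ)) (mulIrr l⁻¹ ψ : K → ℂ) from h)
    rw [e2] at h1
    simp only [mul_one] at h1
    exact h1

/-- Two linear characters equal on `p`-regular elements lie in one block. -/
theorem sameBlock_of_eq_on_regular [Finite K] [Fact p.Prime] (hM : IsPModular p M) (l : K →* ℂˣ)
    {ψ : IrrCharacter K} (h1 : (ψ : K → ℂ) 1 = 1)
    (h : ∀ g : K, ¬ p ∣ orderOf g → (ψ : K → ℂ) g = (l g : ℂ)) :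
    SameBlock M ((linIrr l : IrrCharacter K) : K → ℂ) (ψ : K → ℂ) := by
  refine sameBlock_of_congr_regular hM fun g hg => ?_
  simp only [centralChar, h1, h g hg, linIrr_apply, map_one, Units.val_one, sub_self]
  exact memLocalIdeal_zero hM

/-- An irreducible character at a central involution times an element. -/
theorem exists_sign_of_central [Finite K] {z : K} (hz : z ∈ Subgroup.center K) (hz2 : z * z = 1)
    (ψ : IrrCharacter K) :
    ∃ ω : ℂ, ω * ω = 1 ∧ (∀ g, (ψ : K → ℂ) (g * z) = ω * (ψ : K → ℂ) g) ∧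
      (starRingEnd ℂ) ω = ω := by
  cases nonempty_fintype K
  obtain ⟨n, ρ, hρ, he⟩ := ψ.2
  haveI := hρ
  obtain ⟨ω, -, -, hω⟩ := CharBasic.exists_central_scalar ρ hz
  have he' : ∀ g, (ψ : K → ℂ) g = ρ.character g := fun g => (congrFun he g).symm
  simp only [he']
  have h2 : ω * ω = 1 := by
    have e := hω z
    rw [hz2] at e
    have e1 := hω 1
    rw [one_mul] at e1
    rw [e1, ← mul_assoc] at e
    exact mul_right_cancel₀ (b := ρ.character 1) (by
      rw [← he']; exact irr_one_ne_zero ψ.2) (by rw [one_mul]; exact e.symm)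
  refine ⟨ω, h2, hω, ?_⟩
  rcases mul_self_eq_one_iff.1 h2 with rfl | rfl <;> simp

end Cfsg.Agent.H28.TypeR.Blocks
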