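import Cfsg.Agent.H28.TypeR.Block
import Cfsg.Agent.H22.Ward.PairArith

/-!
# The numbers behind one lattice

With `k = f (Q (Q² - 1))² / N`, `N = I f Q (Q² - 1)` and every degree of a row of the lattice
dividing `I` times the value at `t`: the pair case is impossible, the main case gives
`I = Q² (Q² - Q + 1)`, so `N = f Q³ (Q³ + 1) (Q - 1)`, and then every other lattice has a row of
degree one.
-/

set_option autoImplicit false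
set_option linter.unusedSectionVars false

namespace Cfsg.Agent.H28.TypeR.Block

variable {ι : Type*} [Fintype ι] (D : Block ι) {f I N m : ℤ}

/-- `k I = Q (Q² - 1)`. -/
theorem k_mul_index (hf : 0 < f) (hI : 0 < I) (hN : N = I * f * D.Q * (D.Q ^ 2 - 1))
    (hk : D.k = (f : ℚ) * ((D.Q : ℚ) * ((D.Q : ℚ) ^ 2 - 1)) ^ 2 / (N : ℚ)) :
    D.k * (I : ℚ) = (D.Q : ℚ) * ((D.Q : ℚ) ^ 2 - 1) := by
  have hQ := D.hQ
  have hh := D.hh
  have h1 : (D.Q : ℚ) ≠ 0 := by exact_mod_cast (by omega : D.Q ≠ 0)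
  have h2 : (D.Q : ℚ) ^ 2 - 1 ≠ 0 := by
    have : D.Q ^ 2 - 1 ≠ 0 := by rcases hh with h | h <;> nlinarith
    exact_mod_cast this
  have h3 : (f : ℚ) ≠ 0 := by exact_mod_cast hf.ne'
  have h4 : (I : ℚ) ≠ 0 := by exact_mod_cast hI.ne'
  rw [hk, hN]
  push_cast
  field_simp

/-- **The main case gives the index.** -/
theorem main_order (hf : 0 < f) (hI : 0 < I) (hN : N = I * f * D.Q * (D.Q ^ 2 - 1))
    (hk : D.k = (f : ℚ) * ((D.Q : ℚ) * ((D.Q : ℚ) ^ 2 - 1)) ^ 2 / (N : ℚ)) (hM : D.Main) :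
    I = D.Q ^ 2 * (D.Q ^ 2 - D.Q + 1) ∧ N = f * D.Q ^ 3 * (D.Q ^ 3 + 1) * (D.Q - 1) := by
  have h := D.k_mul_index hf hI hN hk
  have h2 : (D.Q : ℚ) ^ 2 - 1 ≠ 0 := by
    have : D.Q ^ 2 - 1 ≠ 0 := by
      have := D.hQ
      rcases D.hh with h | h <;> nlinarith
    exact_mod_cast this
  have hI' : I = D.Q ^ 2 * (D.Q ^ 2 - D.Q + 1) := by
    have e : ((D.Q : ℚ) ^ 2 - 1) * ((I : ℚ) - (D.Q : ℚ) ^ 2 * ((D.Q : ℚ) ^ 2 - D.Q + 1)) = 0 := by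
      have hM' : D.k * ((D.Q : ℚ) * ((D.Q : ℚ) ^ 2 - D.Q + 1)) = (D.Q : ℚ) ^ 2 - 1 := hM
      linear_combination (-(I : ℚ)) * hM' + ((D.Q : ℚ) * ((D.Q : ℚ) ^ 2 - D.Q + 1)) * h
    have := sub_eq_zero.1 ((mul_eq_zero.1 e).resolve_left h2)
    exact_mod_cast this
  exact ⟨hI', by rw [hN, hI']; ring⟩

/-- **The pair case is impossible.** -/
theorem pair_false (r : ℕ) (hr : Odd r) (hr3 : 3 ≤ r) (hQ : D.Q = 3 ^ r) (hm : 4 * m = D.Q + 1)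
    (hf : 0 < f) (hI : 0 < I) (hN : N = I * f * D.Q * (D.Q ^ 2 - 1))
    (hk : D.k = (f : ℚ) * ((D.Q : ℚ) * ((D.Q : ℚ) ^ 2 - 1)) ^ 2 / (N : ℚ))
    (hdvd : ∀ x, D.In x → D.deg x ∣ I * D.tval x)
    (hlow : 2 * (m - 1) * (D.Q * (D.Q ^ 2 - 1)) ^ 2 * f ≤ 3 * N) : ¬ D.Pair m := by
  rintro ⟨A, B, C, -, -, -, hsum, hA1, hE, hkB, hA8, hAm, hCm, hB8, x, hx, hxA, hxt⟩
  have hh := D.hQ
  have h := D.k_mul_index hf hI hN hk
  have h2 : (D.Q : ℚ) ^ 2 - 1 ≠ 0 := by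
    have : D.Q ^ 2 - 1 ≠ 0 := by rcases D.hh with h | h <;> nlinarith
    exact_mod_cast this
  have hIB : I * (D.Q - 1) = 2 * D.Q ^ 2 * -B := by
    have e : ((D.Q : ℚ) ^ 2 - 1) *
        ((I : ℚ) * ((D.Q : ℚ) - 1) - 2 * (D.Q : ℚ) ^ 2 * -(B : ℚ)) = 0 := by
      linear_combination (-(I : ℚ)) * hkB + ((D.Q : ℚ) * (-2 * (B : ℚ))) * h
    have := sub_eq_zero.1 ((mul_eq_zero.1 e).resolve_left h2)
    exact_mod_cast this
  have hpos : 0 < D.Q * (D.Q ^ 2 - 1) := by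
    have h27 : (27 : ℤ) ≤ D.Q := hQ ▸ le_trans (by norm_num) (pow_le_pow_right₀ (by norm_num) hr3)
    have : (1 : ℤ) < D.Q ^ 2 := by nlinarith
    exact mul_pos (by omega) (by omega)
  refine H22.Ward.no_pair r hr hr3 D.h m A B C (I * (D.Q * (D.Q ^ 2 - 1))) (hQ ▸ hm) (by omega)
    hsum hA1 ?_ (mul_pos hI hpos) hE hA8 hAm hCm hB8 ?_ ?_ ?_
  · rw [← hQ]
    linear_combination D.Q * (D.Q + 1) * hIB
  · have hd : D.deg x ∣ I := by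
      have := hdvd x hx
      rcases hxt with e | e <;> rw [e] at this
      · rwa [mul_one] at this
      · rwa [mul_neg_one, dvd_neg] at this
    refine dvd_mul_of_dvd_left ?_ _
    rcases hxA with e | e <;> rw [e]
    · exact hd
    · exact neg_dvd.2 hd
  · exact ⟨I * D.Q * 2 * (D.Q + 1), by rw [show D.Q = 2 * D.h + 1 from D.hQ]; ring⟩
  · rw [← hQ]
    refine le_of_mul_le_mul_right ?_ hf
    calc 2 * (m - 1) * (D.Q * (D.Q ^ 2 - 1)) ^ 2 * f ≤ 3 * N := hlow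
      _ = 3 * (I * (D.Q * (D.Q ^ 2 - 1))) * f := by rw [hN]; ring

/-- **The principal lattice is in the main case.** -/
theorem principal_finish (r : ℕ) (hr : Odd r) (hr3 : 3 ≤ r) (hQ : D.Q = 3 ^ r)
    (hm : 4 * m = D.Q + 1) (hf : 0 < f) (hI : 0 < I) (hN : N = I * f * D.Q * (D.Q ^ 2 - 1))
    (hk : D.k = (f : ℚ) * ((D.Q : ℚ) * ((D.Q : ℚ) ^ 2 - 1)) ^ 2 / (N : ℚ))
    (hdvd : ∀ x, D.In x → D.deg x ∣ I * D.tval x)
    (hlow : 2 * (m - 1) * (D.Q * (D.Q ^ 2 - 1)) ^ 2 * f ≤ 3 * N) (h : D.Main ∨ D.Pair m) :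
    D.Main ∧ I = D.Q ^ 2 * (D.Q ^ 2 - D.Q + 1) ∧ N = f * D.Q ^ 3 * (D.Q ^ 3 + 1) * (D.Q - 1) := by
  have hM := h.resolve_right (D.pair_false r hr hr3 hQ hm hf hI hN hk hdvd hlow)
  exact ⟨hM, D.main_order hf hI hN hk hM⟩

/-- **In the main case a twisted lattice has a row of degree one.** -/
theorem twisted_finish (hM : D.Main) (hI' : I = D.Q ^ 2 * (D.Q ^ 2 - D.Q + 1))
    (hm : 4 * m = D.Q + 1) (hmo : Odd m) (h13 : 13 ≤ D.h)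
    (h8 : ∀ x, D.In x → 8 ∣ D.deg x - D.tval x)
    (hV : ∀ x, D.In x → D.H 0 x = 0 → m ∣ D.deg x - D.aS x)
    (hdvd : ∀ x, D.In x → D.deg x ∣ I * D.tval x) :
    ∃ x, D.In x ∧ (D.deg x = 1 ∨ D.deg x = -1) :=
  D.twisted hM m (by have := D.hQ; omega) hmo h13 h8 hV fun x hx => hI' ▸ hdvd x hx

end Cfsg.Agent.H28.TypeR.Block
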