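import Cfsg.Agent.H28.TypeR.PreExists
import Cfsg.Agent.H28.TypeR.ESide

/-!
# The abstract `E` and `C(t) = 2 × E` of a `Data` with a `Pre`
-/

set_option autoImplicit false
set_option linter.unusedSectionVars false
set_option linter.style.haveILetI false

namespace Cfsg.Agent.H28.TypeR

open Subgroup Cfsg.Agent
open Cfsg.Agent.H84.Ward (TData tu)

universe u

variable {G : Type u} [Group G] [Finite G] {F : Type} [Field F] [Fintype F] (D : Data G F)

namespace Data

/-- `(σ, e) ↦ t^σ e`. -/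
def sectionHom : Multiplicative (ZMod 2) × ↥D.E →* ↥(centralizer ({D.t} : Set G)) where
  toFun x := ⟨(if x.1 = tu then D.t else 1) * (x.2 : G), mul_mem (by
      split_ifs
      · exact mem_centralizer_singleton_iff.2 rfl
      · exact one_mem _) (D.mem_cent_of_E x.2.2)⟩
  map_one' := Subtype.ext (by
    show (if (1 : Multiplicative (ZMod 2)) = tu then D.t else 1) * (1 : G) = 1
    rw [if_neg H84.Ward.tu_ne_one.symm, mul_one])
  map_mul' x y := Subtype.ext (by
    obtain ⟨a, k⟩ := x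
    obtain ⟨b, l⟩ := y
    have hc := D.t_commute k.2
    show (if a * b = tu then D.t else 1) * ((k : G) * l) =
      (if a = tu then D.t else 1) * (k : G) * ((if b = tu then D.t else 1) * (l : G))
    rcases H84.Ward.z2_cases a with rfl | rfl <;> rcases H84.Ward.z2_cases b with rfl | rfl <;>
      simp only [one_mul, mul_one, H84.Ward.tu_mul_self, if_neg H84.Ward.tu_ne_one.symm, if_true]
    · rw [← mul_assoc (k : G), ← hc.eq, mul_assoc]
    · rw [mul_assoc]
    · rw [← mul_assoc (D.t * (k : G)), mul_assoc D.t (k : G) D.t, ← hc.eq, ← mul_assoc D.t D.t,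
        D.t_sq, one_mul])

theorem coe_sectionHom (x : Multiplicative (ZMod 2) × ↥D.E) :
    ((D.sectionHom x : ↥(centralizer ({D.t} : Set G))) : G) =
      (if x.1 = tu then D.t else 1) * (x.2 : G) := rfl

theorem sectionHom_bijective : Function.Bijective D.sectionHom := by
  refine ⟨(injective_iff_map_eq_one _).2 fun x hx => ?_, fun z => ?_⟩
  · have h := congrArg Subtype.val hx
    rw [D.coe_sectionHom] at h
    obtain ⟨a, k⟩ := x
    rcases H84.Ward.z2_cases a with rfl | rfl
    · refine Prod.ext rfl (Subtype.ext ?_)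
      simpa [H84.Ward.tu_ne_one.symm] using h
    · simp only [if_true] at h
      refine absurd ?_ D.t_notMem_E
      rw [eq_inv_of_mul_eq_one_left h]
      exact inv_mem k.2
  · obtain ⟨σ, hσ, a, y, hy, e⟩ := D.decompC z.2
    have hm : D.ψ a * y ∈ D.E := mul_mem (D.range_le ⟨a, rfl⟩) (D.Fo_le hy)
    rcases D.sigma_cases hσ with rfl | rfl
    · refine ⟨(1, ⟨_, hm⟩), Subtype.ext ?_⟩
      rw [D.coe_sectionHom, if_neg H84.Ward.tu_ne_one.symm, e]
    · refine ⟨(tu, ⟨_, hm⟩), Subtype.ext ?_⟩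
      rw [D.coe_sectionHom, if_pos rfl, e]

/-- `C(t) = ⟨t⟩ × E`. -/
noncomputable def tdata : TData G ↥D.E where
  t := D.t
  e := (MulEquiv.ofBijective D.sectionHom D.sectionHom_bijective).symm
  et := by
    show ((D.sectionHom (tu, 1) : ↥(centralizer ({D.t} : Set G))) : G) = D.t
    rw [D.coe_sectionHom, if_pos rfl, OneMemClass.coe_one, mul_one]

@[simp] theorem tdata_t : D.tdata.t = D.t := rfl

theorem tdata_emb (a : ↥D.E) : D.tdata.emb (1, a) = (a : G) := by
  show ((D.sectionHom (1, a) : ↥(centralizer ({D.t} : Set G))) : G) = a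
  rw [D.coe_sectionHom, if_neg H84.Ward.tu_ne_one.symm, one_mul]

theorem psi_range_normal : (D.ψ.range.subgroupOf D.E).Normal := by
  refine ⟨fun x hx g => ?_⟩
  obtain ⟨a, y, hy, e⟩ := D.decompE g.2
  have h := D.psi_conj_mem hy (g := (x : G)) hx
  show (g : G) * (x : G) * (g : G)⁻¹ ∈ D.ψ.range
  rw [e, show D.ψ a * y * (x : G) * (D.ψ a * y)⁻¹ = D.ψ a * (y * (x : G) * y⁻¹) * (D.ψ a)⁻¹ by
    group]
  exact mul_mem (mul_mem ⟨a, rfl⟩ h) (inv_mem ⟨a, rfl⟩)

end Data

variable {D}

/-- `E` as an `EData`, the torus being the one of `P`. -/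
noncomputable def Pre.eData (P : Pre D) (R : Route D) : H15.WardE.EData ↥D.E F where
  E0 := D.ψ.range.subgroupOf D.E
  normal := D.psi_range_normal
  tori := P.tori
  h3 := by
    obtain ⟨m, ⟨j, rfl⟩, hm⟩ := R.three
    rw [hm, pow_succ, pow_mul, Nat.mul_mod, Nat.pow_mod]; norm_num
  e := (Subgroup.subgroupOfEquivOfLe D.range_le).trans (MonoidHom.ofInjective D.psi_inj).symm
  Phi := D.Fo.subgroupOf D.E
  cyc := by
    haveI := D.isCyclic
    exact isCyclic_of_surjective _ (Subgroup.subgroupOfEquivOfLe D.Fo_le).symm.surjective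
  odd := by rw [Nat.card_congr (Subgroup.subgroupOfEquivOfLe D.Fo_le).toEquiv]; exact D.Fo_odd
  cop := by
    rw [Nat.card_congr (Subgroup.subgroupOfEquivOfLe D.Fo_le).toEquiv,
      Nat.card_congr ((Subgroup.subgroupOfEquivOfLe D.range_le).trans
        (MonoidHom.ofInjective D.psi_inj).symm).toEquiv]
    exact R.coprime
  top := by rw [← Subgroup.subgroupOf_sup D.range_le D.Fo_le, D.Fo_sup, Subgroup.subgroupOf_self]
  comm_v y hy := by
    refine mul_inv_eq_iff_eq_mul.1 (Subtype.ext ?_)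
    show (y : G) * D.ψ P.tori.v * (y : G)⁻¹ = D.ψ P.tori.v
    rw [D.conj ⟨y, hy⟩, P.tori_v, P.base.fix_v]
  norm_T y hy t ht := by
    refine ⟨fieldAut (D.σ ⟨y, hy⟩) t, ?_, Subtype.ext (D.conj ⟨y, hy⟩ t)⟩
    obtain ⟨h1, h2⟩ := (P.tori_mem t).1 ht
    refine (P.tori_mem _).2 ⟨?_, by rwa [MulEquiv.orderOf_eq]⟩
    have h := h1.map (fieldAut (D.σ ⟨y, hy⟩)).toMonoidHom
    simp only [MulEquiv.coe_toMonoidHom, P.base.fix_v] at h
    exact h

namespace Pre

variable (P : Pre D) (R : Route D)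

theorem eData_ι (x : P2 F) : (((P.eData R).ι x : ↥D.E) : G) = D.ψ x := rfl

theorem eData_Phi : (P.eData R).Phi.map D.E.subtype = D.Fo :=
  (Subgroup.subgroupOf_map_subtype _ _).trans (inf_eq_left.2 D.Fo_le)

theorem eData_T0 : (P.eData R).T0.map D.E.subtype = P.T0 := by
  rw [H15.WardE.EData.T0, Subgroup.map_map]
  exact congrArg (Subgroup.map · P.tori.K) (MonoidHom.ext fun x => P.eData_ι R x)

theorem eData_K : (P.eData R).K.map D.E.subtype = P.K := by
  rw [H15.WardE.EData.K, Subgroup.map_sup, P.eData_T0, P.eData_Phi]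
  rfl

theorem card_eData_Phi : Nat.card ↥(P.eData R).Phi = Nat.card ↥D.Fo :=
  Nat.card_congr (Subgroup.subgroupOfEquivOfLe D.Fo_le).toEquiv

theorem card_T0 : Nat.card ↥P.T0 = Nat.card ↥P.tori.K :=
  (Nat.card_congr (P.tori.K.equivMapOfInjective D.ψ D.psi_inj).toEquiv).symm

theorem card_eData_T0 : Nat.card ↥(P.eData R).T0 = Nat.card ↥P.T0 :=
  (P.eData R).card_T0.trans P.card_T0.symm

include R in
theorem four_card_T0 : 4 * Nat.card ↥P.T0 = Fintype.card F + 1 :=
  P.card_T0 ▸ P.tori.card_K3 (P.eData R).h3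

include P R in
theorem card_E : Nat.card ↥D.E = Nat.card ↥D.Fo * Nat.card (P2 F) := by
  rw [H15.WardE.EData.card_eq (P.eData R), P.card_eData_Phi]
  exact congrArg _ (Nat.card_congr (P.eData R).e.toEquiv)

/-- The four characters of `E`. -/
theorem exists_eSide [Fintype ↥D.E] [Fintype (P2 F)] :
    ∃ c : Fin 4 → Cfsg.IrrCharacter ↥D.E, H15.WardE.ESide (P.eData R) c :=
  TypeR.exists_eSide _

end Pre

end Cfsg.Agent.H28.TypeR
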