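import Cfsg.Agent.H28.TypeR.BlockGlue
import Cfsg.Agent.H28.TypeR.BlockMain
import Cfsg.Agent.H97.TypeR.FieldFused
import Cfsg.Agent.BlockBasic.Local

/-!
# `BlockInput` from the setting of type R and an extended torus

The twists are read on `Fo` and extended to `E` through the projection `E → Fo`; the Sylow subgroup
is `⟨t⟩ × V`.
-/

set_option autoImplicit false
set_option linter.unusedSectionVars false
set_option linter.style.haveILetI false

namespace Cfsg.Agent.H28.TypeR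

open Subgroup Cfsg Cfsg.Agent Cfsg.Agent.BlockBasic
open Cfsg.Agent.H84.Ward (TData VanEven tu)
open Cfsg.Agent.H15.WardE (EData ESide)
open Cfsg.Agent.H40.WardE (ExtPair Twists)

universe u w

namespace Data

variable {G : Type u} [Group G] [Finite G] {F : Type} [Field F] [Fintype F] (D : Data G F)

theorem proj_unique {a b : P2 F} {y z : G} (hy : y ∈ D.Fo) (hz : z ∈ D.Fo)
    (h : D.ψ a * y = D.ψ b * z) : y = z := by
  have e : z * y⁻¹ = (D.ψ b)⁻¹ * D.ψ a := by
    calc z * y⁻¹ = (D.ψ b)⁻¹ * (D.ψ b * z) * y⁻¹ := by group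
      _ = _ := by rw [← h]; group
  exact (mul_inv_eq_one.1 (D.range_psi_inf (mul_mem hz (inv_mem hy))
    ⟨b⁻¹ * a, by rw [map_mul, map_inv, e]⟩)).symm

/-- The projection `E → Fo`. -/
noncomputable def projFo : ↥D.E →* ↥D.Fo where
  toFun x := ⟨(D.exists_psi_mul x.2).choose_spec.choose,
    (D.exists_psi_mul x.2).choose_spec.choose_spec.1⟩
  map_one' := Subtype.ext (D.proj_unique (a := (D.exists_psi_mul (1 : ↥D.E).2).choose) (b := 1)
    (D.exists_psi_mul (1 : ↥D.E).2).choose_spec.choose_spec.1 (one_mem _)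
    ((D.exists_psi_mul (1 : ↥D.E).2).choose_spec.choose_spec.2.symm.trans (by simp)))
  map_mul' x x' := Subtype.ext (by
    obtain ⟨hy, e⟩ := (D.exists_psi_mul x.2).choose_spec.choose_spec
    obtain ⟨hy', e'⟩ := (D.exists_psi_mul x'.2).choose_spec.choose_spec
    obtain ⟨hy'', e''⟩ := (D.exists_psi_mul (x * x').2).choose_spec.choose_spec
    set a := (D.exists_psi_mul x.2).choose
    set a' := (D.exists_psi_mul x'.2).choose
    set y := (D.exists_psi_mul x.2).choose_spec.choose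
    set y' := (D.exists_psi_mul x'.2).choose_spec.choose
    refine D.proj_unique (b := a * fieldAut (D.σ ⟨y, hy⟩) a') hy'' (mul_mem hy hy')
      (e''.symm.trans ?_)
    show (x : G) * (x' : G) = _ * (y * y')
    rw [map_mul, ← D.conj ⟨y, hy⟩ a', e, e']
    simp only [a, a']
    group)

theorem projFo_apply {x : ↥D.E} {a : P2 F} {y : G} (hy : y ∈ D.Fo) (h : (x : G) = D.ψ a * y) :
    (D.projFo x : G) = y :=
  D.proj_unique (D.exists_psi_mul x.2).choose_spec.choose_spec.1 hy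
    ((D.exists_psi_mul x.2).choose_spec.choose_spec.2.symm.trans h)

theorem syl_hyps [Fintype G] {L : Type w} [Group L] (T : TData G L) (hT : T.t = D.t) :
    IsPGroup 2 D.syl ∧ 2 ^ (Nat.card G).factorization 2 ≤ Nat.card D.syl ∧
      (∀ a ∈ D.syl, ∀ b ∈ D.syl, a * b = b * a) ∧ T.t ∈ D.syl :=
  ⟨D.isPGroup_syl, D.two_pow_le_card_syl, fun _ ha _ hb => (D.commute_syl ha hb).eq,
    hT ▸ D.t_mem_syl⟩

theorem isConj_t {L : Type w} [Group L] (T : TData G L) (hT : T.t = D.t) {r : G} (h : r * r = 1)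
    (h1 : r ≠ 1) : IsConj T.t r := by
  rw [hT]
  exact D.conj_invol _ _ D.invol (orderOf_eq_prime (by rw [pow_two, h]) h1)

end Data

section Main

variable {G : Type u} [Group G] [Fintype G] {F : Type} [Field F] [Fintype F] {D : Data G F}
  [Fintype ↥D.E] {T : TData G ↥D.E} {P : ExtPair G} {Λ : Type w} [Fintype Λ] {S : Twists P Λ}

/-- A twist on `Fo`, extended to `E`. -/
noncomputable def twistExt (S : Twists P Λ) (hFoK : D.Fo ≤ P.K) (l : Λ) : ↥D.E →* ℂˣ :=
  ((S.tw l).comp (Subgroup.inclusion hFoK)).comp D.projFo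

theorem twistExt_apply (hFoK : D.Fo ≤ P.K)
    (hT0 : ∀ k : ↥P.K, k ∈ S.T0 → (k : G) ∈ D.ψ.range)
    (hSFo : ∀ k : ↥P.K, k ∈ S.Fo ↔ (k : G) ∈ D.Fo) {x : ↥D.E} {k : ↥P.K}
    (h : (x : G) = (k : G)) (l : Λ) : twistExt S hFoK l x = S.tw l k := by
  obtain ⟨t, ht, z, hz, rfl⟩ := S.exists_eq k
  obtain ⟨a, ha⟩ := hT0 t ht
  have hp : Subgroup.inclusion hFoK (D.projFo x) = z := Subtype.ext
    (D.projFo_apply ((hSFo z).1 hz) (by rw [h, ha]; rfl))
  show S.tw l (Subgroup.inclusion hFoK (D.projFo x)) = _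
  rw [hp, map_mul, S.tw_T0 l t ht, one_mul]

/-- The input of the lattices. -/
theorem exists_blockInput [Fintype (P2 F)] (hTt : T.t = D.t)
    (hTe : ∀ a : ↥D.E, T.emb (1, a) = (a : G))
    (ED : EData ↥D.E F) (hK : ED.K.map D.E.subtype = P.K)
    (hPhi : ED.Phi.map D.E.subtype = D.Fo)
    (hFoK : D.Fo ≤ P.K) (hT0 : ∀ k : ↥P.K, k ∈ S.T0 → (k : G) ∈ D.ψ.range)
    (hSFo : ∀ k : ↥P.K, k ∈ S.Fo ↔ (k : G) ∈ D.Fo)
    (hfix : ∀ j, ∀ z ∈ S.Fo, P.actK j z = z) (hinv : ∀ k, P.Inv k ↔ k ∈ S.T0) (x0 : ↥P.W)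
    (hx0 : (x0 : G) = D.t) (hΛ : Fintype.card Λ = Nat.card ↥D.Fo)
    (hcard : Nat.card ↥S.T0 = Nat.card ↥ED.T0) :
    ∃ I : BlockInput T S, I.el = twistExt S hFoK ∧ I.Q = (Fintype.card F : ℤ) ∧ I.h = half F := by
  classical
  obtain ⟨M, hM⟩ := exists_isPModular Nat.prime_two
  obtain ⟨c, X⟩ := exists_eSide ED
  obtain ⟨h2, hc, hab, ht⟩ := D.syl_hyps T hTt
  have hx0' : (x0 : G) = T.t := hx0.trans hTt.symm
  obtain ⟨ι, hι, hι2⟩ := P.exists_iota T hx0'
  have hval : ∀ k, (ι k : G) = (k : G) := fun k => by rw [← hTe, hι]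
  have hmemK : ∀ x : ↥D.E, x ∈ ED.K ↔ (x : G) ∈ P.K := fun x => by
    rw [← hK]; exact (Subgroup.mem_map_iff_mem Subtype.val_injective).symm
  have hphi : ∀ x : ↥D.E, x ∈ ED.Phi ↔ (x : G) ∈ D.Fo := fun x => by
    rw [← hPhi]; exact (Subgroup.mem_map_iff_mem Subtype.val_injective).symm
  have hcardPhi : Nat.card ↥ED.Phi = Nat.card ↥D.Fo := by
    rw [← hPhi, Subgroup.card_map_of_injective Subtype.val_injective]
  refine ⟨BlockInput.ofESide X hM h2 hc hab ht S (twistExt S hFoK)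
    (fun l => D.fused_syl T hTt _) ι hι (fun k => (hι2 k).1)
    (fun l k => twistExt_apply hFoK hT0 hSFo (hval k) l) (fun k => ?_) (fun x hx => ?_)
    (fun k hk => ?_) hfix hinv x0 hx0' (fun r h h1 => D.isConj_t T hTt h h1)
    (hΛ.trans hcardPhi.symm) hcard, rfl, rfl, rfl⟩
  · rw [hmemK, hval]; exact k.2
  · exact ⟨⟨(x : G), (hmemK x).1 hx⟩, Subtype.ext (hval _)⟩
  · rw [hSFo, ← hval]
    exact (hphi _).1 hk

/-- There is a trivial twist, and a non-trivial one when there are two. -/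
theorem BlockInput.exists_el (I : BlockInput T S) (hFoK : D.Fo ≤ P.K)
    (hel : I.el = twistExt S hFoK) :
    (∃ l, I.el l = 1) ∧ (1 < Fintype.card Λ → ∃ l, I.el l ≠ 1) := by
  classical
  haveI : Fintype ↥P.K := Fintype.ofFinite _
  refine ⟨?_, fun h => ?_⟩
  · obtain ⟨l, hl⟩ : ∃ l, S.tw l = 1 := by
      by_contra hc
      push Not at hc
      have h := S.sum_twist (fun _ => (1 : ℂ)) (fun _ => (1 : ℂ))
      simp only [mul_one, P.sum_hom, hc, if_false, Finset.sum_const_zero, Finset.sum_const,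
        nsmul_eq_mul] at h
      rcases mul_eq_zero.1 h.symm with h0 | h0
      · exact Nat.cast_ne_zero.2 S.card_twist_pos.ne' h0
      · exact Nat.cast_ne_zero.2 (Finset.card_ne_zero_of_mem
          (Finset.mem_filter.2 ⟨Finset.mem_univ (1 : ↥P.K), one_mem _⟩)) h0
    exact ⟨l, by rw [hel, twistExt, hl]; rfl⟩
  · by_contra hc
    push Not at hc
    obtain ⟨a, b, hab⟩ := Fintype.exists_pair_of_one_lt_card h
    exact hab (I.el_injective ((hc a).trans (hc b).symm))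

end Main

end Cfsg.Agent.H28.TypeR
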