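import Cfsg.Agent.H28.TypeR.TransferCount
import Cfsg.Agent.H50.Walter.PieceR

/-!
Type R: the transfer to an involution centraliser restricts the primes dividing `|E : E₀|`.
-/

set_option autoImplicit false
set_option linter.unusedSectionVars false

namespace Cfsg.Agent.H28.TypeR

open Subgroup Cfsg.Agent.H50.Walter

universe u

variable {G : Type u} [Group G] [Finite G] {t : G} {E E₀ : Subgroup G}

/-- A homomorphism of `C(t)` into an abelian group with kernel meeting `E` in `E₀`. -/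
theorem exists_hom_centralizer (h : RData t E E₀)
    (hab : ∀ a ∈ E, ∀ b ∈ E, a * b * a⁻¹ * b⁻¹ ∈ E₀) :
    ∃ (A : Type u) (_ : CommGroup A) (φ : ↥(centralizer ({t} : Set G)) →* A),
      ∀ (y : G) (hy : y ∈ centralizer ({t} : Set G)), y ∈ E → y ∉ E₀ → φ ⟨y, hy⟩ ≠ 1 := by
  obtain ⟨hz, hE, hcomm, hinf, hsup⟩ := h.prod
  set N : Subgroup ↥(centralizer ({t} : Set G)) :=
    (zpowers t ⊔ E₀).subgroupOf (centralizer ({t} : Set G)) with hN
  -- elements of `⟨t⟩ ⊔ E₀`
  have hmem : ∀ x ∈ zpowers t ⊔ E₀, ∃ a ∈ zpowers t, ∃ e ∈ E₀, x = a * e := by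
    intro x hx
    have hle : zpowers t ≤ normalizer (E₀ : Set G) := fun a ha => mem_normalizer_iff.2 fun y => by
      constructor <;> intro hy
      · rwa [hcomm a ha y (h.le hy), mul_inv_cancel_right]
      · have h2 := hcomm a⁻¹ (inv_mem ha) _ (h.le hy)
        rw [show a⁻¹ * (a * y * a⁻¹) = y * a⁻¹ by group] at h2
        rwa [mul_right_cancel h2]
    rw [← SetLike.mem_coe, coe_mul_of_left_le_normalizer_right _ _ hle] at hx
    obtain ⟨a, ha, e, he, rfl⟩ := hx
    exact ⟨a, ha, e, he, rfl⟩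
  have htc : ∀ x : ↥(centralizer ({t} : Set G)), ∀ a ∈ zpowers t, Commute (x : G) a := by
    intro x a ha
    obtain ⟨k, rfl⟩ := mem_zpowers_iff.1 ha
    exact (show Commute (x : G) t from mem_centralizer_singleton_iff.1 x.2).zpow_right k
  haveI : N.Normal := ⟨fun n hn g => by
    rw [hN, mem_subgroupOf] at hn ⊢
    obtain ⟨a, ha, e, he, hne⟩ := hmem _ hn
    obtain ⟨g', hg', hgg⟩ := h.decomp g.2
    have hconj : ∀ z : G, (g : G) * z * (g : G)⁻¹ ∈ E₀ → (g : G) * (a * z) * (g : G)⁻¹ ∈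
        zpowers t ⊔ E₀ := fun z hz => by
      rw [show (g : G) * (a * z) * (g : G)⁻¹ = (g : G) * a * (g : G)⁻¹ * ((g : G) * z * (g : G)⁻¹)
        by group, (htc g a ha).eq, mul_inv_cancel_right]
      exact mul_mem (mem_sup_left ha) (mem_sup_right hz)
    simp only [Subgroup.coe_mul, Subgroup.coe_inv]
    rw [hne]
    exact hconj e (h.conj_mem g.2 he)⟩
  have hmulcomm : ∀ p q : ↥(centralizer ({t} : Set G)) ⧸ N, p * q = q * p := by
    intro p q
    induction p using QuotientGroup.induction_on with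
    | _ p =>
    induction q using QuotientGroup.induction_on with
    | _ q =>
    rw [← QuotientGroup.mk_mul, ← QuotientGroup.mk_mul, eq_comm, QuotientGroup.eq, hN,
      mem_subgroupOf]
    simp only [Subgroup.coe_mul, Subgroup.coe_inv]
    obtain ⟨a, ha, hpa⟩ := h.decomp p.2
    obtain ⟨b, hb, hqb⟩ := h.decomp q.2
    have hta : Commute t a := hcomm t (mem_zpowers t) a ha
    have htb : Commute t b := hcomm t (mem_zpowers t) b hb
    have hkey : ((q : G) * p)⁻¹ * ((p : G) * q) = a⁻¹ * b⁻¹ * a * b := by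
      rcases hpa with e1 | e1 <;> rcases hqb with e2 | e2 <;> rw [e1, e2]
      · group
      · rw [show a * (t * b) = t * a * b by rw [← mul_assoc, ← hta.eq],
          show t * b * a = t * (b * a) by rw [mul_assoc]]
        group
      · rw [show b * (t * a) = t * b * a by rw [← mul_assoc, ← htb.eq],
          show t * a * b = t * (a * b) by rw [mul_assoc]]
        group
      · rw [show t * b * (t * a) = t * t * (b * a) by
          rw [show t * b * (t * a) = t * (b * t) * a by group, ← htb.eq]; group,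
          show t * a * (t * b) = t * t * (a * b) by
          rw [show t * a * (t * b) = t * (a * t) * b by group, ← hta.eq]; group]
        group
    rw [hkey, show a⁻¹ * b⁻¹ * a * b = a⁻¹ * b⁻¹ * a⁻¹⁻¹ * b⁻¹⁻¹ by rw [inv_inv, inv_inv]]
    exact mem_sup_right (hab _ (inv_mem ha) _ (inv_mem hb))
  refine ⟨_, { (inferInstance : Group (↥(centralizer ({t} : Set G)) ⧸ N)) with
    mul_comm := hmulcomm }, QuotientGroup.mk' N, ?_⟩
  intro y hy hyE hy0 he
  have hy' := (QuotientGroup.eq_one_iff _).1 he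
  rw [hN, mem_subgroupOf] at hy'
  obtain ⟨a, ha, e, he', hye⟩ := hmem _ hy'
  have haEm : a ∈ E := by
    rw [show a = y * e⁻¹ by rw [show y = a * e from hye]; group]
    exact mul_mem hyE (inv_mem (h.le he'))
  have haE : a ∈ zpowers t ⊓ E := ⟨ha, haEm⟩
  rw [hinf, mem_bot] at haE
  refine hy0 ?_
  rw [show y = a * e from hye, haE, one_mul]
  exact he'

/-- If the involutions of `C(y)` lie in `K ≤ C(y)` and form one class of `K`, they are
`C(y)`-conjugate to `t` and as many as the involutions of `K`. -/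
theorem invol_of_component (ht : orderOf t = 2) {y : G} (hty : Commute y t) {K : Subgroup G}
    (hK : K ≤ centralizer ({y} : Set G))
    (hinv : ∀ s : G, orderOf s = 2 → Commute y s → s ∈ K)
    (hone : ∀ s u : ↥K, orderOf s = 2 → orderOf u = 2 → IsConj s u) :
    (∀ s : G, orderOf s = 2 → Commute y s → ∃ c : G, Commute c y ∧ c * t * c⁻¹ = s) ∧
      Nat.card {s : G // orderOf s = 2 ∧ Commute y s} = Nat.card {s : ↥K // orderOf s = 2} := by
  refine ⟨fun s hs hys => ?_, Nat.card_congr ?_⟩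
  · obtain ⟨c, hc⟩ := isConj_iff.1 (hone ⟨t, hinv t ht hty⟩ ⟨s, hinv s hs hys⟩
      (by rw [← Subgroup.orderOf_coe]; exact ht) (by rw [← Subgroup.orderOf_coe]; exact hs))
    exact ⟨c, mem_centralizer_singleton_iff.1 (hK c.2), congrArg Subtype.val hc⟩
  · exact
      { toFun := fun s => ⟨⟨s.1, hinv s.1 s.2.1 s.2.2⟩, by
          rw [← Subgroup.orderOf_coe]; exact s.2.1⟩
        invFun := fun s => ⟨s.1.1, by
          rw [Subgroup.orderOf_coe]; exact s.2, (mem_centralizer_singleton_iff.1 (hK s.1.2) :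
            Commute (s.1.1 : G) y).symm⟩
        left_inv := fun _ => rfl
        right_inv := fun _ => rfl }

/-- A prime `r` of `|E : E₀|` divides the number of involutions of `C(y)`, `y` of order `r`. -/
theorem dvd_invol_card [IsSimpleGroup G] (hna : ¬ IsMulCommutative G) (h : RData t E E₀)
    (hab : ∀ a ∈ E, ∀ b ∈ E, a * b * a⁻¹ * b⁻¹ ∈ E₀) {y : G} (hyE : y ∈ E) (hy0 : y ∉ E₀)
    {r : ℕ} (hr : r.Prime) (hy : orderOf y = r)
    (hone : ∀ s : G, orderOf s = 2 → Commute y s → ∃ c : G, Commute c y ∧ c * t * c⁻¹ = s) :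
    r ∣ Nat.card {s : G // orderOf s = 2 ∧ Commute y s} := by
  have : Fact r.Prime := ⟨hr⟩
  obtain ⟨A, _, φ, hφ⟩ := exists_hom_centralizer h hab
  exact dvd_card_commuting_invol hna h.ord φ (h.E_le hyE) (hy ▸ pow_orderOf_eq_one y)
    (hφ y _ hyE hy0) hone

/-- The possible numbers of involutions of a component over a field with `qz` elements. -/
def InvolCount (qz n : ℕ) : Prop :=
  (qz = 3 ∧ (n = 7 ∨ n = 63)) ∨ (qz = 5 ∧ n = 1463) ∨
    ∃ m : ℕ, qz = 3 ^ m ∧ n = qz ^ 2 * (qz ^ 2 - qz + 1)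

/-- The primes allowed by transfer. -/
theorem prime_cases {r qz n : ℕ} (hr : r.Prime) (hn : InvolCount qz n) (hd : r ∣ n) :
    r = 3 ∨ (qz = 5 ∧ (r = 7 ∨ r = 11 ∨ r = 19)) ∨ r ∣ qz ^ 2 - qz + 1 := by
  rcases hn with ⟨rfl, hn⟩ | ⟨rfl, rfl⟩ | ⟨m, rfl, rfl⟩
  · rcases prime_dvd_small hr hn hd with h | h
    · exact Or.inl h
    · exact Or.inr (Or.inr (h ▸ by norm_num))
  · exact Or.inr (Or.inl ⟨rfl, prime_dvd_j1 hr hd⟩)
  · by_cases h3 : r = 3
    · exact Or.inl h3
    · exact Or.inr (Or.inr (dvd_ree_factor hr h3 hd))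

/-- A prime of `|E : E₀|` other than `3` is prime to `|PSL₂(q)|`. -/
theorem not_dvd_card_psl {r q qz : ℕ} (hr : r.Prime) (hr3 : r ≠ 3) (hz : 1 ≤ qz)
    (hq : q = qz ^ r) (h : r = 3 ∨ (qz = 5 ∧ (r = 7 ∨ r = 11 ∨ r = 19)) ∨ r ∣ qz ^ 2 - qz + 1) :
    ¬ r ∣ q * (q ^ 2 - 1) := by
  rcases h with h | ⟨h5, h⟩ | h
  · exact absurd h hr3
  · subst hq h5
    have : Fact r.Prime := ⟨hr⟩
    intro hd
    have h1 : 1 ≤ (5 ^ r) ^ 2 := Nat.one_le_pow _ _ (Nat.pow_pos (by norm_num))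
    have h2 := (ZMod.natCast_eq_zero_iff (5 ^ r * ((5 ^ r) ^ 2 - 1)) r).2 hd
    push_cast [Nat.cast_sub h1] at h2
    rw [ZMod.pow_card] at h2
    have h3 : ((120 : ℕ) : ZMod r) = 0 := by push_cast; linear_combination h2
    have h4 := (ZMod.natCast_eq_zero_iff _ _).1 h3
    rcases h with rfl | rfl | rfl <;> norm_num at h4
  · exact not_dvd_psl_of_dvd_ree hr hr3 hz h hq

/-- Transfer, in one statement: a prime `r ≠ 3` of `|E : E₀|` is prime to `|PSL₂(q)|`, and `r`
divides `qz² - qz + 1` unless `qz = 5`. -/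
theorem transfer_prime [IsSimpleGroup G] (hna : ¬ IsMulCommutative G) (h : RData t E E₀)
    (hab : ∀ a ∈ E, ∀ b ∈ E, a * b * a⁻¹ * b⁻¹ ∈ E₀) {y : G} (hyE : y ∈ E) (hy0 : y ∉ E₀)
    {r : ℕ} (hr : r.Prime) (hy : orderOf y = r) {K : Subgroup G}
    (hK : K ≤ centralizer ({y} : Set G))
    (hinv : ∀ s : G, orderOf s = 2 → Commute y s → s ∈ K)
    (hone : ∀ s u : ↥K, orderOf s = 2 → orderOf u = 2 → IsConj s u)
    {q qz : ℕ} (hz : 1 ≤ qz) (hq : q = qz ^ r)
    (hn : InvolCount qz (Nat.card {s : ↥K // orderOf s = 2})) :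
    r = 3 ∨ (((qz = 5 ∧ (r = 7 ∨ r = 11 ∨ r = 19)) ∨ r ∣ qz ^ 2 - qz + 1) ∧
      ¬ r ∣ q * (q ^ 2 - 1)) := by
  obtain ⟨h1, h2⟩ := invol_of_component h.ord
    (mem_centralizer_singleton_iff.1 (h.E_le hyE)) hK hinv hone
  have hd := dvd_invol_card hna h hab hyE hy0 hr hy h1
  rw [h2] at hd
  have hc := prime_cases hr hn hd
  by_cases h3 : r = 3
  · exact Or.inl h3
  · exact Or.inr ⟨hc.resolve_left h3, not_dvd_card_psl hr h3 hz hq hc⟩

/-- A power of three. -/
theorem exists_odd_pow_three {q qz r m : ℕ} (hr : Odd r) (hm : Odd m) (hqz : qz = 3 ^ m)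
    (hq : q = qz ^ r) : ∃ k, Odd k ∧ q = 3 ^ k :=
  ⟨m * r, hm.mul hr, by rw [hq, hqz, pow_mul]⟩

end Cfsg.Agent.H28.TypeR
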