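import Cfsg.Agent.H28.TypeR.Route
import Cfsg.Agent.H28.TypeR.Transfer
import Cfsg.Agent.H97.TypeR.FieldCent

/-!
# Type R: the route from the local facts

Transfer to `C(t)` pins down the primes of `|Fo|`; with the two kills this gives `Route`.
-/

set_option autoImplicit false
set_option linter.unusedSectionVars false

namespace Cfsg.Agent.H28.TypeR

open Subgroup Cfsg.Agent

universe u

variable {G : Type u} [Group G] [Finite G] {F : Type} [Field F] [Fintype F] (D : Data G F)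

/-- The number of elements of the field fixed by `y`. -/
noncomputable def fixCard (y : ↥D.Fo) : ℕ :=
  Nat.card (H58.Descent.fixedField (D.σ y : F ≃+* F))

/-- The number of elements of the field fixed by the whole field part. -/
noncomputable def fixAll : ℕ := Nat.card {a : F // ∀ y : ↥D.Fo, D.σ y a = a}

/-- The count of involutions in the centraliser of a field element. -/
def CountHyp : Prop :=
  ∀ y : ↥D.Fo, y ≠ 1 →
    InvolCount (fixCard D y) (Nat.card {s : G // orderOf s = 2 ∧ Commute (y : G) s})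

theorem card_eq_fixCard_pow (y : ↥D.Fo) : Fintype.card F = fixCard D y ^ orderOf y := by
  rw [← orderOf_injective D.σ D.sigma_inj y]
  exact H58.Descent.card_eq_pow (D.σ y : F ≃+* F)

theorem exists_generator_fix :
    ∃ z : ↥D.Fo, fixCard D z = fixAll D ∧ orderOf z = Nat.card ↥D.Fo := by
  haveI := D.isCyclic
  obtain ⟨z, hz⟩ := IsCyclic.exists_generator (α := ↥D.Fo)
  refine ⟨z, Nat.card_congr (Equiv.subtypeEquivRight fun a => ?_),
    orderOf_eq_card_of_forall_mem_zpowers hz⟩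
  constructor
  · intro ha y
    obtain ⟨k, rfl⟩ := mem_zpowers_iff.1 (hz y)
    rw [map_zpow]
    exact ha ⟨D.σ z ^ k, zpow_mem (mem_zpowers (D.σ z)) k⟩
  · intro ha
    exact (H58.Descent.mem_fixedField _).2 (ha z)

theorem two_le_fixAll : 2 ≤ fixAll D := by
  classical
  haveI : Nontrivial {a : F // ∀ y : ↥D.Fo, D.σ y a = a} :=
    ⟨⟨⟨0, fun y => map_zero (D.σ y)⟩, ⟨1, fun y => map_one (D.σ y)⟩,
      fun e => zero_ne_one (congrArg Subtype.val e)⟩⟩
  exact Finite.one_lt_card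

/-- For a prime `r` of `|Fo|`, what transfer leaves. -/
theorem prime_facts (hcount : CountHyp D) {r : ℕ} (hr : r.Prime) (hd : r ∣ Nat.card ↥D.Fo) :
    ∃ qz, Fintype.card F = qz ^ r ∧ (qz = 3 ∨ qz = 5 ∨ ∃ m, qz = 3 ^ m) ∧
      (r = 3 ∨ ¬ r ∣ Nat.card (P2 F)) := by
  haveI := D.simple
  haveI : Fact r.Prime := ⟨hr⟩
  obtain ⟨y, hy⟩ := exists_prime_orderOf_dvd_card' r hd
  have hy1 : y ≠ 1 := fun e => by
    rw [e, orderOf_one] at hy
    exact hr.ne_one hy.symm
  have hq : Fintype.card F = fixCard D y ^ r := hy ▸ card_eq_fixCard_pow D y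
  have hn := hcount y hy1
  refine ⟨fixCard D y, hq, ?_, ?_⟩
  · rcases hn with ⟨h, -⟩ | ⟨h, -⟩ | ⟨m, h, -⟩
    exacts [Or.inl h, Or.inr (Or.inl h), Or.inr (Or.inr ⟨m, h⟩)]
  have hyG : orderOf (y : G) = r := by rw [Subgroup.orderOf_coe, hy]
  have hdvd := dvd_invol_card D.nonab D.rdata (fun a ha b hb => D.commutator_mem_range ha hb)
    (D.Fo_le y.2) (fun h => hy1 (Subtype.ext (D.range_psi_inf y.2 h))) hr hyG
    (fun s hs hys => D.exists_conj_centralizer y.2 hs hys)
  by_cases h3 : r = 3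
  · exact Or.inl h3
  refine Or.inr fun hP => ?_
  have hz : 1 ≤ fixCard D y := Nat.card_pos
  refine not_dvd_card_psl hr h3 hz hq (prime_cases hr hn hdvd) ?_
  rw [← H56.CTwoAb.card_psl_two_odd (F := F) (Nat.odd_iff.1 D.odd_card_field)]
  exact dvd_mul_of_dvd_right hP 2

/-- The local facts give the route. -/
theorem route_of (hcount : CountHyp D) (hthree : ¬ 3 ∣ Nat.card ↥D.Fo)
    (hsmall : ¬ (fixAll D = 3 ∨ fixAll D = 5)) (hne : D.Fo ≠ ⊥) : Route D := by
  have hf1 : 1 < Nat.card ↥D.Fo := (one_lt_card_iff_ne_bot _).2 hne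
  obtain ⟨r, hr, hrd⟩ := Nat.exists_prime_and_dvd hf1.ne'
  obtain ⟨qz, hqz, hcases, -⟩ := prime_facts D hcount hr hrd
  obtain ⟨z, hzfix, hzord⟩ := exists_generator_fix D
  have hqf : Fintype.card F = fixAll D ^ Nat.card ↥D.Fo := by
    rw [← hzfix, ← hzord]
    exact card_eq_fixCard_pow D z
  have hfo := D.Fo_odd
  have h2f := two_le_fixAll D
  -- the field is a power of three
  obtain ⟨k, hk⟩ : ∃ k, fixAll D = 3 ^ k := by
    have key : ∀ p, p.Prime → ∀ e, qz = p ^ e → ∃ k, fixAll D = p ^ k ∧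
        k * Nat.card ↥D.Fo = e * r := by
      intro p hp e he
      have h1 : fixAll D ^ Nat.card ↥D.Fo = p ^ (e * r) := by rw [← hqf, hqz, he, pow_mul]
      obtain ⟨k, -, hk⟩ := (Nat.dvd_prime_pow hp).1
        (h1 ▸ dvd_pow_self (fixAll D) (show Nat.card ↥D.Fo ≠ 0 by omega))
      refine ⟨k, hk, ?_⟩
      rw [hk, ← pow_mul] at h1
      exact Nat.pow_right_injective hp.two_le h1
    rcases hcases with h | h | ⟨m, h⟩
    · obtain ⟨k, hk, -⟩ := key 3 Nat.prime_three 1 (by rw [h, pow_one])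
      exact ⟨k, hk⟩
    · exfalso
      obtain ⟨k, hk, hkr⟩ := key 5 (by norm_num) 1 (by rw [h, pow_one])
      refine hsmall (Or.inr ?_)
      obtain ⟨c, hc⟩ := hrd
      rw [hc, one_mul] at hkr
      have h2 : k * c = 1 := Nat.eq_of_mul_eq_mul_left hr.pos (by
        rw [mul_one]; linear_combination hkr)
      rw [hk, Nat.dvd_one.1 (Dvd.intro _ h2), pow_one]
    · obtain ⟨k, hk, -⟩ := key 3 Nat.prime_three m h
      exact ⟨k, hk⟩
  have hqk : Fintype.card F = 3 ^ (k * Nat.card ↥D.Fo) := by rw [hqf, hk, pow_mul]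
  have hodd : Odd (k * Nat.card ↥D.Fo) := by
    by_contra hcon
    obtain ⟨j, hj⟩ := Nat.not_odd_iff_even.1 hcon
    have h9 : Fintype.card F % 8 = 1 := by
      rw [hqk, hj, ← two_mul, pow_mul, Nat.pow_mod]
      norm_num
    have := D.mod_eight
    omega
  have hkodd : Odd k := (Nat.odd_mul.1 hodd).1
  refine ⟨hne, ⟨_, hodd, hqk⟩, ?_, ?_, hthree⟩
  · show 27 ≤ fixAll D
    obtain ⟨j, rfl⟩ := hkodd
    rcases Nat.eq_zero_or_pos j with rfl | hj
    · exact absurd (Or.inl (by rw [hk]; rfl)) hsmall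
    · rw [hk]
      exact le_trans (by norm_num) (Nat.pow_le_pow_right (by norm_num) (show 3 ≤ 2 * j + 1 by omega))
  · refine Nat.coprime_of_dvd fun s hs hs1 hs2 => ?_
    obtain ⟨-, -, -, h | h⟩ := prime_facts D hcount hs hs1
    · exact hthree (h ▸ hs1)
    · exact h hs2

end Cfsg.Agent.H28.TypeR
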