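import Cfsg.Agent.H40.WardE.Twists
import Cfsg.Agent.H22.Ward.GLower

/-!
# A lower bound for the group order from the torus with field automorphisms

Pairs of involutions with product in a conjugate of `W × T₀`, outside `W`:
`2 (|T₀| - 1) |C(t)| ^ 2 ≤ 3 |Fo| |G|`.
-/

set_option autoImplicit false
set_option linter.style.haveILetI false
set_option linter.unusedSectionVars false

namespace Cfsg.Agent.H28.TypeR

open Subgroup Cfsg.Agent
open Cfsg.Agent.H40.WardE (ExtPair Twists)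

universe u w

variable {G : Type u} [Group G] {P : ExtPair G} {Λ : Type w} [Fintype Λ] (S : Twists P Λ)

include S in
theorem torus_point_commute {x : ↥P.W} {k : ↥P.K} (hk : k ∈ S.T0) (hk1 : k ≠ 1) {z : G}
    (hz : Commute z ((x : G) * k)) : z ∈ P.T := by
  have h2 : Commute z ((k : G) ^ 2) := by
    have h := hz.pow_right 2
    rwa [(P.comm x x.2 k k.2).mul_pow, pow_two (x : G), P.mul_self x.2, one_mul] at h
  obtain ⟨r, hr⟩ := P.odd
  have hk2 : ((k : G) ^ 2) ^ (r + 1) = k := by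
    rw [← pow_mul, show 2 * (r + 1) = 2 * r + 1 + 1 by ring, ← hr, pow_succ,
      P.pow_card_K k.2, one_mul]
  have hzk : Commute z (k : G) := hk2 ▸ h2.pow_right (r + 1)
  refine S.cent k (fun g hg => hk1 ?_) (mem_centralizer_singleton_iff.2 hzk.eq)
  have h1 : g * k * g⁻¹ ∈ S.T0 ⊓ S.Fo := mem_inf.2 ⟨S.normal.conj_mem k hk g, hg⟩
  rw [S.compl.disjoint.eq_bot, mem_bot] at h1
  exact conj_eq_one_iff.1 h1

include S in
theorem torus_invol_coset {x : ↥P.W} {s : ↥P.K} (hs : s ∈ S.T0) :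
    P.u * ((x : G) * s) * (P.u * ((x : G) * s)) = 1 := by
  have h : P.u * ((x : G) * s) * P.u⁻¹ = ((x : G) * s)⁻¹ := by
    rw [show P.u * ((x : G) * s) * P.u⁻¹ = (P.u * x * P.u⁻¹) * (P.u * s * P.u⁻¹) by group,
      P.u_W x x.2, S.u_inv s hs, mul_inv_rev, inv_eq_of_mul_eq_one_left (P.mul_self x.2)]
    exact (P.comm x x.2 _ (inv_mem s.2)).eq
  rw [inv_eq_of_mul_eq_one_left P.u_sq] at h
  rw [show P.u * ((x : G) * s) * (P.u * ((x : G) * s)) =
    P.u * ((x : G) * s) * P.u * ((x : G) * s) by group, h, inv_mul_cancel]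

include S in
/-- Counting pairs of involutions. -/
theorem torus_lower [Finite G] (t : G)
    (hconj : ∀ r : G, r * r = 1 → r ≠ 1 → IsConj t r) :
    2 * (Nat.card ↥S.T0 - 1) * Nat.card (centralizer ({t} : Set G)) ^ 2 ≤
      3 * Fintype.card Λ * Nat.card G := by
  classical
  haveI := Fintype.ofFinite G
  haveI := P.klein
  let C : Finset G := Finset.univ.filter fun r => IsConj t r
  have hC : C.card * Nat.card (centralizer ({t} : Set G)) = Nat.card G := by
    rw [← Subgroup.index_mul_card (centralizer ({t} : Set G))]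
    congr 1
    have h := MulAction.index_stabilizer (G := ConjAct G) (x := t)
    rw [ConjAct.stabilizer_eq_centralizer] at h
    refine Eq.trans ?_ h.symm
    rw [← Set.ncard_coe_finset]
    refine congrArg Set.ncard (Set.ext fun g => ?_)
    rw [ConjAct.mem_orbit_conjAct, Finset.mem_coe, Finset.mem_filter_univ]
    exact isConj_comm
  let A := G × (↥P.W × {k : ↥S.T0 // k ≠ 1}) × ↥P.W × ↥S.T0
  let f : A → G × G := fun z =>
    (z.1 * (P.u * ((z.2.2.1 : G) * (z.2.2.2 : ↥P.K))) * z.1⁻¹,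
      z.1 * (P.u * ((z.2.2.1 : G) * (z.2.2.2 : ↥P.K)) * ((z.2.1.1 : G) * (z.2.1.2.1 : ↥P.K))) *
        z.1⁻¹)
  have hmem : ∀ z : A, f z ∈ C ×ˢ C := by
    rintro ⟨g, ⟨x, ⟨⟨k, hk⟩, hk1⟩⟩, y, ⟨s, hs⟩⟩
    have hu : ∀ (a : ↥P.W) (b : ↥P.K), b ∈ S.T0 →
        IsConj t (g * (P.u * ((a : G) * b)) * g⁻¹) := by
      intro a b hb
      refine (hconj _ (torus_invol_coset S hb) fun e => hk1 ?_).trans (isConj_iff.2 ⟨g, rfl⟩)
      have hu : P.u ∈ P.T := by
        rw [eq_inv_of_mul_eq_one_left e]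
        exact inv_mem (mul_mem (P.W_le a.2) (P.K_le b.2))
      have h1 : ((k : G))⁻¹ = k := by
        have hc : (b : G) * k = k * b := congrArg Subtype.val (S.comm b hb k hk)
        rw [← S.u_inv k hk, eq_inv_of_mul_eq_one_left e, inv_inv, mul_inv_rev]
        rw [show ((b : G)⁻¹ * (a : G)⁻¹) * (k : G) * ((a : G) * b) =
          (b : G)⁻¹ * ((a : G)⁻¹ * ((k : G) * a)) * b by group, ← (P.comm a a.2 k k.2).eq,
          inv_mul_cancel_left, mul_assoc, ← hc, inv_mul_cancel_left]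
      have h2 : (k : G) ^ 2 = 1 := by
        rw [pow_two]; nth_rewrite 1 [← h1]; exact inv_mul_cancel _
      exact Subtype.ext (Subtype.ext (orderOf_eq_one_iff.1 (Nat.eq_one_of_dvd_coprimes
        (Nat.coprime_two_left.2 P.odd) (orderOf_dvd_of_pow_eq_one h2)
        (Subgroup.orderOf_dvd_natCard _ k.2))))
    rw [Finset.mem_product, Finset.mem_filter_univ, Finset.mem_filter_univ]
    refine ⟨hu y s hs, ?_⟩
    have h := hu (y * x) (s * k) (mul_mem hs hk)
    have e : (((y * x : ↥P.W) : G)) * ((s * k : ↥P.K) : G) = (y : G) * s * ((x : G) * k) := by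
      simp only [Subgroup.coe_mul, mul_assoc]
      rw [← mul_assoc (x : G) (s : G), (P.comm x x.2 s s.2).eq, mul_assoc (s : G)]
    rwa [e, ← mul_assoc P.u] at h
  have hfib : ∀ b ∈ Finset.univ.image f, (Finset.univ.filter fun z => f z = b).card ≤
      Nat.card ((Fin 3 × Fin 2) × ↥P.T) := by
    intro b hb
    obtain ⟨⟨g, ⟨x, ⟨⟨k, hk⟩, hk1⟩⟩, y, ⟨s, hs⟩⟩, -, rfl⟩ := Finset.mem_image.1 hb
    rw [Nat.card_eq_fintype_card, ← Finset.card_univ]
    refine le_trans ?_ (Finset.card_image_le (f := fun c => P.rep c.1 * (c.2 : G)))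
    refine Finset.card_le_card_of_injOn (fun z => g⁻¹ * z.1) ?_ ?_
    · rintro ⟨g', ⟨x', ⟨⟨k', hk'⟩, hk1'⟩⟩, y', ⟨s', hs'⟩⟩ hz
      rw [Finset.mem_coe, Finset.mem_filter_univ] at hz
      have hprod : ∀ (c : G) (p : ↥P.W) (q : ↥P.K), q ∈ S.T0 → ∀ e : G,
          c * (P.u * ((p : G) * q)) * c⁻¹ * (c * (P.u * ((p : G) * q) * e) * c⁻¹) = c * e * c⁻¹ :=
        fun c p q hq e => by
        rw [show c * (P.u * ((p : G) * q)) * c⁻¹ * (c * (P.u * ((p : G) * q) * e) * c⁻¹) =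
          c * (P.u * ((p : G) * q) * (P.u * ((p : G) * q)) * e) * c⁻¹ by group,
          torus_invol_coset S hq, one_mul]
      have hy : g * ((x : G) * k) * g⁻¹ = g' * ((x' : G) * k') * g'⁻¹ := by
        rw [← hprod g y s hs, ← hprod g' y' s' hs']
        exact (congrArg (fun p : G × G => p.1 * p.2) hz).symm
      have hy' : (x : G) * k = (g⁻¹ * g') * ((x' : G) * k') * (g⁻¹ * g')⁻¹ := by
        rw [show (g⁻¹ * g') * ((x' : G) * k') * (g⁻¹ * g')⁻¹ =
          g⁻¹ * (g' * ((x' : G) * k') * g'⁻¹) * g by group, ← hy]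
        group
      have hn : ∀ z ∈ P.W, (g⁻¹ * g') * z * (g⁻¹ * g')⁻¹ ∈ P.W := by
        intro z hz
        have hc : Commute z ((x' : G) * k') := P.comm_T_W (mul_mem (P.W_le x'.2) (P.K_le k'.2)) hz
          |>.symm
        refine P.mem_W_of_sq (torus_point_commute S (x := x) hk (fun e => hk1 (Subtype.ext e)) ?_) ?_
        · rw [hy']; exact (Commute.conj_iff _).2 hc
        · rw [show (g⁻¹ * g') * z * (g⁻¹ * g')⁻¹ * ((g⁻¹ * g') * z * (g⁻¹ * g')⁻¹) =
            (g⁻¹ * g') * (z * z) * (g⁻¹ * g')⁻¹ by group, P.mul_self hz, mul_one, mul_inv_cancel]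
      obtain ⟨i, hi, j, hj, hmem⟩ := P.normaliser _ hn
      refine Finset.mem_image.2 ⟨((⟨i, hi⟩, ⟨j, hj⟩), ⟨_, hmem⟩), Finset.mem_univ _, ?_⟩
      show P.w ^ i * P.u ^ j * ((P.w ^ i * P.u ^ j)⁻¹ * (g⁻¹ * g')) = g⁻¹ * g'
      group
    · rintro ⟨g', ⟨x', ⟨⟨k', hk'⟩, _⟩⟩, y', ⟨s', hs'⟩⟩ hz
        ⟨g'', ⟨x'', ⟨⟨k'', hk''⟩, _⟩⟩, y'', ⟨s'', hs''⟩⟩ hz' he
      rw [Finset.mem_coe, Finset.mem_filter_univ] at hz hz'
      obtain rfl : g' = g'' := mul_left_cancel (a := g⁻¹) he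
      have h1 := congrArg Prod.fst (hz.trans hz'.symm)
      have h2 := congrArg Prod.snd (hz.trans hz'.symm)
      have e1 := P.mulHom_injective (a₁ := (y', s')) (a₂ := (y'', s''))
        (mul_left_cancel (mul_left_cancel (mul_right_cancel h1)))
      rw [Prod.mk.injEq] at e1
      obtain ⟨rfl, rfl⟩ := e1
      have e2 := P.mulHom_injective (a₁ := (x', k')) (a₂ := (x'', k''))
        (mul_left_cancel (mul_left_cancel (mul_right_cancel h2)))
      rw [Prod.mk.injEq] at e2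
      obtain ⟨rfl, rfl⟩ := e2
      rfl
  have hle : Fintype.card A ≤ Nat.card ((Fin 3 × Fin 2) × ↥P.T) * (C.card * C.card) := by
    rw [← Finset.card_univ]
    refine le_trans (Finset.card_le_mul_card_image Finset.univ _ hfib) (Nat.mul_le_mul le_rfl ?_)
    rw [← Finset.card_product]
    exact Finset.card_le_card fun b hb => by
      obtain ⟨z, -, rfl⟩ := Finset.mem_image.1 hb
      exact hmem z
  have hT : Nat.card ↥P.T = 4 * Nat.card ↥P.K := by
    rw [← Nat.card_congr P.equiv.toEquiv, Nat.card_prod, IsKleinFour.card_four (G := ↥P.W)]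
  have hK : Nat.card {k : ↥S.T0 // k ≠ 1} = Nat.card ↥S.T0 - 1 := by
    simp [Nat.card_eq_fintype_card, Fintype.card_subtype_compl]
  rw [← Nat.card_eq_fintype_card, Nat.card_prod, Nat.card_prod, Nat.card_prod, Nat.card_prod,
    Nat.card_prod, Nat.card_prod, hT, hK, IsKleinFour.card_four (G := ↥P.W), Nat.card_fin,
    Nat.card_fin, ← S.card_tw] at hle
  set c := Nat.card (centralizer ({t} : Set G))
  set m := Nat.card ↥S.T0
  set f := Fintype.card Λ
  have hm : 0 < m := Nat.card_pos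
  have hG : 0 < Nat.card G := Nat.card_pos
  refine Nat.le_of_mul_le_mul_left ?_ (show 0 < 8 * m * Nat.card G by positivity)
  calc 8 * m * Nat.card G * (2 * (m - 1) * c ^ 2)
      = (Nat.card G * (4 * (m - 1) * (4 * m))) * c ^ 2 := by ring
    _ ≤ (3 * 2 * (4 * (f * m)) * (C.card * C.card)) * c ^ 2 := Nat.mul_le_mul hle le_rfl
    _ = 24 * f * m * ((C.card * c) * (C.card * c)) := by ring
    _ = 8 * m * Nat.card G * (3 * f * Nat.card G) := by rw [hC]; ring

end Cfsg.Agent.H28.TypeR
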