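import Mathlib

/-!
Transfer into an abelian group from an involution centraliser: the number of involutions commuting
with an element of prime order `r` outside the kernel is divisible by `r`.
-/

set_option autoImplicit false
set_option linter.style.haveILetI false

namespace Cfsg.Agent.H28.TypeR

open Subgroup MulAction

variable {G : Type*} [Group G] [Finite G]

/-- Transfer of an element of prime order: the fixed cosets are divisible by `r`. -/
theorem dvd_card_fixed {A : Type*} [CommGroup A] {H : Subgroup G} (φ : ↥H →* A)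
    (hG : ∀ f : G →* A, f = 1) {y : G} {r : ℕ} [hr : Fact r.Prime] (hy : y ^ r = 1) {c : A}
    (hc : orderOf c = r) (h : ∀ (g : G) (hg : g⁻¹ * y * g ∈ H), φ ⟨g⁻¹ * y * g, hg⟩ = c) :
    r ∣ Nat.card {q : G ⧸ H // y • q = q} := by
  classical
  haveI : Fintype (G ⧸ H) := Fintype.ofFinite _
  haveI : Fintype (Quotient (orbitRel (zpowers y) (G ⧸ H))) := Fintype.ofFinite _
  set Fx : Finset (G ⧸ H) := Finset.univ.filter fun q => y • q = q with hFx
  have hV := MonoidHom.transfer_eq_prod_quotient_orbitRel_zpowers_quot φ y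
  rw [hG (MonoidHom.transfer φ), MonoidHom.one_apply] at hV
  have hterm : ∀ o : Quotient (orbitRel (zpowers y) (G ⧸ H)),
      φ ⟨o.out.out⁻¹ * y ^ Function.minimalPeriod (y • ·) o.out * o.out.out,
          QuotientGroup.out_conj_pow_minimalPeriod_mem H y o.out⟩ =
        if o.out ∈ Fx then c else 1 := by
    intro o
    have hmem := QuotientGroup.out_conj_pow_minimalPeriod_mem H y o.out
    revert hmem
    generalize o.out = q
    intro hmem
    by_cases hq : y • q = q
    · rw [if_pos (by simp [hFx, hq])]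
      have e1 : Function.minimalPeriod (y • ·) q = 1 :=
        Function.minimalPeriod_eq_one_iff_isFixedPt.mpr hq
      rw [e1, pow_one] at hmem
      exact (congrArg φ (Subtype.ext (by simp only [e1, pow_one]))).trans (h q.out hmem)
    · rw [if_neg (by simp [hFx, hq])]
      have hper : Function.IsPeriodicPt (y • ·) r q := by
        show (y • ·)^[r] q = q
        rw [smul_iterate, hy]
        exact one_smul G q
      have e1 : Function.minimalPeriod (y • ·) q = r := by
        rcases (Nat.dvd_prime hr.out).1 hper.minimalPeriod_dvd with h1 | h1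
        · exact absurd (Function.minimalPeriod_eq_one_iff_isFixedPt.mp h1) hq
        · exact h1
      refine (congrArg φ (Subtype.ext (show _ = (1 : G) from ?_))).trans (map_one φ)
      simp only [e1, hy]
      group
  rw [Finset.prod_congr rfl fun o _ => hterm o, ← Finset.prod_filter, Finset.prod_const] at hV
  have hd := orderOf_dvd_of_pow_eq_one hV.symm
  rw [hc] at hd
  have hcount : Nat.card {q : G ⧸ H // y • q = q} = Fx.card := by
    rw [Nat.card_eq_fintype_card, Fintype.card_subtype]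
  rw [hcount]
  convert hd using 1
  symm
  refine Finset.card_bij (fun o _ => o.out) (fun o ho => (Finset.mem_filter.mp ho).2)
    (fun o₁ _ o₂ _ h => by rw [← Quotient.out_eq o₁, ← Quotient.out_eq o₂, h]) fun q hq => ?_
  have hqf : y • q = q := (Finset.mem_filter.mp hq).2
  have hout : (Quotient.mk (orbitRel (zpowers y) (G ⧸ H)) q).out = q := by
    have h1 := Quotient.exact (Quotient.out_eq (Quotient.mk (orbitRel (zpowers y) (G ⧸ H)) q))
    obtain ⟨⟨g, hg⟩, hgq⟩ := MulAction.mem_orbit_iff.1 (orbitRel_apply.1 h1)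
    obtain ⟨k, rfl⟩ := mem_zpowers_iff.1 hg
    rw [← hgq]
    show y ^ k • q = q
    exact (MulAction.mem_stabilizer_iff.1 (zpow_mem (MulAction.mem_stabilizer_iff.2 hqf) k))
  exact ⟨_, Finset.mem_filter.2 ⟨Finset.mem_univ _, by rw [hout]; exact hq⟩, hout⟩

/-- Fixed cosets of an involution centraliser are the commuting conjugates. -/
theorem card_fixed_cosets (t y : G) :
    Nat.card {q : G ⧸ centralizer ({t} : Set G) // y • q = q} =
      Nat.card {s : G // IsConj t s ∧ Commute y s} := by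
  classical
  have hcomm : ∀ a b : G, (a : G ⧸ centralizer ({t} : Set G)) = b ↔
      a * t * a⁻¹ = b * t * b⁻¹ := by
    intro a b
    rw [QuotientGroup.eq, mem_centralizer_singleton_iff]
    constructor
    · intro h1
      calc a * t * a⁻¹ = a * (t * (a⁻¹ * b)) * b⁻¹ := by group
        _ = a * (a⁻¹ * b * t) * b⁻¹ := by rw [h1]
        _ = b * t * b⁻¹ := by group
    · intro h1
      calc a⁻¹ * b * t = a⁻¹ * (b * t * b⁻¹) * b := by group
        _ = a⁻¹ * (a * t * a⁻¹) * b := by rw [h1]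
        _ = t * (a⁻¹ * b) := by group
  have hfix : ∀ a : G, y • (a : G ⧸ centralizer ({t} : Set G)) = a ↔ Commute y (a * t * a⁻¹) := by
    intro a
    rw [MulAction.Quotient.smul_coe, smul_eq_mul, hcomm, commute_iff_eq]
    constructor
    · intro h1
      calc y * (a * t * a⁻¹) = y * a * t * (y * a)⁻¹ * y := by group
        _ = a * t * a⁻¹ * y := by rw [h1]
    · intro h1
      calc y * a * t * (y * a)⁻¹ = y * (a * t * a⁻¹) * y⁻¹ := by group
        _ = a * t * a⁻¹ := by rw [h1]; group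
  let f : {q : G ⧸ centralizer ({t} : Set G) // y • q = q} →
      {s : G // IsConj t s ∧ Commute y s} := fun q =>
    ⟨q.1.out * t * q.1.out⁻¹, isConj_iff.2 ⟨_, rfl⟩,
      (hfix q.1.out).1 (by rw [QuotientGroup.out_eq']; exact q.2)⟩
  refine Nat.card_congr (Equiv.ofBijective f ⟨fun q q' hqq => ?_, fun s => ?_⟩)
  · have h1 := (hcomm q.1.out q'.1.out).2 (congrArg Subtype.val hqq)
    rw [QuotientGroup.out_eq', QuotientGroup.out_eq'] at h1
    exact Subtype.ext h1
  · obtain ⟨s, hs, hys⟩ := s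
    obtain ⟨a, rfl⟩ := isConj_iff.1 hs
    refine ⟨⟨(a : G ⧸ _), (hfix a).2 hys⟩, Subtype.ext ?_⟩
    exact (hcomm _ _).1 (QuotientGroup.out_eq' _)

/-- A simple non-abelian group has no non-trivial abelian image. -/
theorem hom_eq_one [IsSimpleGroup G] (hna : ¬ IsMulCommutative G) {A : Type*} [CommGroup A]
    (f : G →* A) : f = 1 := by
  rcases (inferInstance : f.ker.Normal).eq_bot_or_eq_top with h | h
  · exfalso
    have hinj : Function.Injective f := (MonoidHom.ker_eq_bot_iff f).1 h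
    exact hna ⟨⟨fun a b => hinj (by rw [map_mul, map_mul, mul_comm])⟩⟩
  · exact MonoidHom.ext fun g => MonoidHom.mem_ker.1 (h ▸ mem_top g)

/-- If the involutions commuting with `y ∈ C(t)` are conjugate to `t` under `C(y)`, their number is
a multiple of the prime `r = orderOf (φ y)`, for any `φ : C(t) →* A` with `A` abelian. -/
theorem dvd_card_commuting_invol [IsSimpleGroup G] (hna : ¬ IsMulCommutative G) {A : Type*}
    [CommGroup A] {t : G} (ht : orderOf t = 2) (φ : ↥(centralizer ({t} : Set G)) →* A)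
    {y : G} (hyt : y ∈ centralizer ({t} : Set G)) {r : ℕ} [Fact r.Prime] (hy : y ^ r = 1)
    (hφ : φ ⟨y, hyt⟩ ≠ 1)
    (hone : ∀ s : G, orderOf s = 2 → Commute y s → ∃ c : G, Commute c y ∧ c * t * c⁻¹ = s) :
    r ∣ Nat.card {s : G // orderOf s = 2 ∧ Commute y s} := by
  have hc : orderOf (φ ⟨y, hyt⟩) = r := orderOf_eq_prime (by
    rw [← map_pow, show (⟨y, hyt⟩ : ↥(centralizer ({t} : Set G))) ^ r = 1 from Subtype.ext hy,
      map_one]) hφ
  have h1 : ∀ (g : G) (hg : g⁻¹ * y * g ∈ centralizer ({t} : Set G)),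
      φ ⟨g⁻¹ * y * g, hg⟩ = φ ⟨y, hyt⟩ := by
    intro g hg
    have hs : orderOf (g * t * g⁻¹) = 2 := by
      rw [show g * t * g⁻¹ = MulAut.conj g t from rfl, MulEquiv.orderOf_eq, ht]
    have hys : Commute y (g * t * g⁻¹) := by
      rw [mem_centralizer_singleton_iff] at hg
      show y * (g * t * g⁻¹) = g * t * g⁻¹ * y
      calc y * (g * t * g⁻¹) = g * (g⁻¹ * y * g * t) * g⁻¹ := by group
        _ = g * (t * (g⁻¹ * y * g)) * g⁻¹ := by rw [hg]
        _ = g * t * g⁻¹ * y := by group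
    obtain ⟨c, hcy, hct⟩ := hone _ hs hys
    have hx : g⁻¹ * c ∈ centralizer ({t} : Set G) := by
      rw [mem_centralizer_singleton_iff]
      calc g⁻¹ * c * t = g⁻¹ * (c * t * c⁻¹) * c := by group
        _ = g⁻¹ * (g * t * g⁻¹) * c := by rw [hct]
        _ = t * (g⁻¹ * c) := by group
    have he : (⟨g⁻¹ * y * g, hg⟩ : ↥(centralizer ({t} : Set G))) =
        ⟨g⁻¹ * c, hx⟩ * ⟨y, hyt⟩ * (⟨g⁻¹ * c, hx⟩ : ↥(centralizer ({t} : Set G)))⁻¹ := by
      refine Subtype.ext ?_
      simp only [coe_mul, coe_inv]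
      rw [show g⁻¹ * c * y * (g⁻¹ * c)⁻¹ = g⁻¹ * (c * y * c⁻¹) * g by group, hcy.eq,
        mul_inv_cancel_right]
    rw [he, map_mul, map_mul, map_inv, mul_right_comm, mul_inv_cancel, one_mul]
  have h2 := dvd_card_fixed φ (fun f => hom_eq_one hna f) hy hc h1
  rw [card_fixed_cosets] at h2
  convert h2 using 1
  refine Nat.card_congr (Equiv.subtypeEquivRight fun s => ⟨fun ⟨hs, hys⟩ => ?_, fun ⟨hs, hys⟩ => ?_⟩)
  · obtain ⟨c, -, hct⟩ := hone s hs hys
    exact ⟨isConj_iff.2 ⟨c, hct⟩, hys⟩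
  · obtain ⟨c, rfl⟩ := isConj_iff.1 hs
    exact ⟨by rw [show c * t * c⁻¹ = MulAut.conj c t from rfl, MulEquiv.orderOf_eq, ht], hys⟩

/-! ### Arithmetic -/

/-- A Ree factor shared with a Fermat-congruent `q` excludes the primes of `q (q² - 1)`. -/
theorem not_dvd_psl_of_dvd_ree {r q qz : ℕ} (hr : r.Prime) (hr3 : r ≠ 3) (hz : 1 ≤ qz)
    (hd : r ∣ qz ^ 2 - qz + 1) (hq : q = qz ^ r) : ¬ r ∣ q * (q ^ 2 - 1) := by
  haveI : Fact r.Prime := ⟨hr⟩
  intro hdvd
  subst hq
  have hz2 : qz ≤ qz ^ 2 := Nat.le_self_pow two_ne_zero qz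
  have hd' : ((qz : ZMod r)) ^ 2 - qz + 1 = 0 := by
    have := (ZMod.natCast_eq_zero_iff (qz ^ 2 - qz + 1) r).2 hd
    push_cast [Nat.cast_sub hz2] at this
    exact this
  have h1 : 1 ≤ (qz ^ r) ^ 2 := Nat.one_le_pow _ _ (Nat.pow_pos hz)
  have h2 := (ZMod.natCast_eq_zero_iff (qz ^ r * ((qz ^ r) ^ 2 - 1)) r).2 hdvd
  push_cast [Nat.cast_sub h1] at h2
  rw [ZMod.pow_card] at h2
  have h3 : (qz : ZMod r) ≠ 0 := fun h0 => by
    rw [h0] at hd'
    simp at hd'
  have h4 : (qz : ZMod r) ^ 2 = 1 := sub_eq_zero.1 ((mul_eq_zero.1 h2).resolve_left h3)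
  have h5 : (qz : ZMod r) = 2 := by linear_combination h4 - hd'
  have h6 : ((3 : ℕ) : ZMod r) = 0 := by
    push_cast
    rw [h5] at h4
    linear_combination h4
  exact hr3 ((Nat.prime_dvd_prime_iff_eq hr Nat.prime_three).1
    ((ZMod.natCast_eq_zero_iff _ _).1 h6))

end Cfsg.Agent.H28.TypeR
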