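import Cfsg.Agent.H28.TypeR.Setting
import Cfsg.Agent.H56.CTwoAb.Small
import Cfsg.Agent.CharBasic.Kernel
import Cfsg.Agent.H28.TypeR.TransferLemma
import Cfsg.Agent.H84.Ward.Congr

/-!
# Orders in the setting of type R

`|C(t)| = 2 f |PSL₂(F)|`, and the divisibility from the central character at `t`.
-/

set_option autoImplicit false
set_option linter.unusedSectionVars false
set_option linter.style.haveILetI false

namespace Cfsg.Agent.H28.TypeR

open Subgroup Cfsg.Agent

universe u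

namespace Data

variable {G : Type u} [Group G] [Finite G] {F : Type} [Field F] [Fintype F] (D : Data G F)

/-- `|E| = |Fo| |PSL₂(F)|`. -/
theorem card_E : Nat.card ↥D.E = Nat.card ↥D.Fo * Nat.card (P2 F) := by
  rw [Nat.card_congr (MonoidHom.ofInjective D.psi_inj).toEquiv]
  let φ : ↥D.Fo × ↥D.ψ.range → ↥D.E := fun p => ⟨(p.1 : G) * p.2,
    mul_mem (D.Fo_le p.1.2) (D.range_le p.2.2)⟩
  have hinj : Function.Injective φ := by
    rintro ⟨a, b⟩ ⟨a', b'⟩ h
    have h' : (a : G) * b = (a' : G) * b' := congrArg Subtype.val h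
    have hm : (a' : G)⁻¹ * a ∈ D.Fo ⊓ D.ψ.range := mem_inf.2
      ⟨mul_mem (inv_mem a'.2) a.2, by
        rw [show (a' : G)⁻¹ * a = b' * (b : G)⁻¹ by
          rw [eq_mul_inv_iff_mul_eq, mul_assoc, h', inv_mul_cancel_left]]
        exact mul_mem b'.2 (inv_mem b.2)⟩
    rw [D.Fo_inf, mem_bot, inv_mul_eq_one] at hm
    rw [← hm, mul_right_inj] at h'
    exact Prod.ext (Subtype.ext hm.symm) (Subtype.ext h')
  have hsurj : Function.Surjective φ := by
    have hn : D.Fo ≤ normalizer (D.ψ.range : Set G) := fun y hy => mem_normalizer_iff.2 fun g => by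
      constructor
      · exact D.psi_conj_mem hy
      · intro hg
        have := D.psi_conj_mem (inv_mem hy) hg
        rwa [inv_inv, mul_assoc, mul_assoc, inv_mul_cancel, mul_one, inv_mul_cancel_left] at this
    intro x
    have hx : (x : G) ∈ D.Fo ⊔ D.ψ.range := by rw [sup_comm, D.Fo_sup]; exact x.2
    rw [← SetLike.mem_coe, coe_mul_of_left_le_normalizer_right _ _ hn] at hx
    obtain ⟨a, ha, b, hb, h⟩ := hx
    exact ⟨(⟨a, ha⟩, ⟨b, hb⟩), Subtype.ext h⟩
  rw [← Nat.card_prod]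
  exact (Nat.card_congr (Equiv.ofBijective φ ⟨hinj, hsurj⟩)).symm

/-- `|C(t)| = |Fo| q (q² - 1)`. -/
theorem card_centralizer :
    Nat.card (centralizer ({D.t} : Set G)) =
      Nat.card ↥D.Fo * (Fintype.card F * (Fintype.card F ^ 2 - 1)) := by
  obtain ⟨h1, h2, hc, hd, hs⟩ := D.prod
  let φ : ↥(zpowers D.t) × ↥D.E →* G :=
    (zpowers D.t).subtype.noncommCoprod D.E.subtype fun a b => hc a a.2 b b.2
  have hinj : Function.Injective φ := by
    rw [injective_iff_map_eq_one]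
    rintro ⟨a, b⟩ hab
    have hab' : (a : G) * b = 1 := hab
    have hb : (b : G) = (a : G)⁻¹ := eq_inv_of_mul_eq_one_right hab'
    have ha : (a : G) = 1 := by
      have hm : (a : G) ∈ zpowers D.t ⊓ D.E :=
        mem_inf.2 ⟨a.2, inv_mem_iff.1 (hb ▸ b.2)⟩
      rw [hd] at hm; exact mem_bot.1 hm
    exact Prod.ext (Subtype.ext ha) (Subtype.ext (by rw [hb, ha, inv_one]; rfl))
  have hr : φ.range = centralizer ({D.t} : Set G) := by
    refine le_antisymm ?_ ?_
    · rintro _ ⟨⟨a, b⟩, rfl⟩; exact mul_mem (h1 a.2) (h2 b.2)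
    · rw [← hs]
      exact sup_le (fun a ha => ⟨(⟨a, ha⟩, 1), by show a * 1 = a; exact mul_one a⟩)
        fun b hb => ⟨(1, ⟨b, hb⟩), by show 1 * b = b; exact one_mul b⟩
  have hodd : Fintype.card F % 2 = 1 := by have := D.mod_eight; omega
  rw [← hr, ← Nat.card_congr (MonoidHom.ofInjective hinj).toEquiv, Nat.card_prod,
    Nat.card_zpowers, D.invol, D.card_E, ← H56.CTwoAb.card_psl_two_odd hodd]
  ring

/-- The degree divides `|G : C(t)|` times the value at `t`. -/
theorem deg_dvd_index_mul (χ : Cfsg.IrrCharacter G) {d v : ℤ} (hd : (χ : G → ℂ) 1 = (d : ℂ))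
    (hv : (χ : G → ℂ) D.t = (v : ℂ)) :
    d ∣ ((centralizer ({D.t} : Set G)).index : ℤ) * v := by
  have hd0 : d ≠ 0 := by
    obtain ⟨n, hn, h1, -⟩ := CharBasic.IsIrr.degree_dvd χ.2
    rintro rfl
    rw [h1, Int.cast_zero, Nat.cast_eq_zero] at hd
    omega
  have h := CharBasic.IsIrr.isIntegral_centralChar χ.2 D.t
  rw [hd, hv] at h
  have e : ((centralizer ({D.t} : Set G)).index : ℂ) * (v : ℂ) / (d : ℂ) =
      algebraMap ℚ ℂ ((((centralizer ({D.t} : Set G)).index : ℚ) * v) / d) := by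
    simp only [map_div₀, map_mul, map_natCast, map_intCast]
  rw [e, isIntegral_algebraMap_iff (algebraMap ℚ ℂ).injective] at h
  obtain ⟨z, hz⟩ := IsIntegrallyClosed.isIntegral_iff.1 h
  refine ⟨z, ?_⟩
  have hdq : (d : ℚ) ≠ 0 := Int.cast_ne_zero.2 hd0
  rw [eq_intCast, eq_div_iff hdq] at hz
  have : ((((centralizer ({D.t} : Set G)).index : ℤ) * v : ℤ) : ℚ) = ((d * z : ℤ) : ℚ) := by
    push_cast; linear_combination -hz
  exact_mod_cast this

/-- `χ(1) ≡ χ(t)` modulo `8`. -/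
theorem eight_dvd [Fintype G] {S : Subgroup G} (hS : Nat.card S = 8) (hsq : ∀ x ∈ S, x * x = 1)
    (χ : Cfsg.IrrCharacter G) {v : ℤ} (hv : (χ : G → ℂ) D.t = (v : ℂ)) :
    (8 : ℤ) ∣ (Cfsg.charDegree (χ : G → ℂ) : ℤ) - v := by
  have := H84.Ward.deg_congr S (t := D.t) (fun x hx hx1 => D.conj_invol _ _ D.invol
    (orderOf_eq_prime (by rw [pow_two]; exact hsq x hx) hx1)) χ hv
  rwa [hS] at this

include D in
/-- The only linear character is the trivial one. -/
theorem apply_eq_one [Fintype G] (χ : Cfsg.IrrCharacter G) (h : (χ : G → ℂ) 1 = 1) (g : G) :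
    (χ : G → ℂ) g = 1 := by
  haveI := D.simple
  obtain ⟨l, hl⟩ := CharInduce.IsChar.exists_hom_of_degree_one (CharBasic.IsIrr.isCharacter χ.2) h
  rw [hl, hom_eq_one D.nonab l, MonoidHom.one_apply, Units.val_one]

end Data

end Cfsg.Agent.H28.TypeR
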