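import Cfsg.Agent.H28.TypeR.Input
import Cfsg.Agent.H28.TypeR.Orders

/-!
# The main case is impossible with a non-trivial field part

`Main` gives `|G : C(t)| = q² (q² - q + 1)`, so every twisted lattice has a row of degree one and
there is only one twist.  What is left is the pair case of the trivial twist.
-/

set_option autoImplicit false
set_option linter.unusedSectionVars false
set_option linter.style.haveILetI false

namespace Cfsg.Agent.H28.TypeR

open Subgroup Cfsg Cfsg.Agent Cfsg.Agent.BlockBasic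
open Cfsg.Agent.H84.Ward (TData)
open Cfsg.Agent.H40.WardE (ExtPair Twists)

universe u w

variable {G : Type u} [Group G] [Fintype G] {F : Type} [Field F] [Fintype F] {D : Data G F}
  [Fintype ↥D.E] {T : TData G ↥D.E} {P : ExtPair G} {Λ : Type w} [Fintype Λ] {S : Twists P Λ}
  [Fintype ↥P.K] (I : BlockInput T S) {lam : ↥P.K →* ℂˣ} (hlamFo : ∀ z ∈ S.Fo, lam z = 1)
  (hlam : P.Adapted lam)

include hlamFo hlam in
/-- The index of `C(t)` in the main case. -/
theorem index_of_main (hTt : T.t = D.t) (hΛ : Fintype.card Λ = Nat.card ↥D.Fo)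
    (hQ : I.Q = (Fintype.card F : ℤ)) {l : Λ} (h : (I.toBlock hlamFo hlam l).Main) :
    ((centralizer ({D.t} : Set G)).index : ℤ) = I.Q ^ 2 * (I.Q ^ 2 - I.Q + 1) := by
  have hE : 2 * (Nat.card ↥D.E : ℤ) =
      (Nat.card ↥D.Fo : ℤ) * ((Fintype.card F : ℤ) * ((Fintype.card F : ℤ) ^ 2 - 1)) := by
    have h0 : 2 * Nat.card ↥D.E =
        Nat.card ↥D.Fo * (Fintype.card F * (Fintype.card F ^ 2 - 1)) := by
      rw [← T.card_centralizer, hTt, D.card_centralizer]
    have h1 := congrArg (fun n : ℕ => (n : ℤ)) h0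
    have h2 : 1 ≤ Fintype.card F ^ 2 := Nat.one_le_pow _ _ Fintype.card_pos
    push_cast [h2] at h1
    exact h1
  have hG : (Nat.card G : ℤ) =
      ((centralizer ({D.t} : Set G)).index : ℤ) * (2 * (Nat.card ↥D.E : ℤ)) := by
    rw [← Subgroup.index_mul_card (centralizer ({D.t} : Set G))]
    push_cast
    rw [← show (Nat.card ↥(centralizer ({T.t} : Set G)) : ℤ) = 2 * (Nat.card ↥D.E : ℤ) by
      rw [T.card_centralizer]; push_cast; rfl, hTt]
  have hf : (Nat.card ↥D.Fo : ℚ) ≠ 0 := Nat.cast_ne_zero.2 Nat.card_pos.ne'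
  have hE0 : (Nat.card ↥D.E : ℚ) ≠ 0 := Nat.cast_ne_zero.2 Nat.card_pos.ne'
  have hq : (5 : ℚ) ≤ (Fintype.card F : ℚ) := by exact_mod_cast D.five
  have hEq : 2 * (Nat.card ↥D.E : ℚ) =
      (Nat.card ↥D.Fo : ℚ) * ((Fintype.card F : ℚ) * ((Fintype.card F : ℚ) ^ 2 - 1)) := by
    have := congrArg (fun z : ℤ => (z : ℚ)) hE
    push_cast at this
    exact this
  have hGq : (Nat.card G : ℚ) =
      ((centralizer ({D.t} : Set G)).index : ℚ) * (2 * (Nat.card ↥D.E : ℚ)) := by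
    have := congrArg (fun z : ℤ => (z : ℚ)) hG
    push_cast at this
    exact this
  have hm : I.kval * ((I.Q : ℚ) * ((I.Q : ℚ) ^ 2 - I.Q + 1)) = (I.Q : ℚ) ^ 2 - 1 := h
  rw [BlockInput.kval, hΛ, hGq, hQ, Int.cast_natCast] at hm
  have hidx : ((centralizer ({D.t} : Set G)).index : ℚ) ≠ 0 :=
    Nat.cast_ne_zero.2 Subgroup.index_ne_zero_of_finite
  field_simp at hm
  have key : ((centralizer ({D.t} : Set G)).index : ℚ) * ((Fintype.card F : ℚ) ^ 2 - 1) *
      (Nat.card ↥D.Fo : ℚ) =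
      (Fintype.card F : ℚ) ^ 2 * ((Fintype.card F : ℚ) ^ 2 - Fintype.card F + 1) *
        ((Fintype.card F : ℚ) ^ 2 - 1) * (Nat.card ↥D.Fo : ℚ) := by
    linear_combination (Fintype.card F : ℚ) * ((Fintype.card F : ℚ) ^ 2 - Fintype.card F + 1) * hEq - hm
  have h1 : (Fintype.card F : ℚ) ^ 2 - 1 ≠ 0 := by nlinarith
  have h2 := mul_right_cancel₀ hf key
  have h3 := mul_right_cancel₀ h1 h2
  rw [hQ]
  exact_mod_cast h3

include hlamFo hlam in
/-- **Only the pair case of the trivial twist is left.** -/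
theorem exists_pair (hTt : T.t = D.t) (hFoK : D.Fo ≤ P.K) (hel : I.el = twistExt S hFoK)
    (hΛ : Fintype.card Λ = Nat.card ↥D.Fo) (hne : D.Fo ≠ ⊥)
    (hQ : I.Q = (Fintype.card F : ℤ)) (hq : 27 ≤ Fintype.card F) :
    ∃ l, I.el l = 1 ∧ (I.toBlock hlamFo hlam l).Pair (Nat.card ↥S.T0) := by
  obtain ⟨⟨l, hl⟩, hex⟩ := I.exists_el hFoK hel
  refine ⟨l, hl, (I.principal hlamFo hlam D.card_syl (fun y hy => D.sq_syl hy) hl).resolve_left
    fun hM => ?_⟩
  obtain ⟨l', hl'⟩ := hex (by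
    rw [hΛ]
    exact (Subgroup.one_lt_card_iff_ne_bot _).2 hne)
  refine hl' (I.el_eq_one hlamFo hlam D.card_syl (fun y hy => D.sq_syl hy)
    (by have := I.hQ; omega) ((I.main_iff hlamFo hlam l l').1 hM) (fun χ => ?_)
    fun χ h1 g => D.apply_eq_one χ h1 g)
  rw [← index_of_main I hlamFo hlam hTt hΛ hQ hM]
  exact D.deg_dvd_index_mul χ (by rw [(H83.charDegree_eq χ.2).1]; norm_num)
    (hTt ▸ Blocks.tv_spec T χ)

end Cfsg.Agent.H28.TypeR
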