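import Cfsg.Agent.H28.TypeR.Setting

/-!
# The main route

What the local analysis leaves of a non-trivial field part.
-/

set_option autoImplicit false

namespace Cfsg.Agent.H28.TypeR

open Subgroup Cfsg.Agent

universe u

variable {G : Type u} [Group G] [Finite G] {F : Type} [Field F] [Fintype F]

/-- A non-trivial field part of order prime to `|PSL₂(F)|` with a large fixed field, `F` of
characteristic three. -/
structure Route (D : Data G F) : Prop where
  ne_bot : D.Fo ≠ ⊥
  three : ∃ m, Odd m ∧ Fintype.card F = 3 ^ m
  fixed : 27 ≤ Nat.card {a : F // ∀ y : ↥D.Fo, D.σ y a = a}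
  coprime : (Nat.card ↥D.Fo).Coprime (Nat.card (P2 F))
  not_three : ¬ 3 ∣ Nat.card ↥D.Fo

/-- The route is impossible and the local analysis forces it. -/
theorem fo_eq_bot (D : Data G F) (local_ : D.Fo ≠ ⊥ → Route D) (no : Route D → False) :
    D.Fo = ⊥ := by
  by_contra h
  exact no (local_ h)

end Cfsg.Agent.H28.TypeR
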