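import Cfsg.Agent.H28.TypeR.PslBase
import Cfsg.Agent.H28.TypeR.Route
import Cfsg.Agent.H15.Ward.PslTori

/-!
# The four group `⟨t, ψ v⟩` with the elements inducing its normaliser

`v`, `b`, `n` over the prime field; `w = g ψ(n) g⁻¹` cycles the four group, centralises `Fo` and
fixes the involution `s = g t g⁻¹`.
-/

set_option autoImplicit false
set_option linter.unusedSectionVars false

namespace Cfsg.Agent.H28.TypeR

open Subgroup Cfsg.Agent

universe u

variable {G : Type u} [Group G] [Finite G] {F : Type} [Field F] [Fintype F]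

/-- The elements around one involution `v` of `ψ(PSL₂)`. -/
structure Pre (D : Data G F) where
  v : P2 F
  b : P2 F
  n : P2 F
  base : PslBase v b n
  tori : H15.Ward.Tori F
  tori_v : tori.v = v
  tori_mem : ∀ y, y ∈ tori.K ↔ Commute y v ∧ Odd (orderOf y)
  b_inv : ∀ y ∈ tori.K, b * y * b⁻¹ = y⁻¹
  g : G
  w : G
  s : G
  g_t : g * D.t * g⁻¹ = s
  g_n : g * D.ψ n * g⁻¹ = w
  g_Fo : ∀ y, y ∈ D.Fo ↔ g * y * g⁻¹ ∈ D.Fo
  w_ord : orderOf w = 3
  w_W : ∀ x ∈ closure ({D.t, D.ψ v} : Set G), w * x * w⁻¹ ∈ closure ({D.t, D.ψ v} : Set G)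
  w_fpf : ∀ x ∈ closure ({D.t, D.ψ v} : Set G), w * x * w⁻¹ = x → x = 1
  w_Fo : ∀ y ∈ D.Fo, Commute w y
  w_T0 : ∀ x ∈ tori.K.map D.ψ, w * x * w⁻¹ ∈ tori.K.map D.ψ
  s_mem : ∃ x ∈ closure ({D.t, D.ψ v} : Set G), s = D.ψ b * x

namespace Pre

variable {D : Data G F} (P : Pre D)

/-- The four group. -/
def W : Subgroup G := closure ({D.t, D.ψ P.v} : Set G)

/-- The odd torus. -/
def T0 : Subgroup G := P.tori.K.map D.ψ

/-- The odd part of `C(W)`. -/
def K : Subgroup G := P.T0 ⊔ D.Fo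

/-- A Sylow 2-subgroup. -/
def Sy : Subgroup G := closure ({D.t, D.ψ P.v, D.ψ P.b} : Set G)

theorem v_mul_self : D.ψ P.v * D.ψ P.v = 1 := by rw [← map_mul, P.base.v_sq, map_one]

theorem b_mul_self : D.ψ P.b * D.ψ P.b = 1 := by rw [← map_mul, P.base.b_sq, map_one]

theorem commute_s : Commute P.w P.s := by
  rw [← P.g_t, ← P.g_n]
  have h : Commute (D.ψ P.n) D.t := by
    obtain ⟨h1, h2, hc, -, -⟩ := D.prod
    exact (hc D.t (mem_zpowers _) _ (D.range_le ⟨P.n, rfl⟩)).symm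
  exact (Commute.conj_iff _).2 h

theorem commute_Fo_n {y : G} (hy : y ∈ D.Fo) : Commute y (D.ψ P.n) := by
  have := D.conj ⟨y, hy⟩ P.n
  rw [P.base.fix_n] at this
  exact mul_inv_eq_iff_eq_mul.1 this

end Pre

end Cfsg.Agent.H28.TypeR
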