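import Cfsg.Agent.H28.TypeR.PslBase
import Cfsg.Agent.H15.Ward.PslTori

/-!
# The centraliser of the base involution of `PSL₂(q)`
-/

set_option autoImplicit false
set_option linter.unusedSectionVars false
set_option linter.style.haveILetI false

namespace Cfsg.Agent.H28.TypeR.PslBase

open Subgroup Cfsg.Agent Cfsg.Agent.Linear.Dickson

variable {F : Type} [Field F] [Fintype F] {v b n : P2 F} (B : PslBase v b n)
  (h8 : Fintype.card F % 8 = 3 ∨ Fintype.card F % 8 = 5) (h11 : 11 ≤ Fintype.card F)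

include B in
theorem n_ne_one : n ≠ 1 := fun e => by
  have := B.n_ord; rw [e, orderOf_one] at this; omega

include B in
theorem n_cube : n * n * n = 1 := by
  have := pow_orderOf_eq_one n
  rwa [B.n_ord, pow_succ, pow_two] at this

include B in
theorem vb_ne_one : v * b ≠ 1 := fun e => B.vb_ne (by
  rw [eq_inv_of_mul_eq_one_left e, inv_eq_of_mul_eq_one_left B.b_sq])

include B in
theorem conj_vb : n * (v * b) * n⁻¹ = v := by
  rw [show n * (v * b) * n⁻¹ = (n * v * n⁻¹) * (n * b * n⁻¹) by group, B.conj_v, B.conj_b,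
    ← mul_assoc, B.comm.eq, mul_assoc, B.b_sq, mul_one]

include B h8 in
theorem commute_of_cen {g : P2 F} (hg : g ∈ cen v) : Commute g v :=
  cen_comm B.v_ne hg (mem_cen_self v)

include B h8 in
/-- The centraliser of `v`. -/
theorem centraliser_cases {g : P2 F} (hg : Commute g v) :
    g ∈ cen v ∨ (g * g = 1 ∧ ∀ y ∈ cen v, g * y * g⁻¹ = y⁻¹) :=
  normalizer_cases (H88.Walter.PSL.not_isUni (odd_card h8) B.v_ne B.v_sq)
    (H29.Ward.Psl.conj_iff_of_commute hg)

include B h8 h11 in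
theorem b_notMem : b ∉ cen v := by
  obtain ⟨T, -, -, hodd, -, hcov, -, -⟩ := H29.Ward.Psl.torus_facts h8 B.v_ne B.v_sq
  intro hb
  have h1 : ∀ x : P2 F, x ∈ T → x * x = 1 → x = 1 := fun x hx hxx =>
    H29.Walter.coprime_two_of_odd (Odd.of_dvd_nat hodd (Subgroup.orderOf_dvd_natCard T hx)) hxx
  rcases hcov b hb with h | h
  · exact B.b_ne (h1 b h B.b_sq)
  · refine B.vb_ne_one (h1 _ h ?_)
    rw [show v * b * (v * b) = v * (b * v) * b by group, B.comm.eq, ← mul_assoc, B.v_sq, one_mul,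
      B.b_sq]

include B h8 h11 in
theorem b_inverts {y : P2 F} (hy : y ∈ cen v) : b * y * b⁻¹ = y⁻¹ :=
  ((B.centraliser_cases h8 B.comm).resolve_left (B.b_notMem h8 h11)).2 y hy

include B h8 h11 in
/-- The centraliser of `v` is `cen v ∪ b (cen v)`. -/
theorem centraliser_eq {g : P2 F} (hg : Commute g v) : g ∈ cen v ∨ b * g ∈ cen v := by
  rcases B.centraliser_cases h8 hg with h | ⟨-, h⟩
  · exact Or.inl h
  right
  obtain ⟨y, hy, hy2⟩ := B.exists_cen_sq_ne h8 h11
  refine H29.Ward.Psl.mem_cen_of_commute_elt (odd_card h8) B.v_ne B.v_sq hy hy2 ?_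
  have e : b * g * y * (b * g)⁻¹ = y := by
    rw [show b * g * y * (b * g)⁻¹ = b * (g * y * g⁻¹) * b⁻¹ by group, h y hy,
      show b * y⁻¹ * b⁻¹ = (b * y * b⁻¹)⁻¹ by group, B.b_inverts h8 h11 hy, inv_inv]
  exact mul_inv_eq_iff_eq_mul.1 e

include B h8 h11 in
/-- The four group is self-centralising. -/
theorem self_cent {g : P2 F} (hv : Commute g v) (hb : Commute g b) :
    g = 1 ∨ g = v ∨ g = b ∨ g = v * b := by
  obtain ⟨T, -, -, hodd, -, hcov, -, -⟩ := H29.Ward.Psl.torus_facts h8 B.v_ne B.v_sq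
  have key : ∀ c ∈ cen v, Commute c b → c = 1 ∨ c = v := by
    intro c hc hcb
    have e := B.b_inverts h8 h11 hc
    rw [← hcb.eq, mul_inv_cancel_right] at e
    have h2 : c * c = 1 := eq_inv_iff_mul_eq_one.1 e
    rcases hcov c hc with h | h
    · exact Or.inl (H29.Walter.coprime_two_of_odd
        (Odd.of_dvd_nat hodd (Subgroup.orderOf_dvd_natCard T h)) h2)
    · right
      have h3 : v * c = 1 := H29.Walter.coprime_two_of_odd
        (Odd.of_dvd_nat hodd (Subgroup.orderOf_dvd_natCard T h)) (by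
          rw [show v * c * (v * c) = v * (c * v) * c by group, (B.commute_of_cen h8 hc).eq,
            ← mul_assoc, B.v_sq, one_mul, h2])
      rw [eq_inv_of_mul_eq_one_right h3, inv_eq_of_mul_eq_one_left B.v_sq]
  rcases B.centraliser_eq h8 h11 hv with h | h
  · rcases key g h hb with e | e
    · exact Or.inl e
    · exact Or.inr (Or.inl e)
  · have hg : g = b * (b * g) := by rw [← mul_assoc, B.b_sq, one_mul]
    rcases key _ h ((Commute.refl b).mul_left hb) with e | e <;> rw [hg, e]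
    · exact Or.inr (Or.inr (Or.inl (mul_one b)))
    · exact Or.inr (Or.inr (Or.inr B.comm.eq))

include B h8 h11 in
/-- The odd torus of `v`. -/
theorem exists_tori : ∃ T : H15.Ward.Tori F, T.v = v ∧
    (∀ y, y ∈ T.K ↔ Commute y v ∧ Odd (orderOf y)) ∧ ∀ y ∈ T.K, b * y * b⁻¹ = y⁻¹ := by
  obtain ⟨T, hle, -, hodd, hmem, -, h3, h5'⟩ := H29.Ward.Psl.torus_facts h8 B.v_ne B.v_sq
  refine ⟨⟨by omega, h8, v, B.v_ne, B.v_sq, T, hle, h3, h5'⟩, rfl, fun y => ?_,
    fun y hy => B.b_inverts h8 h11 (hle hy)⟩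
  show y ∈ T ↔ _
  rw [hmem]
  refine ⟨fun h => ⟨B.commute_of_cen h8 h.1, h.2⟩, fun h => ⟨?_, h.2⟩⟩
  by_cases hy : y = 1
  · rw [hy]; exact one_mem _
  exact H29.Ward.Psl.mem_cen_of_commute (odd_card h8) B.v_ne B.v_sq h.1
    fun e => hy (H29.Walter.coprime_two_of_odd h.2 e)

end Cfsg.Agent.H28.TypeR.PslBase
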