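import Cfsg.Agent.H28.TypeR.Pre
import Cfsg.Agent.H28.TypeR.PslBaseFacts
import Cfsg.Agent.H28.TypeR.Orders
import Mathlib.GroupTheory.Sylow

/-!
# The elements around an involution exist
-/

set_option autoImplicit false
set_option linter.unusedSectionVars false
set_option linter.style.haveILetI false

namespace Cfsg.Agent.H28.TypeR

open Subgroup Cfsg.Agent

universe u

variable {G : Type u} [Group G] [Finite G] {F : Type} [Field F] [Fintype F]

namespace Data

variable (D : Data G F)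

theorem mem_cent_of_E {e : G} (he : e ∈ D.E) : e ∈ centralizer ({D.t} : Set G) := D.prod.2.1 he

theorem t_sq : D.t * D.t = 1 := by
  rw [← pow_two, ← D.invol, pow_orderOf_eq_one]

theorem sigma_cases {σ : G} (hσ : σ ∈ zpowers D.t) : σ = 1 ∨ σ = D.t := by
  have h2 : D.t ^ (2 : ℤ) = 1 := by rw [zpow_two, D.t_sq]
  obtain ⟨k, rfl⟩ := mem_zpowers_iff.1 hσ
  rcases Int.even_or_odd k with ⟨j, rfl⟩ | ⟨j, rfl⟩
  · left; rw [← two_mul, zpow_mul, h2, one_zpow]
  · right; rw [zpow_add, zpow_mul, h2, one_zpow, one_mul, zpow_one]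

theorem t_commute {e : G} (he : e ∈ D.E) : Commute D.t e :=
  (mem_centralizer_singleton_iff.1 (D.mem_cent_of_E he)).symm

theorem t_notMem_E : D.t ∉ D.E := fun h => by
  obtain ⟨-, -, -, hd, -⟩ := D.prod
  have : D.t ∈ zpowers D.t ⊓ D.E := mem_inf.2 ⟨mem_zpowers _, h⟩
  rw [hd, mem_bot] at this
  have h2 := D.invol
  rw [this, orderOf_one] at h2; omega

theorem decompE {e : G} (he : e ∈ D.E) : ∃ a : P2 F, ∃ y ∈ D.Fo, e = D.ψ a * y := by
  have hn : D.Fo ≤ normalizer (D.ψ.range : Set G) := fun y hy => mem_normalizer_iff.2 fun g => by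
    refine ⟨D.psi_conj_mem hy, fun hg => ?_⟩
    have := D.psi_conj_mem (inv_mem hy) hg
    rwa [inv_inv, mul_assoc, mul_assoc, inv_mul_cancel, mul_one, inv_mul_cancel_left] at this
  rw [← D.Fo_sup, ← SetLike.mem_coe, coe_mul_of_right_le_normalizer_left _ _ hn] at he
  obtain ⟨x, ⟨a, rfl⟩, y, hy, rfl⟩ := he
  exact ⟨a, y, hy, rfl⟩

theorem decompC {x : G} (hx : x ∈ centralizer ({D.t} : Set G)) :
    ∃ σ ∈ zpowers D.t, ∃ a : P2 F, ∃ y ∈ D.Fo, x = σ * (D.ψ a * y) := by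
  obtain ⟨-, -, hc, -, hs⟩ := D.prod
  have hn : zpowers D.t ≤ normalizer (D.E : Set G) := fun σ hσ => mem_normalizer_iff.2 fun e => by
    constructor <;> intro he
    · rwa [hc σ hσ e he, mul_inv_cancel_right]
    · have h2 := hc σ⁻¹ (inv_mem hσ) _ he
      rw [show σ⁻¹ * (σ * e * σ⁻¹) = e * σ⁻¹ by group] at h2
      rwa [mul_right_cancel h2]
  rw [← hs, ← SetLike.mem_coe, coe_mul_of_left_le_normalizer_right _ _ hn] at hx
  obtain ⟨σ, hσ, e, he, rfl⟩ := hx
  obtain ⟨a, y, hy, rfl⟩ := D.decompE he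
  exact ⟨σ, hσ, a, y, hy, rfl⟩

theorem commute_field {x : P2 F} (hx : ∀ σ : RingAut F, fieldAut σ x = x) {y : G} (hy : y ∈ D.Fo) :
    Commute y (D.ψ x) := by
  have h := D.conj ⟨y, hy⟩ x
  rw [hx] at h
  exact mul_inv_eq_iff_eq_mul.1 h

theorem conj_mul (a x : P2 F) {y : G} (hy : y ∈ D.Fo) :
    D.ψ a * y * D.ψ x * (D.ψ a * y)⁻¹ = D.ψ (a * fieldAut (D.σ ⟨y, hy⟩) x * a⁻¹) := by
  rw [map_mul, map_mul, map_inv, ← D.conj ⟨y, hy⟩ x]
  group

/-- An element of `C(t)` centralising a fixed `ψ x`: the `ψ` part centralises `x`. -/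
theorem commute_part {x a : P2 F} (hx : ∀ σ : RingAut F, fieldAut σ x = x) {σ y : G}
    (hσ : σ ∈ zpowers D.t) (hy : y ∈ D.Fo) (h : Commute (σ * (D.ψ a * y)) (D.ψ x)) :
    Commute a x := by
  obtain ⟨-, -, hc, -, -⟩ := D.prod
  have hσx : Commute σ (D.ψ x) := hc σ hσ _ (D.range_le ⟨x, rfl⟩)
  have h1 : Commute (D.ψ a * y) (D.ψ x) := by
    have := hσx.inv_left.mul_left h
    rwa [inv_mul_cancel_left] at this
  have h2 : Commute (D.ψ a) (D.ψ x) := by
    have := h1.mul_left (D.commute_field hx hy).inv_left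
    rwa [mul_inv_cancel_right] at this
  exact D.psi_inj (by rw [map_mul, map_mul]; exact h2.eq)

/-- An odd-order element of `C(t)`: no `t`. -/
theorem sigma_eq_one {x σ : G} (hσ : σ ∈ zpowers D.t) {e : G} (he : e ∈ D.E) (hx : x = σ * e)
    (ho : Odd (orderOf x)) : σ = 1 := by
  obtain ⟨-, -, hc, hd, -⟩ := D.prod
  have h := pow_orderOf_eq_one x
  nth_rewrite 1 [hx] at h
  rw [(show Commute σ e from hc σ hσ e he).mul_pow] at h
  have hm : σ ^ orderOf x ∈ zpowers D.t ⊓ D.E := mem_inf.2 ⟨pow_mem hσ _, by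
    rw [eq_inv_of_mul_eq_one_left h]; exact inv_mem (pow_mem he _)⟩
  rw [hd, mem_bot] at hm
  have h2 : σ * σ = 1 := by
    rcases D.sigma_cases hσ with e | e <;> rw [e]
    exacts [one_mul 1, D.t_sq]
  obtain ⟨k, hk⟩ := ho
  rwa [hk, pow_succ, pow_mul, pow_two, h2, one_pow, one_mul] at hm

/-- An element of `E` of order prime to `|Fo|` lies in `ψ(PSL₂)`. -/
theorem field_eq_one {a : P2 F} {y : G} (hy : y ∈ D.Fo) {k : ℕ} (hk : k.Coprime (Nat.card ↥D.Fo))
    (h : (D.ψ a * y) ^ k = 1) : y = 1 := by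
  have key : ∀ i : ℕ, ∃ c : P2 F, (D.ψ a * y) ^ i = D.ψ c * y ^ i := by
    intro i
    induction i with
    | zero => exact ⟨1, by simp⟩
    | succ i ih =>
      obtain ⟨c, hc⟩ := ih
      refine ⟨c * fieldAut (D.σ ⟨y ^ i, pow_mem hy i⟩) a, ?_⟩
      rw [pow_succ, hc, map_mul, ← D.conj ⟨y ^ i, pow_mem hy i⟩ a, pow_succ]
      group
  obtain ⟨c, hc⟩ := key k
  rw [h] at hc
  have hm : y ^ k ∈ D.Fo ⊓ D.ψ.range := mem_inf.2 ⟨pow_mem hy k, by
    rw [show y ^ k = (D.ψ c)⁻¹ from eq_inv_of_mul_eq_one_right hc.symm]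
    exact inv_mem ⟨c, rfl⟩⟩
  rw [D.Fo_inf, mem_bot] at hm
  exact orderOf_eq_one_iff.1 (Nat.eq_one_of_dvd_coprimes hk (orderOf_dvd_of_pow_eq_one hm)
    (Subgroup.orderOf_dvd_natCard _ hy))

theorem three_eq_zero {D : Data G F} (R : Route D) : (3 : F) = 0 := by
  obtain ⟨m, -, hm⟩ := R.three
  have h := Nat.cast_card_eq_zero F
  rw [hm, Nat.cast_pow, pow_eq_zero_iff'] at h
  exact_mod_cast h.1

theorem card_mod {D : Data G F} (R : Route D) :
    Fintype.card F % 8 = 3 ∧ 27 ≤ Fintype.card F := by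
  obtain ⟨m, ⟨k, hk⟩, hm⟩ := R.three
  refine ⟨by rw [hm, hk, pow_succ, pow_mul, Nat.mul_mod, Nat.pow_mod]; norm_num, ?_⟩
  exact R.fixed.trans ((Nat.card_le_card_of_injective Subtype.val Subtype.val_injective).trans
    Nat.card_eq_fintype_card.le)

end Data

variable {D : Data G F} {v b n : P2 F}

theorem exists_sylow_closure (B : PslBase v b n)
    (h8 : Fintype.card F % 8 = 3 ∨ Fintype.card F % 8 = 5) (h11 : 11 ≤ Fintype.card F) :
    ∃ S : Sylow 2 G, (S : Subgroup G) = closure ({D.t, D.ψ v, D.ψ b} : Set G) ∧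
      ∀ x, x ∈ (S : Subgroup G) ↔ ∃ σ ∈ zpowers D.t, ∃ a : P2 F,
        (a = 1 ∨ a = v ∨ a = b ∨ a = v * b) ∧ x = σ * D.ψ a := by
  classical
  haveI : Fact (Nat.Prime 2) := ⟨Nat.prime_two⟩
  set V : Subgroup (P2 F) := centralizer ({v, b} : Set (P2 F)) with hV
  have hmem : ∀ a, a ∈ V ↔ a = 1 ∨ a = v ∨ a = b ∨ a = v * b := by
    intro a
    rw [hV, mem_centralizer_iff]
    constructor
    · intro h
      exact B.self_cent h8 h11 (h v (Or.inl rfl)).symm (h b (Or.inr rfl)).symm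
    · have hvb : v * b = b * v := B.comm.eq.symm
      intro ha z hz
      simp only [Set.mem_insert_iff, Set.mem_singleton_iff] at hz
      rcases ha with e | e | e | e <;> rcases hz with e' | e' <;>
        simp only [e, e', one_mul, mul_one]
      all_goals first
        | exact hvb
        | exact hvb.symm
        | simp [mul_assoc, ← hvb,
            show ∀ x, b * (v * x) = v * (b * x) from fun x => by rw [← mul_assoc, ← hvb, mul_assoc]]
  have hV4 : Nat.card V = 4 := by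
    have h : (V : Set (P2 F)) = {1, v, b, v * b} := Set.ext fun a => by
      rw [SetLike.mem_coe, hmem]; simp
    rw [← SetLike.coe_sort_coe, Nat.card_coe_set_eq, h,
      Set.ncard_insert_of_notMem (by simp [Ne.symm B.v_ne, Ne.symm B.b_ne, Ne.symm B.vb_ne_one]),
      Set.ncard_insert_of_notMem (by
        simp only [Set.mem_insert_iff, Set.mem_singleton_iff, not_or]
        exact ⟨B.vb_ne, fun e => B.b_ne (left_eq_mul.1 e)⟩),
      Set.ncard_pair (fun e => B.v_ne (right_eq_mul.1 e))]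
  obtain ⟨hz, -, hc, hd, -⟩ := D.prod
  let φ : ↥(zpowers D.t) × ↥V →* G :=
    (zpowers D.t).subtype.noncommCoprod (D.ψ.comp V.subtype) fun σ a =>
      hc σ σ.2 _ (D.range_le ⟨(a : P2 F), rfl⟩)
  have hinj : Function.Injective φ := by
    rw [injective_iff_map_eq_one]
    rintro ⟨σ, a⟩ h
    have h' : (σ : G) * D.ψ a = 1 := h
    have hm : (σ : G) ∈ zpowers D.t ⊓ D.E := mem_inf.2 ⟨σ.2, by
      rw [eq_inv_of_mul_eq_one_left h']; exact inv_mem (D.range_le ⟨_, rfl⟩)⟩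
    rw [hd, mem_bot] at hm
    rw [hm, one_mul] at h'
    exact Prod.ext (Subtype.ext hm) (Subtype.ext (D.psi_inj (h'.trans (map_one D.ψ).symm)))
  have hcard : Nat.card ↥φ.range = 8 := by
    rw [← Nat.card_congr (MonoidHom.ofInjective hinj).toEquiv, Nat.card_prod, Nat.card_zpowers,
      D.invol, hV4]
  obtain ⟨T⟩ : Nonempty (Sylow 2 G) := inferInstance
  let S : Sylow 2 G := Sylow.ofCard φ.range (by
    rw [hcard, ← T.card_eq_multiplicity, D.sylow_card T])
  have hS : (S : Subgroup G) = φ.range := Sylow.coe_ofCard _ _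
  refine ⟨S, ?_, fun x => ?_⟩
  · rw [hS]
    refine le_antisymm ?_ ((closure_le _).2 ?_)
    · rintro _ ⟨⟨σ, a⟩, rfl⟩
      refine mul_mem (zpowers_le.2 (Subgroup.subset_closure (k := ({D.t, D.ψ v, D.ψ b} : Set G))
        (Or.inl rfl)) σ.2) ?_
      show D.ψ (a : P2 F) ∈ _
      rcases (hmem a).1 a.2 with e | e | e | e <;> rw [e]
      · rw [map_one]; exact one_mem _
      · exact Subgroup.subset_closure (Or.inr (Or.inl rfl))
      · exact Subgroup.subset_closure (Or.inr (Or.inr rfl))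
      · rw [map_mul]
        exact mul_mem (Subgroup.subset_closure (Or.inr (Or.inl rfl))) (Subgroup.subset_closure (Or.inr (Or.inr rfl)))
    · rintro z (rfl | rfl | rfl)
      · exact ⟨(⟨D.t, mem_zpowers _⟩, 1), by show D.t * D.ψ 1 = _; rw [map_one, mul_one]⟩
      · exact ⟨(1, ⟨v, (hmem v).2 (Or.inr (Or.inl rfl))⟩), one_mul _⟩
      · exact ⟨(1, ⟨b, (hmem b).2 (Or.inr (Or.inr (Or.inl rfl)))⟩), one_mul _⟩
  · rw [hS]
    constructor
    · rintro ⟨⟨σ, a⟩, rfl⟩
      exact ⟨σ, σ.2, a, (hmem a).1 a.2, rfl⟩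
    · rintro ⟨σ, hσ, a, ha, rfl⟩
      exact ⟨(⟨σ, hσ⟩, ⟨a, (hmem a).2 ha⟩), rfl⟩

/-- The odd elements centralising the Sylow subgroup form `Fo`. -/
theorem mem_Fo_iff (B : PslBase v b n) (h8 : Fintype.card F % 8 = 3 ∨ Fintype.card F % 8 = 5)
    (h11 : 11 ≤ Fintype.card F) (y : G) :
    y ∈ D.Fo ↔ Odd (orderOf y) ∧ Commute y D.t ∧ Commute y (D.ψ v) ∧ Commute y (D.ψ b) := by
  constructor
  · intro hy
    exact ⟨Odd.of_dvd_nat D.Fo_odd (Subgroup.orderOf_dvd_natCard _ hy),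
      (D.t_commute (D.Fo_le hy)).symm, D.commute_field B.fix_v hy, D.commute_field B.fix_b hy⟩
  rintro ⟨ho, ht, hv, hb⟩
  obtain ⟨σ, hσ, a, y', hy', rfl⟩ := D.decompC (mem_centralizer_singleton_iff.2 ht.eq)
  obtain rfl := D.sigma_eq_one hσ (mul_mem (D.range_le ⟨a, rfl⟩) (D.Fo_le hy')) rfl ho
  have ha := B.self_cent h8 h11 (D.commute_part B.fix_v hσ hy' hv)
    (D.commute_part B.fix_b hσ hy' hb)
  have ha2 : a * a = 1 := by
    rcases ha with rfl | rfl | rfl | rfl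
    · exact one_mul 1
    · exact B.v_sq
    · exact B.b_sq
    · rw [show v * b * (v * b) = v * (b * v) * b by group, B.comm.eq, ← mul_assoc, B.v_sq, one_mul,
        B.b_sq]
  have hcy : Commute (D.ψ a) y' := by
    rcases ha with rfl | rfl | rfl | rfl
    · rw [map_one]; exact Commute.one_left _
    · exact (D.commute_field B.fix_v hy').symm
    · exact (D.commute_field B.fix_b hy').symm
    · rw [map_mul]
      exact (D.commute_field B.fix_v hy').symm.mul_left (D.commute_field B.fix_b hy').symm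
  rw [one_mul] at ho ⊢
  obtain ⟨k, hk⟩ := ho
  have h := pow_orderOf_eq_one (D.ψ a * y')
  rw [hcy.mul_pow, hk, pow_succ (D.ψ a), pow_mul, pow_two, ← map_mul, ha2, map_one, one_pow,
    one_mul] at h
  have hmem : D.ψ a ∈ D.Fo ⊓ D.ψ.range := mem_inf.2
    ⟨by rw [eq_inv_of_mul_eq_one_left h]; exact inv_mem (pow_mem hy' _), a, rfl⟩
  rw [D.Fo_inf, mem_bot] at hmem
  rw [hmem, one_mul]
  exact hy'

theorem exists_pre (D : Data G F) (R : Route D) : Nonempty (Pre D) := by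
  classical
  haveI : Fact (Nat.Prime 2) := ⟨Nat.prime_two⟩
  obtain ⟨h3, h27⟩ := Data.card_mod R
  have h8 : Fintype.card F % 8 = 3 ∨ Fintype.card F % 8 = 5 := Or.inl h3
  have h11 : 11 ≤ Fintype.card F := by omega
  obtain ⟨v, b, n, B⟩ := exists_pslBase (Data.three_eq_zero R)
  obtain ⟨T, hTv, hTmem, hTinv⟩ := B.exists_tori h8 h11
  obtain ⟨S, hS, hSmem⟩ := exists_sylow_closure (D := D) B h8 h11
  haveI : IsMulCommutative (S : Subgroup G) := D.absyl S
  have htS : D.t ∈ (S : Subgroup G) := hS ▸ Subgroup.subset_closure (Or.inl rfl)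
  have hvS : D.ψ v ∈ (S : Subgroup G) := hS ▸ Subgroup.subset_closure (Or.inr (Or.inl rfl))
  have hψsq : ∀ {a : P2 F}, a ≠ 1 → a * a = 1 → orderOf (D.ψ a) = 2 := fun {a} ha ha2 => by
    rw [orderOf_injective D.ψ D.psi_inj]
    exact orderOf_eq_prime (by rw [pow_two, ha2]) ha
  -- move `ψ v` to `t` inside the normaliser
  obtain ⟨c, hc⟩ := isConj_iff.1 (D.conj_invol _ _ (hψsq B.v_ne B.v_sq) D.invol)
  obtain ⟨m, hm, hm'⟩ := S.conj_eq_normalizer_conj_of_mem (D.ψ v) c⁻¹ hvS (by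
    rw [inv_inv, hc]; exact htS)
  rw [inv_inv, hc] at hm'
  set g₀ := m⁻¹ with hg₀
  have hg₀v : g₀ * D.ψ v * g₀⁻¹ = D.t := by rw [hg₀, inv_inv, hm']
  have hg₀S : g₀ ∈ normalizer ((S : Subgroup G) : Set G) := inv_mem hm
  have hnS : ∀ z ∈ (S : Subgroup G), g₀ * z * g₀⁻¹ ∈ (S : Subgroup G) := fun z hz =>
    (mem_normalizer_iff.1 hg₀S z).1 hz
  have hn_E : D.ψ n ∈ D.E := D.range_le ⟨n, rfl⟩
  have hkt : ∀ i : ℕ, (D.ψ n) ^ i * D.t * ((D.ψ n) ^ i)⁻¹ = D.t := fun i => by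
    rw [((D.t_commute hn_E).pow_right i).symm.eq, mul_inv_cancel_right]
  -- the third element
  obtain ⟨i, hi⟩ : ∃ i : ℕ,
      (D.ψ n) ^ i * (g₀ * D.ψ b * g₀⁻¹) * ((D.ψ n) ^ i)⁻¹ = D.ψ v ∨
      (D.ψ n) ^ i * (g₀ * D.ψ b * g₀⁻¹) * ((D.ψ n) ^ i)⁻¹ = D.t * D.ψ v := by
    obtain ⟨σ, hσ, a, ha, he⟩ := (hSmem _).1 (hnS (D.ψ b) (by
      rw [hS]; exact Subgroup.subset_closure (Or.inr (Or.inr rfl))))
    have ha1 : a ≠ 1 := by
      rintro rfl
      rw [map_one, mul_one] at he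
      rcases D.sigma_cases hσ with e | e <;> rw [e] at he
      · rw [conj_eq_one_iff] at he
        exact B.b_ne (D.psi_inj (he.trans (map_one D.ψ).symm))
      · rw [← hg₀v, mul_left_inj, mul_right_inj] at he
        exact B.vb_ne (D.psi_inj he).symm
    have hσ2 : σ = 1 ∨ σ = D.t := D.sigma_cases hσ
    obtain ⟨i, hi⟩ : ∃ i : ℕ, (D.ψ n) ^ i * D.ψ a * ((D.ψ n) ^ i)⁻¹ = D.ψ v := by
      rcases ha with rfl | rfl | rfl | rfl
      · exact absurd rfl ha1
      · exact ⟨0, by simp⟩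
      · refine ⟨2, ?_⟩
        rw [← map_pow, ← map_inv, ← map_mul, ← map_mul, pow_two, show n * n * a * (n * n)⁻¹ =
          n * (n * a * n⁻¹) * n⁻¹ by group, B.conj_b, B.conj_vb]
      · refine ⟨1, ?_⟩
        rw [pow_one, ← map_inv, ← map_mul, ← map_mul, B.conj_vb]
    refine ⟨i, ?_⟩
    rw [he]
    rcases hσ2 with rfl | rfl
    · left; rw [one_mul, hi]
    · right
      rw [show (D.ψ n) ^ i * (D.t * D.ψ a) * ((D.ψ n) ^ i)⁻¹ =
        ((D.ψ n) ^ i * D.t * ((D.ψ n) ^ i)⁻¹) * ((D.ψ n) ^ i * D.ψ a * ((D.ψ n) ^ i)⁻¹) by group,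
        hkt, hi]
  set k := (D.ψ n) ^ i with hk
  set g := k * g₀ with hg
  set W := closure ({D.t, D.ψ v} : Set G) with hW
  have hgv : g * D.ψ v * g⁻¹ = D.t := by
    rw [hg, show k * g₀ * D.ψ v * (k * g₀)⁻¹ = k * (g₀ * D.ψ v * g₀⁻¹) * k⁻¹ by group, hg₀v]
    exact hkt i
  have hgb : g * D.ψ b * g⁻¹ = D.ψ v ∨ g * D.ψ b * g⁻¹ = D.t * D.ψ v := by
    rw [hg, show k * g₀ * D.ψ b * (k * g₀)⁻¹ = k * (g₀ * D.ψ b * g₀⁻¹) * k⁻¹ by group]
    exact hi
  -- `g` normalises `S` and `Fo`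
  have hkS : k ∈ normalizer ((S : Subgroup G) : Set G) := by
    refine pow_mem ?_ i
    rw [hS]
    refine mem_normalizer_fintype fun z hz => ?_
    induction hz using closure_induction with
    | mem z hz =>
      rcases hz with rfl | rfl | rfl
      · rw [(D.t_commute hn_E).symm.eq, mul_inv_cancel_right]; exact Subgroup.subset_closure (Or.inl rfl)
      · rw [← map_inv, ← map_mul, ← map_mul, B.conj_v]
        exact Subgroup.subset_closure (Or.inr (Or.inr rfl))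
      · rw [← map_inv, ← map_mul, ← map_mul, B.conj_b, map_mul]
        exact mul_mem (Subgroup.subset_closure (Or.inr (Or.inl rfl))) (Subgroup.subset_closure (Or.inr (Or.inr rfl)))
    | one => simp
    | mul x y _ _ hx hy =>
      rw [show D.ψ n * (x * y) * (D.ψ n)⁻¹ =
        D.ψ n * x * (D.ψ n)⁻¹ * (D.ψ n * y * (D.ψ n)⁻¹) by group]
      exact mul_mem hx hy
    | inv x _ hx =>
      rw [show D.ψ n * x⁻¹ * (D.ψ n)⁻¹ = (D.ψ n * x * (D.ψ n)⁻¹)⁻¹ by group]
      exact inv_mem hx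
  have hgS : g ∈ normalizer ((S : Subgroup G) : Set G) := mul_mem hkS hg₀S
  have hFoS : ∀ y, y ∈ D.Fo ↔ Odd (orderOf y) ∧ ∀ z ∈ (S : Subgroup G), Commute y z := by
    intro y
    rw [mem_Fo_iff B h8 h11]
    constructor
    · rintro ⟨ho, h1, h2, h3⟩
      refine ⟨ho, fun z hz => ?_⟩
      rw [hS] at hz
      have : closure ({D.t, D.ψ v, D.ψ b} : Set G) ≤ centralizer ({y} : Set G) := by
        refine (closure_le _).2 ?_
        rintro _ (rfl | rfl | rfl)
        exacts [mem_centralizer_singleton_iff.2 h1.eq.symm,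
          mem_centralizer_singleton_iff.2 h2.eq.symm, mem_centralizer_singleton_iff.2 h3.eq.symm]
      exact (mem_centralizer_singleton_iff.1 (this hz)).symm
    · rintro ⟨ho, h⟩
      exact ⟨ho, h _ htS, h _ hvS, h _ (hS ▸ Subgroup.subset_closure (Or.inr (Or.inr rfl)))⟩
  have hgFo : ∀ y, y ∈ D.Fo ↔ g * y * g⁻¹ ∈ D.Fo := by
    intro y
    rw [hFoS, hFoS, show g * y * g⁻¹ = MulAut.conj g y from rfl, MulEquiv.orderOf_eq]
    refine and_congr_right fun _ => ⟨fun h z hz => ?_, fun h z hz => ?_⟩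
    · have h1 := h (g⁻¹ * z * g) (by simpa using (mem_normalizer_iff.1 (inv_mem hgS) z).1 hz)
      have h2 := h1.map (MulAut.conj g)
      simpa [mul_assoc] using h2
    · have h1 := h (g * z * g⁻¹) ((mem_normalizer_iff.1 hgS z).1 hz)
      rw [← MulAut.conj_apply] at h1
      exact (Commute.conj_iff g).1 h1
  set w := g * D.ψ n * g⁻¹ with hw
  have hvW : D.ψ v ∈ W := Subgroup.subset_closure (Or.inr rfl)
  have htW : D.t ∈ W := Subgroup.subset_closure (Or.inl rfl)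
  -- `W` is the image of `⟨ψ v, ψ b⟩`
  set V := closure ({D.ψ v, D.ψ b} : Set G) with hV
  have hWV : V.map (MulAut.conj g).toMonoidHom = W := by
    rw [hV, MonoidHom.map_closure, Set.image_pair]
    show closure {g * D.ψ v * g⁻¹, g * D.ψ b * g⁻¹} = W
    refine le_antisymm ((closure_le _).2 ?_) ((closure_le _).2 ?_)
    · rintro z (rfl | rfl)
      · rw [hgv]; exact htW
      · rcases hgb with e | e <;> rw [e]
        exacts [hvW, mul_mem htW hvW]
    · rintro z (rfl | rfl)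
      · exact Subgroup.subset_closure (Or.inl hgv.symm)
      · rcases hgb with e | e
        · exact Subgroup.subset_closure (Or.inr e.symm)
        · have e2 : g * D.ψ v * g⁻¹ * (g * D.ψ b * g⁻¹) = D.ψ v := by
            rw [hgv, e, ← mul_assoc, D.t_sq, one_mul]
          have h := mul_mem (Subgroup.subset_closure (k := ({g * D.ψ v * g⁻¹, g * D.ψ b * g⁻¹} : Set G))
            (Or.inl rfl)) (Subgroup.subset_closure (Or.inr rfl))
          rw [e2] at h
          exact h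
  have hVn : ∀ z ∈ V, D.ψ n * z * (D.ψ n)⁻¹ ∈ V ∧ (D.ψ n * z * (D.ψ n)⁻¹ = z → z = 1) := by
    have hVle : ∀ z ∈ V, ∃ a : P2 F, (a = 1 ∨ a = v ∨ a = b ∨ a = v * b) ∧ z = D.ψ a := by
      have h : V ≤ (centralizer ({v, b} : Set (P2 F))).map D.ψ := by
        rw [hV, closure_le]
        rintro _ (rfl | rfl)
        · refine ⟨v, mem_centralizer_iff.2 ?_, rfl⟩
          rintro c (e | e) <;> rw [e]
          exact B.comm.eq
        · refine ⟨b, mem_centralizer_iff.2 ?_, rfl⟩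
          rintro c (e | e) <;> rw [e]
          exact B.comm.eq.symm
      intro z hz
      obtain ⟨a, ha, rfl⟩ := h hz
      rw [SetLike.mem_coe, mem_centralizer_iff] at ha
      exact ⟨a, B.self_cent h8 h11 (ha v (Or.inl rfl)).symm (ha b (Or.inr rfl)).symm, rfl⟩
    intro z hz
    obtain ⟨a, ha, rfl⟩ := hVle z hz
    have h1 : D.ψ v ∈ V := Subgroup.subset_closure (Or.inl rfl)
    have h2 : D.ψ b ∈ V := Subgroup.subset_closure (Or.inr rfl)
    rw [← map_inv, ← map_mul, ← map_mul]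
    rcases ha with e0 | e0 | e0 | e0 <;> subst a
    · simp
    · rw [B.conj_v]; exact ⟨h2, fun e => absurd (D.psi_inj e).symm B.vb_ne⟩
    · rw [B.conj_b, map_mul]
      exact ⟨mul_mem h1 h2, fun e => absurd (mul_eq_right.1 (e : D.ψ v * D.ψ b = D.ψ b))
        fun e' => B.v_ne (D.psi_inj (e'.trans (map_one _).symm))⟩
    · rw [B.conj_vb]
      exact ⟨h1, fun e => absurd (D.psi_inj e) fun e' => B.b_ne (left_eq_mul.1 e')⟩
  have hwW : ∀ x ∈ W, w * x * w⁻¹ ∈ W ∧ (w * x * w⁻¹ = x → x = 1) := by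
    intro x hx
    rw [← hWV] at hx ⊢
    obtain ⟨z, hz, rfl⟩ := hx
    obtain ⟨h1, h2⟩ := hVn z hz
    have e : w * (MulAut.conj g).toMonoidHom z * w⁻¹ =
        (MulAut.conj g).toMonoidHom (D.ψ n * z * (D.ψ n)⁻¹) := by
      show g * D.ψ n * g⁻¹ * (g * z * g⁻¹) * (g * D.ψ n * g⁻¹)⁻¹ = g * (_) * g⁻¹
      group
    rw [e]
    exact ⟨⟨_, h1, rfl⟩, fun h => by rw [h2 ((MulAut.conj g).injective h), map_one]⟩
  have hwFo : ∀ y ∈ D.Fo, Commute w y := fun y hy => by
    have h : g⁻¹ * y * g ∈ D.Fo := (hgFo _).2 (by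
      rwa [show g * (g⁻¹ * y * g) * g⁻¹ = y by group])
    have := (D.commute_field B.fix_n h).symm.map (MulAut.conj g)
    simpa [hw, mul_assoc] using this
  have hwo : orderOf w = 3 := by
    rw [hw, show g * D.ψ n * g⁻¹ = MulAut.conj g (D.ψ n) from rfl, MulEquiv.orderOf_eq,
      orderOf_injective D.ψ D.psi_inj, B.n_ord]
  refine ⟨{
    v := v, b := b, n := n, base := B, tori := T, tori_v := hTv, tori_mem := hTmem,
    b_inv := hTinv, g := g, w := w, s := g * D.t * g⁻¹, g_t := rfl, g_n := rfl, g_Fo := hgFo,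
    w_ord := hwo, w_W := fun x hx => (hwW x hx).1, w_fpf := fun x hx => (hwW x hx).2,
    w_Fo := hwFo, w_T0 := ?_, s_mem := ?_ }⟩
  · rintro _ ⟨a, ha, rfl⟩
    obtain ⟨hav, hao⟩ := (hTmem a).1 ha
    have hc : ∀ z ∈ W, Commute (D.ψ a) z := by
      have h : W ≤ centralizer ({D.ψ a} : Set G) := (closure_le _).2 (by
        rintro _ (rfl | rfl)
        · exact mem_centralizer_singleton_iff.2 (D.t_commute (D.range_le ⟨a, rfl⟩)).eq
        · exact mem_centralizer_singleton_iff.2 (hav.map D.ψ).eq.symm)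
      exact fun z hz => (mem_centralizer_singleton_iff.1 (h hz)).symm
    set x := w * D.ψ a * w⁻¹ with hx
    have hcx : ∀ z ∈ W, Commute x z := by
      intro z hz
      have hz' : w⁻¹ * z * w ∈ W := by
        have e : w⁻¹ = w * w := inv_eq_of_mul_eq_one_right (by
          rw [← mul_assoc, ← pow_two, ← pow_succ, show 2 + 1 = orderOf w by rw [hwo],
            pow_orderOf_eq_one])
        rw [show w⁻¹ * z * w = w⁻¹ * z * w⁻¹⁻¹ by rw [inv_inv], e,
          show w * w * z * (w * w)⁻¹ = w * (w * z * w⁻¹) * w⁻¹ by group]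
        exact (hwW _ (hwW z hz).1).1
      have := (hc _ hz').map (MulAut.conj w)
      simpa [hx, mul_assoc] using this
    have hxo : orderOf x = orderOf a := by
      rw [hx, show w * D.ψ a * w⁻¹ = MulAut.conj w (D.ψ a) from rfl, MulEquiv.orderOf_eq,
        orderOf_injective D.ψ D.psi_inj]
    obtain ⟨σ, hσ, c, y, hy, he⟩ := D.decompC
      (mem_centralizer_singleton_iff.2 (hcx _ htW).eq)
    obtain rfl := D.sigma_eq_one hσ (mul_mem (D.range_le ⟨c, rfl⟩) (D.Fo_le hy)) he (hxo ▸ hao)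
    have hcv := D.commute_part B.fix_v hσ hy (he ▸ hcx _ hvW)
    rw [one_mul] at he
    obtain rfl := D.field_eq_one hy ((Nat.Coprime.coprime_dvd_left
      (orderOf_dvd_natCard a) R.coprime.symm)) (by rw [← he, ← hxo, pow_orderOf_eq_one])
    rw [mul_one] at he
    exact ⟨c, (hTmem c).2 ⟨hcv, by
      rw [← orderOf_injective D.ψ D.psi_inj c, ← he, hxo]; exact hao⟩, he.symm⟩
  · obtain ⟨σ, hσ, a, ha, he⟩ := (hSmem _).1 ((mem_normalizer_iff.1 hgS D.t).1 htS)
    have hsW : g * D.t * g⁻¹ ∉ W := by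
      rw [← hWV]
      rintro ⟨z, hz, e⟩
      have : z = D.t := (MulAut.conj g).injective e
      subst this
      exact D.t_notMem_E ((closure_le _).2 (by
        rintro _ (rfl | rfl)
        exacts [D.range_le ⟨v, rfl⟩, D.range_le ⟨b, rfl⟩]) hz)
    have hσW : σ ∈ W := zpowers_le.2 htW hσ
    obtain ⟨-, -, hcc, -, -⟩ := D.prod
    rcases ha with rfl | rfl | rfl | rfl
    · exact absurd (by rw [he, map_one, mul_one]; exact hσW) hsW
    · exact absurd (by rw [he]; exact mul_mem hσW hvW) hsW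
    · exact ⟨σ, hσW, by rw [he]; exact hcc σ hσ _ (D.range_le ⟨a, rfl⟩)⟩
    · refine ⟨σ * D.ψ v, mul_mem hσW hvW, ?_⟩
      rw [he, map_mul, ← B.comm.map D.ψ |>.eq, ← mul_assoc, hcc σ hσ _ (D.range_le ⟨b, rfl⟩),
        mul_assoc]

end Cfsg.Agent.H28.TypeR
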