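import Cfsg.Agent.H28.WardCons.Basic
import Cfsg.Agent.H29.Walter.PslFacts
import Cfsg.Agent.H56.OutPSL
import Mathlib.GroupTheory.Index

/-!
# The involution centraliser in a simple group of type R: the setting

`C(t) = ⟨t⟩ × E`, `E = E₀ ⋊ Fo` with `E₀ ≅ PSL₂(F)` and `Fo` acting as field automorphisms; smaller
simple groups of type R have `Fo = 1`.
-/

set_option autoImplicit false
set_option linter.unusedSectionVars false
set_option linter.style.haveILetI false

namespace Cfsg.Agent.H28.TypeR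

open Subgroup Cfsg.Agent

universe u

/-- `PSL₂(F)`. -/
abbrev P2 (F : Type) [Field F] := H56.PSLn 2 F

/-- The standard field automorphism of `PSL₂(F)`. -/
noncomputable def fieldAut {F : Type} [Field F] (σ : F ≃+* F) : MulAut (P2 F) :=
  H56.semiAut (1 : GL (Fin 2) F) σ

/-- Simple groups of type R of order below `n` have the centraliser `Z₂ × PSL₂(q)`. -/
def SmallR (n : ℕ) : Prop :=
  ∀ (X : Type u) [Group X] [Finite X], Nat.card X < n → IsSimpleGroup X → ¬ IsMulCommutative X →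
    H10.Walter.AbSyl X → H10.Walter.IsTypeR X →
    ∃ (t : X) (F : Type) (_ : Field F) (_ : Fintype F), orderOf t = 2 ∧ 5 ≤ Fintype.card F ∧
      (Fintype.card F % 8 = 3 ∨ Fintype.card F % 8 = 5) ∧
      Nonempty (centralizer ({t} : Set X) ≃* Multiplicative (ZMod 2) × P2 F)

/-- The data: `C(t) = ⟨t⟩ × E`, `E = ψ(PSL₂(F)) Fo`, `y ψ(x) y⁻¹ = ψ(x^(σ y))` for `y ∈ Fo`. -/
structure Data (G : Type u) [Group G] [Finite G] (F : Type) [Field F] [Fintype F] where
  t : G
  E : Subgroup G
  Fo : Subgroup G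
  ψ : P2 F →* G
  σ : ↥Fo →* RingAut F
  simple : IsSimpleGroup G
  nonab : ¬ IsMulCommutative G
  absyl : H10.Walter.AbSyl G
  sylow_card : ∀ T : Sylow 2 G, Nat.card ↥(T : Subgroup G) = 8
  conj_invol : ∀ a b : G, orderOf a = 2 → orderOf b = 2 → IsConj a b
  small : SmallR.{u} (Nat.card G)
  five : 5 ≤ Fintype.card F
  mod_eight : Fintype.card F % 8 = 3 ∨ Fintype.card F % 8 = 5
  invol : orderOf t = 2
  prod : Cfsg.IsInternalDirectProduct (zpowers t) E (centralizer ({t} : Set G))
  psi_inj : Function.Injective ψ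
  range_le : ψ.range ≤ E
  cent_bot : E ⊓ centralizer (ψ.range : Set G) = ⊥
  Fo_le : Fo ≤ E
  Fo_sup : ψ.range ⊔ Fo = E
  Fo_inf : Fo ⊓ ψ.range = ⊥
  sigma_inj : Function.Injective σ
  Fo_odd : Odd (Nat.card ↥Fo)
  conj : ∀ (y : ↥Fo) (x : P2 F), (y : G) * ψ x * (y : G)⁻¹ = ψ (fieldAut (σ y) x)

namespace Data

variable {G : Type u} [Group G] [Finite G] {F : Type} [Field F] [Fintype F] (D : Data G F)

/-- `Fo` is cyclic. -/
theorem isCyclic : IsCyclic ↥D.Fo := by
  obtain ⟨p, hp⟩ := CharP.exists F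
  obtain ⟨n, hpp, hn⟩ := FiniteField.card F p
  haveI : Fact p.Prime := ⟨hpp⟩
  obtain ⟨e⟩ := H56.ringAut_equiv F (f := (n : ℕ)) n.pos hn
  haveI : IsCyclic (RingAut F) := isCyclic_of_surjective e.symm e.symm.surjective
  exact isCyclic_of_injective D.σ D.sigma_inj

theorem isOddPSL (D : Data G F) : H10.Walter.IsOddPSL (P2 F) :=
  ⟨F, inferInstance, inferInstance, D.five, D.mod_eight, ⟨MulEquiv.refl _⟩⟩

theorem psi_conj_mem {y : G} (hy : y ∈ D.Fo) {g : G} (hg : g ∈ D.ψ.range) :
    y * g * y⁻¹ ∈ D.ψ.range := by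
  obtain ⟨x, rfl⟩ := hg
  exact ⟨_, (D.conj ⟨y, hy⟩ x).symm⟩

/-- With no field automorphisms the centraliser is `Z₂ × PSL₂(F)`. -/
theorem centralizer_iso (h : D.Fo = ⊥) :
    Nonempty (centralizer ({D.t} : Set G) ≃* Multiplicative (ZMod 2) × P2 F) := by
  have hE : D.ψ.range = D.E := by rw [← D.Fo_sup, h, sup_bot_eq]
  obtain ⟨h1, h2, hc, hd, hs⟩ := D.prod
  let φ : ↥(zpowers D.t) × ↥D.E →* G :=
    (zpowers D.t).subtype.noncommCoprod D.E.subtype fun a b => hc a a.2 b b.2
  have hinj : Function.Injective φ := by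
    rw [injective_iff_map_eq_one]
    rintro ⟨a, b⟩ hab
    have hab' : (a : G) * b = 1 := hab
    have hb : (b : G) = (a : G)⁻¹ := eq_inv_of_mul_eq_one_right hab'
    have ha : (a : G) = 1 := by
      have hm : (a : G) ∈ zpowers D.t ⊓ D.E :=
        mem_inf.2 ⟨a.2, inv_mem_iff.1 (hb ▸ b.2)⟩
      rw [hd] at hm; exact mem_bot.1 hm
    exact Prod.ext (Subtype.ext ha) (Subtype.ext (by rw [hb, ha, inv_one]; rfl))
  have hr : φ.range = centralizer ({D.t} : Set G) := by
    refine le_antisymm ?_ ?_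
    · rintro _ ⟨⟨a, b⟩, rfl⟩; exact mul_mem (h1 a.2) (h2 b.2)
    · rw [← hs]
      exact sup_le (fun a ha => ⟨(⟨a, ha⟩, 1), by show a * 1 = a; exact mul_one a⟩)
        fun b hb => ⟨(1, ⟨b, hb⟩), by show 1 * b = b; exact one_mul b⟩
  have hz : Nat.card ↥(zpowers D.t) = 2 := by rw [Nat.card_zpowers, D.invol]
  haveI : Fact (Nat.Prime 2) := ⟨Nat.prime_two⟩
  exact ⟨((MulEquiv.subgroupCongr hr.symm).trans (MonoidHom.ofInjective hinj).symm).trans
    (MulEquiv.prodCongr
      (mulEquivOfPrimeCardEq (p := 2) hz (by simp [Nat.card_eq_fintype_card]))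
      ((MulEquiv.subgroupCongr hE.symm).trans (MonoidHom.ofInjective D.psi_inj).symm))⟩

end Data

section Outer

variable {F : Type} [Field F] [Fintype F]

/-- A power of a diagonal-by-field automorphism which is inner kills both parts. -/
theorem eq_field_mod_inn (hodd : Odd (Fintype.card F)) (φ : MulAut (P2 F)) {o : ℕ} (ho : Odd o)
    (hpow : φ ^ o ∈ Cfsg.Inn (P2 F)) :
    φ * (fieldAut (H56.fieldHom (le_refl 2) φ))⁻¹ ∈ Cfsg.Inn (P2 F) := by
  classical
  obtain ⟨g, σ, h | ⟨h3, -⟩⟩ := H56.exists_decomp (le_refl 2) φ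
  swap
  · omega
  have hσ : H56.fieldHom (le_refl 2) φ = σ := by rw [h, H56.fieldHom_semiAut]
  rw [hσ]
  set δ := H56.semiAut g (RingEquiv.refl F) with hδ
  have hsplit : φ = δ * fieldAut σ := by
    rw [h, hδ, fieldAut, H56.semiAut_mul, map_one, mul_one]; rfl
  rw [hsplit, mul_inv_cancel_right]
  let π := QuotientGroup.mk' (Cfsg.Inn (P2 F))
  have hd := H56.diagOut_range (le_refl 2) g
  obtain ⟨-, hcard⟩ := H56.diagOut_card (F := F) (le_refl 2)
  have hgcd : Nat.gcd 2 (Fintype.card F - 1) = 2 :=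
    Nat.gcd_eq_left (by obtain ⟨k, hk⟩ := hodd; omega)
  rw [hgcd] at hcard
  set N := (H56.diagOut (F := F) (le_refl 2)).range
  have hsd : π (fieldAut σ) * π δ * (π (fieldAut σ))⁻¹ ∈ N := by
    rw [← map_mul, ← map_inv, ← map_mul, fieldAut, hδ, H56.semiAut_inv, H56.semiAut_mul,
      H56.semiAut_mul]
    have e : (σ.symm.trans ((RingEquiv.refl F).trans σ)) = RingEquiv.refl F :=
      RingEquiv.ext fun x => σ.apply_symm_apply x
    rw [e]
    exact H56.diagOut_range (le_refl 2) _
  have hN : ∀ z ∈ N, z = 1 ∨ z = π δ ∨ π δ = 1 := by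
    intro z hz
    by_contra hne
    simp only [not_or] at hne
    obtain ⟨h1, h2, h3⟩ := hne
    haveI : Fintype ↥N := Fintype.ofFinite _
    have h4 : ({1, ⟨z, hz⟩, ⟨π δ, hd⟩} : Finset ↥N).card ≤ Fintype.card ↥N :=
      Finset.card_le_univ _
    rw [Finset.card_eq_three.2 ⟨1, ⟨z, hz⟩, ⟨π δ, hd⟩, fun e => h1 (congrArg Subtype.val e).symm,
      fun e => h3 (congrArg Subtype.val e).symm, fun e => h2 (congrArg Subtype.val e), rfl⟩,
      ← Nat.card_eq_fintype_card, hcard] at h4
    omega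
  have hc : Commute (π δ) (π (fieldAut σ)) := by
    rcases hN _ hsd with e | e | e
    · rw [conj_eq_one_iff] at e; rw [e]; exact Commute.one_left _
    · exact (mul_inv_eq_iff_eq_mul.1 e).symm
    · rw [e]; exact Commute.one_left _
  have h2 : π δ ^ 2 = 1 := by
    have := congrArg Subtype.val (pow_card_eq_one' (x := (⟨π δ, hd⟩ : ↥N)))
    rwa [hcard] at this
  have hδo : π δ ^ o = π δ := by
    obtain ⟨k, rfl⟩ := ho
    rw [pow_succ, pow_mul, h2, one_pow, one_mul]
  have hmem : (π (δ * fieldAut σ)) ^ o = 1 := by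
    rw [← map_pow, ← hsplit]; exact (QuotientGroup.eq_one_iff _).2 hpow
  rw [map_mul, hc.mul_pow, hδo, ← map_pow] at hmem
  have hσo : σ ^ o = 1 := by
    have hk : φ ^ o ∈ (H56.fieldHom (F := F) (le_refl 2)).ker := H56.fieldHom_inn (le_refl 2) hpow
    rwa [MonoidHom.mem_ker, map_pow, hσ] at hk
  have hfield : fieldAut σ ^ o = 1 := by
    have hom : ∀ n : ℕ, fieldAut σ ^ n = fieldAut (σ ^ n : RingAut F) := by
      intro n
      induction n with
      | zero => exact (H56.semiAut_one).symm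
      | succ n ih =>
        rw [pow_succ, ih, fieldAut, fieldAut, H56.semiAut_mul, map_one, mul_one]
        rfl
    rw [hom, hσo]
    exact H56.semiAut_one
  rw [hfield, map_one, mul_one] at hmem
  exact (QuotientGroup.eq_one_iff _).1 hmem

end Outer

variable {G : Type u} [Group G] [Finite G]

/-- The data of a simple group of type R. -/
theorem exists_data (hs : IsSimpleGroup G) (hna : ¬ IsMulCommutative G)
    (hab : H10.Walter.AbSyl G) (hR : H10.Walter.IsTypeR G) (hsmall : SmallR.{u} (Nat.card G)) :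
    ∃ (F : Type) (_ : Field F) (_ : Fintype F), Nonempty (Data G F) := by
  obtain ⟨hsyl, hconj, t, E, E₀, ht, hprod, hle, hnorm, ⟨F, hF, hFf, h5, h8, ⟨e⟩⟩, hcent⟩ := hR
  refine ⟨F, hF, hFf, ?_⟩
  haveI : Fact (Nat.Prime 2) := ⟨Nat.prime_two⟩
  have hodd : Odd (Fintype.card F) := Nat.odd_iff.2 (by omega)
  haveI := hnorm
  set N := E₀.subgroupOf E with hN
  have hcard0 : Nat.card ↥E₀ % 8 = 4 :=
    H29.Walter.card_mod_eight ⟨F, hF, hFf, h5, h8, ⟨e⟩⟩
  -- the index of `E₀` in `E` is odd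
  have hidx : Odd N.index := by
    by_contra hev
    rw [Nat.not_odd_iff_even] at hev
    have h1 : Nat.card ↥N * N.index = Nat.card ↥E := N.card_mul_index
    rw [Nat.card_congr (subgroupOfEquivOfLe hle).toEquiv] at h1
    obtain ⟨k, hk⟩ := hev
    have h2 : 8 ∣ Nat.card ↥E := ⟨Nat.card ↥E₀ / 4 * k, by
      have h4 : 4 * (Nat.card ↥E₀ / 4) = Nat.card ↥E₀ :=
        Nat.mul_div_cancel' (Nat.dvd_of_mod_eq_zero (by omega))
      calc Nat.card ↥E = Nat.card ↥E₀ * N.index := h1.symm
        _ = 4 * (Nat.card ↥E₀ / 4) * (k + k) := by rw [h4, hk]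
        _ = _ := by ring⟩
    obtain ⟨hp1, hp2, hpc, hpd, -⟩ := hprod
    let φ : ↥(zpowers t) × ↥E →* G :=
      (zpowers t).subtype.noncommCoprod E.subtype fun a b => hpc a a.2 b b.2
    have hinj : Function.Injective φ := by
      rw [injective_iff_map_eq_one]
      rintro ⟨a, b⟩ hab
      have hab' : (a : G) * b = 1 := hab
      have hb : (b : G) = (a : G)⁻¹ := eq_inv_of_mul_eq_one_right hab'
      have ha : (a : G) = 1 := by
        have hm : (a : G) ∈ zpowers t ⊓ E := mem_inf.2 ⟨a.2, inv_mem_iff.1 (hb ▸ b.2)⟩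
        rw [hpd] at hm; exact mem_bot.1 hm
      exact Prod.ext (Subtype.ext ha) (Subtype.ext (by rw [hb, ha, inv_one]; rfl))
    have h16 : 2 * 8 ∣ Nat.card G := by
      refine (Nat.mul_dvd_mul_left 2 h2).trans ?_
      rw [← ht, ← Nat.card_zpowers, ← Nat.card_prod]
      exact card_dvd_of_injective φ hinj
    obtain ⟨T⟩ : Nonempty (Sylow 2 G) := inferInstance
    have h4 : 2 ^ 4 ∣ Nat.card ↥(T : Subgroup G) := by
      rw [T.card_eq_multiplicity]
      exact pow_dvd_pow 2 ((Nat.prime_two.pow_dvd_iff_le_factorization Nat.card_pos.ne').1 h16)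
    rw [hsyl T] at h4
    norm_num at h4
  -- the automorphism action
  have hmem : ∀ x : ↥E, ∀ z ∈ E₀, (x : G) * z * (x : G)⁻¹ ∈ E₀ := fun x z hz =>
    hnorm.conj_mem ⟨z, hle hz⟩ hz x
  let Φ : ↥E →* MulAut (P2 F) :=
    { toFun := fun x =>
        { toFun := fun a => e ⟨x * (e.symm a : G) * (x : G)⁻¹, hmem x _ (e.symm a).2⟩
          invFun := fun a => e ⟨(x⁻¹ : ↥E) * (e.symm a : G) * ((x⁻¹ : ↥E) : G)⁻¹,
            hmem x⁻¹ _ (e.symm a).2⟩
          left_inv := fun a => by
            rw [← e.eq_symm_apply]; apply Subtype.ext; simp [mul_assoc]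
          right_inv := fun a => by
            rw [← e.eq_symm_apply]; apply Subtype.ext; simp [mul_assoc]
          map_mul' := fun a b => by
            rw [← map_mul]; congr 1; apply Subtype.ext
            simp only [map_mul, Subgroup.coe_mul]; group }
      map_one' := MulEquiv.ext fun a => by simp
      map_mul' := fun x y => MulEquiv.ext fun a => by
        simp only [MulEquiv.coe_mk, Equiv.coe_fn_mk, MulAut.mul_apply, MulEquiv.symm_apply_apply]
        congr 1; apply Subtype.ext; simp only [Subgroup.coe_mul]; group }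
  have hΦ : ∀ (x : ↥E) (a : ↥E₀), (x : G) * a * (x : G)⁻¹ = (e.symm (Φ x (e a)) : G) := fun x a => by
    simp [Φ]
  have hΦinj : Function.Injective Φ := by
    rw [injective_iff_map_eq_one]
    intro x hx
    have hm : (x : G) ∈ E ⊓ centralizer (E₀ : Set G) := mem_inf.2 ⟨x.2, by
      rw [mem_centralizer_iff]
      intro z hz
      have := hΦ x ⟨z, hz⟩
      rw [hx, MulAut.one_apply, MulEquiv.symm_apply_apply] at this
      exact (mul_inv_eq_iff_eq_mul.1 this).symm⟩
    rw [hcent] at hm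
    exact Subtype.ext (mem_bot.1 hm)
  have hinner : ∀ a : ↥E₀, Φ ⟨a, hle a.2⟩ = MulAut.conj (e a) := fun a =>
    MulEquiv.ext fun b => by
      obtain ⟨b, rfl⟩ := e.surjective b
      show e ⟨_, _⟩ = _
      rw [MulAut.conj_apply, ← map_mul, ← map_inv, ← map_mul]
      congr 1; apply Subtype.ext; simp
  let fh : ↥E →* RingAut F := (H56.fieldHom (le_refl 2)).comp Φ
  -- the field subgroup
  let S : Subgroup ↥E :=
    { carrier := {x | Φ x = fieldAut (fh x)}
      one_mem' := by
        show Φ 1 = fieldAut (fh 1)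
        rw [map_one, map_one]; exact H56.semiAut_one.symm
      mul_mem' := fun {x y} (hx : Φ x = _) (hy : Φ y = _) => by
        show Φ (x * y) = fieldAut (fh (x * y))
        rw [map_mul, map_mul, hx, hy, fieldAut, fieldAut, H56.semiAut_mul, map_one, mul_one]
        rfl
      inv_mem' := fun {x} (hx : Φ x = _) => by
        show Φ x⁻¹ = fieldAut (fh x⁻¹)
        rw [map_inv, map_inv, hx, fieldAut, H56.semiAut_inv, inv_one, map_one]
        rfl }
  have hdec : ∀ x : ↥E, ∃ a : ↥E₀, (⟨a, hle a.2⟩ : ↥E)⁻¹ * x ∈ S := by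
    intro x
    have hpow : x ^ N.index ∈ N := Subgroup.pow_index_mem N x
    have hp : Φ x ^ N.index ∈ Cfsg.Inn (P2 F) :=
      ⟨e ⟨_, mem_subgroupOf.1 hpow⟩, by
        rw [← map_pow]; exact (hinner ⟨_, mem_subgroupOf.1 hpow⟩).symm⟩
    obtain ⟨b, hb⟩ := eq_field_mod_inn hodd (Φ x) hidx hp
    refine ⟨e.symm b, ?_⟩
    have hk : fh ⟨(e.symm b : G), hle (e.symm b).2⟩ = 1 := by
      have : MulAut.conj b ∈ (H56.fieldHom (F := F) (le_refl 2)).ker :=
        H56.fieldHom_inn (le_refl 2) ⟨b, rfl⟩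
      show H56.fieldHom (le_refl 2) (Φ _) = 1
      rw [hinner, MulEquiv.apply_symm_apply]; exact this
    show Φ _ = fieldAut (fh _)
    rw [map_mul, map_mul, map_inv, map_inv, hk, inv_one, one_mul, hinner,
      MulEquiv.apply_symm_apply, inv_mul_eq_iff_eq_mul]
    exact mul_inv_eq_iff_eq_mul.1 hb.symm
  have hS : ∀ a : ↥E₀, (⟨a, hle a.2⟩ : ↥E) ∈ S → a = 1 := fun a ha => by
    have h1 : fh ⟨a, hle a.2⟩ = 1 := by
      show H56.fieldHom (le_refl 2) (Φ _) = 1
      rw [hinner]; exact H56.fieldHom_inn (le_refl 2) ⟨_, rfl⟩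
    have h2 : Φ ⟨a, hle a.2⟩ = 1 := by
      rw [show Φ ⟨a, hle a.2⟩ = _ from ha, h1]; exact H56.semiAut_one
    exact Subtype.ext (congrArg (Subtype.val : ↥E → G) (hΦinj (h2.trans (map_one Φ).symm)))
  have hrange : (E₀.subtype.comp e.symm.toMonoidHom).range = E₀ := by
    rw [MonoidHom.range_comp, MonoidHom.range_eq_top.2 e.symm.surjective, ← MonoidHom.range_eq_map,
      range_subtype]
  have hSE : S.map E.subtype ≤ E := map_subtype_le S
  refine ⟨{
    t := t
    E := E
    Fo := S.map E.subtype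
    ψ := E₀.subtype.comp e.symm.toMonoidHom
    σ := fh.comp ((S.subtype).comp (S.equivMapOfInjective E.subtype E.subtype_injective).symm.toMonoidHom)
    simple := hs
    nonab := hna
    absyl := hab
    sylow_card := hsyl
    conj_invol := hconj
    small := hsmall
    five := h5
    mod_eight := h8
    invol := ht
    prod := hprod
    psi_inj := Subtype.val_injective.comp e.symm.injective
    range_le := hrange.le.trans hle
    cent_bot := by rw [hrange]; exact hcent
    Fo_le := hSE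
    Fo_sup := by
      rw [hrange]
      refine le_antisymm (sup_le hle hSE) fun x hx => ?_
      obtain ⟨a, ha⟩ := hdec ⟨x, hx⟩
      rw [show x = (a : G) * ((a : G)⁻¹ * x) by group]
      exact mul_mem (mem_sup_left a.2) (mem_sup_right ⟨_, ha, rfl⟩)
    Fo_inf := by
      rw [hrange, eq_bot_iff]
      rintro _ ⟨⟨x, hxS, rfl⟩, hx0⟩
      exact mem_bot.2 (congrArg Subtype.val (hS ⟨_, hx0⟩ hxS))
    sigma_inj := ?_
    Fo_odd := ?_
    conj := ?_ }⟩
  · rw [injective_iff_map_eq_one]
    intro y hy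
    obtain ⟨x, rfl⟩ := (S.equivMapOfInjective E.subtype E.subtype_injective).surjective y
    simp only [MonoidHom.comp_apply, MulEquiv.coe_toMonoidHom, MulEquiv.symm_apply_apply] at hy
    have h2 : Φ (x : ↥E) = 1 := by
      rw [show Φ (x : ↥E) = _ from x.2, show fh (x : ↥E) = 1 from hy]; exact H56.semiAut_one
    rw [Subtype.ext (hΦinj (h2.trans (map_one Φ).symm)) (a1 := x) (a2 := 1)]
    exact map_one _
  · rw [Nat.card_congr (S.equivMapOfInjective E.subtype E.subtype_injective).symm.toEquiv]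
    have hinj : Function.Injective fun x : ↥S => (QuotientGroup.mk (x : ↥E) : ↥E ⧸ N) := by
      intro x y hxy
      rw [QuotientGroup.eq] at hxy
      have := hS ⟨_, mem_subgroupOf.1 hxy⟩ (mul_mem (inv_mem x.2) y.2)
      exact Subtype.ext (inv_mul_eq_one.1 (Subtype.ext (congrArg (Subtype.val : ↥E₀ → G) this)))
    exact Odd.of_dvd_nat hidx (Subgroup.card_dvd_of_injective
      ((QuotientGroup.mk' N).comp S.subtype) hinj)
  · intro y a
    obtain ⟨x, rfl⟩ := (S.equivMapOfInjective E.subtype E.subtype_injective).surjective y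
    simp only [MonoidHom.comp_apply, MulEquiv.coe_toMonoidHom, MulEquiv.symm_apply_apply]
    have := hΦ (x : ↥E) (e.symm a)
    rw [MulEquiv.apply_symm_apply, show Φ (x : ↥E) = _ from x.2] at this
    exact this

/-- The type R centraliser statement follows from the triviality of `Fo` in every `Data`. -/
theorem typeRCentralizer_of (h : ∀ (G : Type u) [Group G] [Finite G] (F : Type) [Field F]
    [Fintype F] (D : Data G F), D.Fo = ⊥) : WardCons.TypeRCentralizer.{u} := by
  suffices key : ∀ n : ℕ, SmallR.{u} n from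
    fun G _ _ hs hn ha hR => key (Nat.card G + 1) G (Nat.lt_succ_self _) hs hn ha hR
  intro n
  induction n with
  | zero => intro X _ _ hX; exact absurd hX (Nat.not_lt_zero _)
  | succ n ih =>
    intro X _ _ hX hs hn ha hR
    obtain ⟨F, _, _, ⟨D⟩⟩ := exists_data hs hn ha hR fun Y _ _ hY => ih Y (by omega)
    exact ⟨D.t, F, inferInstance, inferInstance, D.invol, D.five, D.mod_eight,
      D.centralizer_iso (h X F D)⟩

end Cfsg.Agent.H28.TypeR
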