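import Cfsg.Agent.H29.Ward.PslTorus
import Cfsg.Agent.H97.TypeR.FieldAut
import Cfsg.Agent.H28.TypeR.Setting

/-!
# A four group and an element of order three of `PSL₂(q)` over the prime field, `q` a power of three
-/

set_option autoImplicit false
set_option linter.unusedSectionVars false
set_option linter.style.haveILetI false

namespace Cfsg.Agent.H28.TypeR

open Subgroup Cfsg.Agent Cfsg.Agent.Linear.Dickson
open Cfsg.Agent.H56 (PSLn SLn toP smat semiAut)

variable {F : Type} [Field F] [Fintype F]

/-- `v`, `b` generate a four group, `n` of order three cycles it, all three fixed by the field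
automorphisms. -/
structure PslBase (v b n : P2 F) : Prop where
  v_ne : v ≠ 1
  b_ne : b ≠ 1
  vb_ne : v ≠ b
  v_sq : v * v = 1
  b_sq : b * b = 1
  comm : Commute b v
  n_ord : orderOf n = 3
  conj_v : n * v * n⁻¹ = b
  conj_b : n * b * n⁻¹ = v * b
  fix_v : ∀ σ : RingAut F, fieldAut σ v = v
  fix_b : ∀ σ : RingAut F, fieldAut σ b = b
  fix_n : ∀ σ : RingAut F, fieldAut σ n = n

theorem toP_ne_one {s : SLn 2 F} {i j : Fin 2} (hij : i ≠ j) (h : smat s i j ≠ 0) :
    toP s ≠ (1 : P2 F) := by
  intro e
  rw [← map_one toP] at e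
  obtain ⟨c, hc, he⟩ := H56.toP_eq_iff.1 e
  have h1 := congrFun (congrFun he i) j
  simp [hij] at h1
  rcases h1 with h1 | h1
  · rw [h1] at hc; simp at hc
  · exact h h1

theorem smat_mul' (s t : SLn 2 F) : smat (s * t) = smat s * smat t := rfl

theorem smat_one' : smat (1 : SLn 2 F) = 1 := rfl

theorem toP_eq_neg {s t : SLn 2 F} (h : smat t = -smat s) : (toP s : P2 F) = toP t :=
  H56.toP_eq_iff.2 ⟨-1, by norm_num, by
    rw [neg_one_smul]; exact h⟩

theorem exists_pslBase (h3 : (3 : F) = 0) : ∃ v b n : P2 F, PslBase v b n := by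
  classical
  have h2 : (2 : F) = -1 := by linear_combination h3
  have h20 : (2 : F) ≠ 0 := by rw [h2]; exact neg_ne_zero.2 one_ne_zero
  let sv : SLn 2 F := ⟨!![0, 1; -1, 0], by rw [Matrix.det_fin_two_of]; ring⟩
  let sb : SLn 2 F := ⟨!![1, 1; 1, -1], by rw [Matrix.det_fin_two_of]; linear_combination -h3⟩
  let sn : SLn 2 F := ⟨!![1, 1; 0, 1], by rw [Matrix.det_fin_two_of]; ring⟩
  have hfix : ∀ s : SLn 2 F, (∀ σ : RingAut F, (smat s).map σ = smat s) →
      ∀ σ : RingAut F, fieldAut σ (toP s) = toP s :=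
    fun s hs σ => H97.TypeR.semiAut_one_fix (hs σ)
  refine ⟨toP sv, toP sb, toP sn, ?_, ?_, ?_, ?_, ?_, ?_, ?_, ?_, ?_, hfix sv ?_, hfix sb ?_,
    hfix sn ?_⟩
  · exact toP_ne_one (i := 0) (j := 1) (by decide) (by simp [sv, smat])
  · exact toP_ne_one (i := 0) (j := 1) (by decide) (by simp [sb, smat])
  · intro e
    obtain ⟨c, hc, he⟩ := H56.toP_eq_iff.1 e
    have h1 := congrFun (congrFun he 0) 0
    simp [sv, sb] at h1
  · rw [← map_mul, ← map_one toP]
    refine toP_eq_neg ?_
    simp only [smat_mul', smat_one']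
    ext i j
    fin_cases i <;> fin_cases j <;> simp [sv, smat, Matrix.mul_apply, Fin.sum_univ_two]
  · rw [← map_mul, ← map_one toP]
    refine toP_eq_neg ?_
    simp only [smat_mul', smat_one']
    ext i j
    fin_cases i <;> fin_cases j <;> simp [sb, smat, Matrix.mul_apply, Fin.sum_univ_two] <;>
      linear_combination h3
  · rw [Commute, SemiconjBy, ← map_mul, ← map_mul]
    refine toP_eq_neg ?_
    simp only [smat_mul', smat_one']
    ext i j
    fin_cases i <;> fin_cases j <;> simp [sv, sb, smat, Matrix.mul_apply, Fin.sum_univ_two]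
  · haveI : Fact (Nat.Prime 3) := ⟨Nat.prime_three⟩
    refine orderOf_eq_prime ?_ (toP_ne_one (i := 0) (j := 1) (by decide) (by simp [sn, smat]))
    rw [pow_succ, pow_two, ← map_mul, ← map_mul, ← map_one toP]
    congr 1
    apply Subtype.ext
    show smat (sn * sn * sn) = smat 1
    simp only [smat_mul', smat_one']
    ext i j
    fin_cases i <;> fin_cases j <;> simp [sn, smat, Matrix.mul_apply, Fin.sum_univ_two] <;>
      first | linear_combination h3 | linear_combination -h3 | linear_combination 2 * h3 | linear_combination -2 * h3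
  · rw [mul_inv_eq_iff_eq_mul, ← map_mul, ← map_mul]
    refine toP_eq_neg ?_
    simp only [smat_mul', smat_one']
    ext i j
    fin_cases i <;> fin_cases j <;> simp [sv, sb, sn, smat, Matrix.mul_apply, Fin.sum_univ_two] <;>
      first | linear_combination h3 | linear_combination -h3 | linear_combination 2 * h3 | linear_combination -2 * h3
  · rw [mul_inv_eq_iff_eq_mul, ← map_mul, ← map_mul, ← map_mul]
    refine toP_eq_neg ?_
    simp only [smat_mul', smat_one']
    ext i j
    fin_cases i <;> fin_cases j <;> simp [sv, sb, sn, smat, Matrix.mul_apply, Fin.sum_univ_two] <;>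
      first | linear_combination h3 | linear_combination -h3 | linear_combination 2 * h3 |
        linear_combination -2 * h3
  all_goals
    intro σ
    ext i j
    fin_cases i <;> fin_cases j <;> simp [sv, sb, sn, smat]

namespace PslBase

variable {v b n : P2 F} (B : PslBase v b n)
  (h8 : Fintype.card F % 8 = 3 ∨ Fintype.card F % 8 = 5) (h11 : 11 ≤ Fintype.card F)

include h8 in
theorem odd_card : Odd (Fintype.card F) := Nat.odd_iff.2 (by omega)

include B h8 h11 in
/-- `cen v` contains a non-involution. -/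
theorem exists_cen_sq_ne : ∃ y ∈ cen v, y * y ≠ 1 := by
  obtain ⟨T, hle, -, hodd, -, -, h3, h5'⟩ := H29.Ward.Psl.torus_facts h8 B.v_ne B.v_sq
  have h1 : 1 < Nat.card T := by
    rcases h8 with h | h
    · have := h3 h; omega
    · have := h5' h; omega
  haveI : Nontrivial T := Finite.one_lt_card_iff_nontrivial.1 h1
  obtain ⟨y, hy⟩ := exists_ne (1 : T)
  refine ⟨y, hle y.2, fun e => hy ?_⟩
  exact Subtype.ext (H29.Walter.coprime_two_of_odd
    (Odd.of_dvd_nat hodd (Subgroup.orderOf_dvd_natCard T y.2)) e)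

end PslBase

end Cfsg.Agent.H28.TypeR
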