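import Cfsg.Agent.H72.PiHom.ReeReal
import Cfsg.Agent.H79.Ward.Setup

/-!
# Elements of order prime to `|C(t)|` in groups with the Ree parameters

No such element of prime order commutes with an element `w` of order three: the first column of the
table sums to `1` at the product.
-/

set_option autoImplicit false
set_option linter.unusedSectionVars false
set_option linter.style.haveILetI false

namespace Cfsg.Agent.H28.TypeR

open Subgroup Cfsg Cfsg.Agent Cfsg.Agent.CharBasic
open Cfsg.Agent.H29.Ward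
open Cfsg.Agent.H84.Ward (TData tu)
open Cfsg.Agent.H72.PiHom (ReeParam)

universe u

variable {X : Type u} [Group X] [Finite X] {F : Type} [Field F] [Fintype F] {t : X}

local notation "P2" => Matrix.ProjectiveSpecialLinearGroup (Fin 2) F

/-- An irreducible character of full `p`-degree vanishes at `p`-singular elements. -/
theorem irr_vanish [Fintype X] {p : ℕ} (hp : p.Prime) (χ : IrrCharacter X)
    (hdeg : p ^ (Nat.card X).factorization p ∣ charDegree (χ : X → ℂ)) {y : X}
    (hy : p ∣ orderOf y) : (χ : X → ℂ) y = 0 := by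
  obtain ⟨m, ρ, hρ, hρχ⟩ := χ.2
  haveI := hρ
  have hm : charDegree (χ : X → ℂ) = m := by
    have h2 : (χ : X → ℂ) 1 = (m : ℂ) := by
      rw [← hρχ, Representation.char_one, Module.finrank_fin_fun]
    rw [(H83.charDegree_eq χ.2).1] at h2
    exact_mod_cast h2
  rw [← hρχ]
  exact H26.defect_zero_vanish ρ hp (Nat.ordProj_dvd _ _) (by
    rw [hp.pow_dvd_iff_le_factorization Nat.card_pos.ne']; omega)
    (by rw [Module.finrank_fin_fun, ← hm]; exact hdeg) hy

/-- The parameters in Ward's setting, `q ≥ 19`, with a frame. -/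
theorem exists_reeParam [Fintype X] (h : Hyp X F t) (h19 : 19 ≤ Fintype.card F) :
    ReeParam X F ∧ ∃ (v : X) (f : H29.Ward.Frame X F t v),
      ∀ k ∈ f.P.K, f.P.w * k * f.P.w⁻¹ = k → k = 1 := by
  obtain ⟨v, hv, hv1, hvt, hne, f, hfpf⟩ := H79.Ward.exists_frame_fpf h (by
    intro v hv hv1 hvt hne hk
    obtain ⟨-, -, -, k3, k5⟩ := h.torusK_facts hv hv1 hvt hne
    rcases h.mod_eight with e | e
    · have := k3 e
      omega
    · have := k5 e
      omega)
  letI : Fintype P2 := Fintype.ofFinite _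
  obtain ⟨m, hm, hq, hcard⟩ := ward_equations h (by omega) f hfpf
    (H15.Ward.toriOfFrame f h.five h.mod_eight).isPslSide
    (H15.Ward.toriOfFrame_torusValues f h.five h.mod_eight)
  exact ⟨⟨⟨m, hm, hq⟩, by rw [hcard, hq]⟩, v, f, hfpf⟩

/-- **No element of prime order prime to `|C(t)|` centralises an element of order three.** -/
theorem not_commute_three (h : Hyp X F t) (h19 : 19 ≤ Fintype.card F) {g w : X}
    (hg : (orderOf g).Prime) (hgt : ¬ orderOf g ∣ Nat.card (centralizer ({t} : Set X)))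
    (hw : orderOf w = 3) (hgw : Commute g w) : False := by
  classical
  letI : Fintype X := Fintype.ofFinite _
  letI : Fintype P2 := Fintype.ofFinite _
  obtain ⟨P, v, f, hfpf⟩ := exists_reeParam h h19
  set T := H15.Ward.toriOfFrame f h.five h.mod_eight
  set C := cols f.D T.isPslSide (h.signedQ_spec P.eleven).1 (h.signedQ_spec P.eleven).2
    (f.conj_invol h) with hC
  obtain ⟨s, hs, E, N, R⟩ := H72.PiHom.exists_reeData h P f hfpf T.isPslSide
    (H15.Ward.toriOfFrame_torusValues f h.five h.mod_eight)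
  obtain ⟨l, hl⟩ : ∃ l, l = orderOf g := ⟨_, rfl⟩
  rw [← hl] at hg hgt
  obtain ⟨q, hq⟩ : ∃ q, q = Fintype.card F := ⟨_, rfl⟩
  have hq27 : 27 ≤ q := hq ▸ P.big
  have hct : Nat.card (centralizer ({t} : Set X)) = q * (q ^ 2 - 1) := by
    rw [h.card_centralizer, H56.CTwoAb.card_psl_two_odd (Nat.odd_iff.1 h.odd), hq]
  rw [hct] at hgt
  have hG : Nat.card X = q ^ 3 * (q ^ 3 + 1) * (q - 1) := by rw [P.card, hq]
  obtain ⟨M, hM⟩ : ∃ M, M + q = q ^ 2 + 1 :=
    ⟨q ^ 2 + 1 - q, Nat.sub_add_cancel ((Nat.le_self_pow two_ne_zero q).trans (Nat.le_succ _))⟩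
  have hMZ : (M : ℤ) = (q : ℤ) ^ 2 - q + 1 := by
    have : ((M + q : ℕ) : ℤ) = ((q ^ 2 + 1 : ℕ) : ℤ) := by rw [hM]
    push_cast at this
    linarith
  have hG' : Nat.card X = q ^ 2 * (q * (q ^ 2 - 1)) * M := by
    have e : (Nat.card X : ℤ) = ((q ^ 2 * (q * (q ^ 2 - 1)) * M : ℕ) : ℤ) := by
      rw [hG]
      push_cast [Nat.cast_sub (show 1 ≤ q by omega), Nat.cast_sub (Nat.one_le_pow 2 q (by omega))]
      rw [hMZ]; ring
    exact_mod_cast e
  have hlq : ¬ l ∣ q := fun e => hgt (e.mul_right _)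
  have hlc : (l ^ (Nat.card X).factorization l).Coprime (q ^ 2 * (q * (q ^ 2 - 1))) :=
    Nat.Coprime.pow_left _ (Nat.Coprime.mul_right
      ((hg.coprime_iff_not_dvd.2 hlq).pow_right _) (hg.coprime_iff_not_dvd.2 hgt))
  have hle : l ^ (Nat.card X).factorization l ∣ M := by
    refine hlc.dvd_of_dvd_mul_left ?_
    rw [← hG']
    exact Nat.ordProj_dvd _ _
  -- the product
  obtain ⟨m, -, hqm⟩ := P.q_eq
  have hl3 : l ≠ 3 := fun e => hlq (by rw [e, hq, hqm]; exact dvd_pow_self 3 (by omega))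
  have hl2 : l ≠ 2 := fun e => hgt (by
    have := P.mod_eight
    rw [← hq] at this
    refine Dvd.dvd.mul_left ?_ _
    obtain ⟨k, rfl⟩ : ∃ k, q = 2 * k + 1 := ⟨q / 2, by omega⟩
    rw [e]
    refine ⟨2 * (k * k) + 2 * k, ?_⟩
    rw [Nat.sub_eq_iff_eq_add (Nat.one_le_pow 2 _ (by omega))]
    ring)
  have hy : orderOf (g * w) = l * 3 := by
    rw [hgw.orderOf_mul_eq_mul_orderOf_of_coprime (by
      rw [← hl, hw]; exact (Nat.coprime_primes hg Nat.prime_three).2 hl3), ← hl, hw]
  have hyo : Odd (orderOf (g * w)) := hy ▸ (hg.odd_of_ne_two hl2).mul (by decide)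
  -- the column vanishes there
  have hF : f.D.F (T.side.θ (.inl 0)) (g * w) = 0 := by
    refine f.D.F_eq_zero (T.side.van (.inl 0)) fun x a _ e => ?_
    rw [show x⁻¹ * (g * w) * x = MulAut.conj x⁻¹ (g * w) by simp] at e
    have h2 := congrArg orderOf e
    rw [MulEquiv.orderOf_eq, orderOf_injective f.D.emb f.D.emb_injective, Prod.orderOf,
      orderOf_eq_prime (by rw [pow_two, H84.Ward.tu_mul_self]) H84.Ward.tu_ne_one] at h2
    rw [h2] at hyo
    exact Nat.not_even_iff_odd.2 hyo (even_iff_two_dvd.2 (Nat.dvd_lcm_left _ _))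
  have hexp := f.D.expansion (T.side.van (.inl 0)) (g * w)
  rw [hF] at hexp
  -- only four rows count
  set c : IrrCharacter X → ℂ := fun χ => (s χ : ℂ) * (χ : X → ℂ) (g * w) with hc
  have hsum : ∑ x, ((C.flip hs).a 0 x : ℂ) * c x = 0 := by
    rw [← hexp]
    refine Finset.sum_congr rfl fun χ _ => ?_
    show ((s χ * f.D.d T.side (.inl 0) χ : ℤ) : ℂ) * _ = _
    have h2 : ((s χ : ℂ) * (s χ : ℂ)) = 1 := by exact_mod_cast hs.sq χ
    rw [hc]
    push_cast
    show (s χ : ℂ) * (f.D.coef _ χ : ℂ) * _ = _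
    linear_combination ((f.D.coef (T.side.van (.inl 0)) χ : ℂ) * (χ : X → ℂ) (g * w)) * h2
  have hsupp : ∑ x ∈ H64.Ward.supp ((C.flip hs).a 0), c x = 0 := by
    rw [← hsum, ← Finset.sum_subset (Finset.subset_univ (H64.Ward.supp ((C.flip hs).a 0))) fun x _ hx => by
      rw [N.ind 0 x, if_neg hx]; simp]
    exact Finset.sum_congr rfl fun x hx => by rw [N.ind 0 x, if_pos hx]; simp
  have hvan : ∀ (p : ℕ) (χ : IrrCharacter X), p.Prime → p ∣ orderOf (g * w) →
      ((p ^ (Nat.card X).factorization p : ℕ) : ℤ) ∣ (C.flip hs).deg χ → c χ = 0 := by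
    intro p χ hp hpy hd
    have h0 : p ^ (Nat.card X).factorization p ∣ charDegree (χ : X → ℂ) :=
      Int.natCast_dvd_natCast.1 (((IsUnit.of_mul_eq_one _ (hs.sq χ)).dvd_mul_left).1 hd)
    show (s χ : ℂ) * _ = 0
    rw [irr_vanish hp χ h0 hpy, mul_zero]
  have h3e : 3 ^ (Nat.card X).factorization 3 ∣ q ^ 3 := by
    refine (Nat.Coprime.pow_left _ ?_).dvd_of_dvd_mul_right
      (n := (q ^ 3 + 1) * (q - 1)) (by rw [← mul_assoc, ← hG]; exact Nat.ordProj_dvd _ _)
    have h3q : 3 ∣ q := by rw [hq, hqm]; exact dvd_pow_self 3 (by omega)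
    refine Nat.Coprime.mul_right ?_ ((Nat.prime_three.coprime_iff_not_dvd).2 (by omega))
    exact (Nat.prime_three.coprime_iff_not_dvd).2 fun e =>
      Nat.prime_three.ne_one (Nat.dvd_one.1 ((Nat.dvd_add_right (h3q.trans (dvd_pow_self q three_ne_zero))).1 e))
  have cA : c E.A = 0 := hvan l _ hg (hy ▸ dvd_mul_right _ _) (by
    rw [R.dA, ← hq, ← hMZ]; exact (Int.natCast_dvd_natCast.2 hle).neg_right)
  have cS : c E.S = 0 := hvan l _ hg (hy ▸ dvd_mul_right _ _) (by
    rw [R.dS, ← hq, ← hMZ]; exact ((Int.natCast_dvd_natCast.2 hle).neg_right).mul_left _)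
  have cT : c E.T = 0 := hvan 3 _ Nat.prime_three (hy ▸ dvd_mul_left _ _) (by
    rw [R.dT, ← hq]; exact_mod_cast h3e)
  have c1 : c (C.flip hs).one = 1 := by
    show (s (H36.SelfCentral.triv X) : ℂ) * (1 : ℂ) = 1
    rw [hs.one]; simp
  have nA := E.nodA
  simp only [List.nodup_cons, List.mem_cons, not_or, List.not_mem_nil, not_false_iff, and_true,
    List.nodup_nil] at nA
  rw [E.suppA] at hsupp
  simp [nA, cA, cS, cT] at hsupp
  exact one_ne_zero (c1.symm.trans hsupp)

end Cfsg.Agent.H28.TypeR
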