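import Cfsg.Agent.H28.TypeR.TransferLemma

/-!
Counting involutions, and the primes dividing the number of involutions of a group of Ree order.
-/

set_option autoImplicit false

namespace Cfsg.Agent.H28.TypeR

open Subgroup

/-- One class of involutions: their number is the index of a centraliser. -/
theorem card_invol_mul {X : Type*} [Group X] [Finite X] {u : X} (hu : orderOf u = 2)
    (hone : ∀ s : X, orderOf s = 2 → IsConj u s) :
    Nat.card {s : X // orderOf s = 2} * Nat.card (centralizer ({u} : Set X)) = Nat.card X := by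
  have h1 : Nat.card {s : X // orderOf s = 2} =
      Nat.card (X ⧸ centralizer ({u} : Set X)) := by
    have h := card_fixed_cosets u (1 : X)
    simp only [one_smul, Commute.one_left, and_true] at h
    rw [Nat.card_congr (Equiv.subtypeUnivEquiv fun _ => trivial)] at h
    rw [h]
    refine Nat.card_congr (Equiv.subtypeEquivRight fun s => ⟨hone s, fun hs => ?_⟩)
    obtain ⟨c, rfl⟩ := isConj_iff.1 hs
    rw [show c * u * c⁻¹ = MulAut.conj c u from rfl, MulEquiv.orderOf_eq, hu]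
  rw [h1, ← Subgroup.index_eq_card]
  exact (centralizer ({u} : Set X)).index_mul_card

/-- The number of involutions of a group of Ree order with `C(u) ≅ 2 × PSL₂(q)`. -/
theorem card_invol_ree {X : Type*} [Group X] [Finite X] {u : X} {m : ℕ} (hu : orderOf u = 2)
    (hone : ∀ s : X, orderOf s = 2 → IsConj u s)
    (hX : Nat.card X = (3 ^ m) ^ 3 * ((3 ^ m) ^ 3 + 1) * (3 ^ m - 1))
    (hC : Nat.card (centralizer ({u} : Set X)) = 3 ^ m * ((3 ^ m) ^ 2 - 1)) :
    Nat.card {s : X // orderOf s = 2} = (3 ^ m) ^ 2 * ((3 ^ m) ^ 2 - 3 ^ m + 1) := by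
  have h := card_invol_mul hu hone
  have h0 : 0 < Nat.card (centralizer ({u} : Set X)) := Nat.card_pos
  rw [hX] at h
  refine Nat.eq_of_mul_eq_mul_right h0 (h.trans ?_)
  rw [hC]
  have h1 : 1 ≤ 3 ^ m := Nat.one_le_pow _ _ (by norm_num)
  generalize 3 ^ m = q at h1
  have h2 : q ≤ q ^ 2 := Nat.le_self_pow two_ne_zero q
  zify [h1, h2, Nat.one_le_pow 2 q h1]
  ring

theorem dvd_ree_factor {r m : ℕ} (hr : r.Prime) (hr3 : r ≠ 3)
    (h : r ∣ (3 ^ m) ^ 2 * ((3 ^ m) ^ 2 - 3 ^ m + 1)) : r ∣ (3 ^ m) ^ 2 - 3 ^ m + 1 := by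
  rcases hr.dvd_mul.1 h with h1 | h1
  · exact absurd ((Nat.prime_dvd_prime_iff_eq hr Nat.prime_three).1
      (hr.dvd_of_dvd_pow (hr.dvd_of_dvd_pow h1))) hr3
  · exact h1

theorem prime_dvd_small {r n : ℕ} (hr : r.Prime) (hn : n = 7 ∨ n = 63) (h : r ∣ n) :
    r = 3 ∨ r = 7 := by
  rcases hn with rfl | rfl
  · exact Or.inr ((Nat.prime_dvd_prime_iff_eq hr (by norm_num)).1 h)
  · rcases hr.dvd_mul.1 (show r ∣ 3 ^ 2 * 7 by norm_num; exact h) with h1 | h1
    · exact Or.inl ((Nat.prime_dvd_prime_iff_eq hr Nat.prime_three).1 (hr.dvd_of_dvd_pow h1))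
    · exact Or.inr ((Nat.prime_dvd_prime_iff_eq hr (by norm_num)).1 h1)

theorem prime_dvd_j1 {r : ℕ} (hr : r.Prime) (h : r ∣ 1463) : r = 7 ∨ r = 11 ∨ r = 19 := by
  rcases hr.dvd_mul.1 (show r ∣ 7 * 11 * 19 by norm_num; exact h) with h1 | h1
  · rcases hr.dvd_mul.1 h1 with h2 | h2
    · exact Or.inl ((Nat.prime_dvd_prime_iff_eq hr (by norm_num)).1 h2)
    · exact Or.inr (Or.inl ((Nat.prime_dvd_prime_iff_eq hr (by norm_num)).1 h2))
  · exact Or.inr (Or.inr ((Nat.prime_dvd_prime_iff_eq hr (by norm_num)).1 h1))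

end Cfsg.Agent.H28.TypeR
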